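import Groth.Agent.Lib.JacCrit.FlatRegular
import Groth.Agent.Lib.QDepth.FlatFibre
import Groth.Agent.H18.SerreCrit
import Groth.Prelude.Def_EGA4b
import Mathlib.RingTheory.Ideal.GoingDown
import Mathlib.RingTheory.RingHom.Flat

/-!
# Ascent of `(R_k)` and `(S_k)` along flat maps with regular fibres
-/

universe u

open IsLocalRing LocCoh Pointwise Groth.Agent.Lib.Depth

set_option linter.style.haveILetI false
set_option linter.unusedSectionVars false

namespace Groth.Agent.Lib.AnLoc.FlatAscent

section Local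

variable (A B : Type u) [CommRing A] [CommRing B] [IsLocalRing A] [IsLocalRing B]
  [IsNoetherianRing A] [IsNoetherianRing B] [Algebra A B] [IsLocalHom (algebraMap A B)]
  [Module.Flat A B]

theorem ringKrullDim_eq :
    ringKrullDim B = ringKrullDim A + ringKrullDim (B ⧸ (maximalIdeal A).map (algebraMap A B)) := by
  set I := (maximalIdeal A).map (algebraMap A B)
  have hlies : (maximalIdeal B).LiesOver (maximalIdeal A) :=
    ⟨((IsLocalRing.local_hom_TFAE _).out 0 4 (rfl) (rfl)).mp ‹_› |>.symm⟩
  have : Nontrivial (B ⧸ I) := Ideal.Quotient.nontrivial_iff.mpr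
    (fun h => (maximalIdeal.isMaximal B).ne_top (top_le_iff.mp (h ▸ IsLocalRing.map_maximalIdeal_le (algebraMap A B))))
  have : IsLocalRing (B ⧸ I) := IsLocalRing.of_surjective' _ Ideal.Quotient.mk_surjective
  have h := Ideal.height_eq_height_add_of_liesOver_of_hasGoingDown (maximalIdeal A) (maximalIdeal B)
  rw [IsLocalRing.map_maximalIdeal_of_surjective _ Ideal.Quotient.mk_surjective] at h
  rw [← maximalIdeal_height_eq_ringKrullDim, ← maximalIdeal_height_eq_ringKrullDim,
    ← maximalIdeal_height_eq_ringKrullDim, h, WithBot.coe_add]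

end Local

/-- `depth B ≥ depth A + depth` of the closed fibre. -/
theorem le_depth : ∀ (d : ℕ) (A B : Type u) [CommRing A] [IsLocalRing A] [IsNoetherianRing A]
    [CommRing B] [IsLocalRing B] [IsNoetherianRing B] [Algebra A B] [IsLocalHom (algebraMap A B)]
    [Module.Flat A B], (d : ℕ∞) ≤ depth A A → ∀ e : ℕ,
    (e : ℕ∞) ≤ idealDepth (maximalIdeal B) (B ⧸ (maximalIdeal A).map (algebraMap A B)) →
    ((d + e : ℕ) : ℕ∞) ≤ depth B B := by
  intro d
  induction d with
  | zero =>
    intro A B _ _ _ _ _ _ _ _ _ _ e he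
    rw [zero_add]
    exact QDepth.le_idealDepth_of_fibre (A := A) (maximalIdeal B)
      (((maximalIdeal A).map (algebraMap A B)).mkQ) (Submodule.mkQ_surjective _)
      (by rw [Submodule.ker_mkQ, smul_eq_mul, Ideal.mul_top]) he
  | succ d ih =>
    intro A B _ _ _ _ _ _ _ _ _ hd e he
    have hI := Basic.smul_top_ne_top (R := A) (M := A) (I := maximalIdeal A) Ideal.IsPrime.ne_top'
    obtain ⟨x, hx, hreg, hd'⟩ := Basic.exists_isSMulRegular_of_succ_le hI (n := d) hd
    set y := algebraMap A B x with hy
    have hyB : y ∈ maximalIdeal B := IsLocalRing.map_maximalIdeal_le (algebraMap A B) (Ideal.mem_map_of_mem _ hx)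
    have hregB : IsSMulRegular B y := by
      have h1 := RingTheory.Sequence.IsWeaklyRegular.of_flat (S := B)
        ((RingTheory.Sequence.isWeaklyRegular_singleton_iff A x).mpr hreg)
      exact (RingTheory.Sequence.isWeaklyRegular_singleton_iff B _).mp h1
    let I := Ideal.span ({x} : Set A)
    let J := I.map (algebraMap A B)
    have hJ : J = Ideal.span {y} := by
      show Ideal.map _ (Ideal.span {x}) = _
      rw [Ideal.map_span, Set.image_singleton]
    have hIle : I ≤ maximalIdeal A := (Ideal.span_singleton_le_iff_mem _).mpr hx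
    have hJle : J ≤ maximalIdeal B := hJ ▸ (Ideal.span_singleton_le_iff_mem _).mpr hyB
    have : Nontrivial (A ⧸ I) := Ideal.Quotient.nontrivial_iff.mpr
      fun h => (maximalIdeal.isMaximal A).ne_top (top_le_iff.mp (h ▸ hIle))
    have : Nontrivial (B ⧸ J) := Ideal.Quotient.nontrivial_iff.mpr
      fun h => (maximalIdeal.isMaximal B).ne_top (top_le_iff.mp (h ▸ hJle))
    have : IsLocalRing (A ⧸ I) := IsLocalRing.of_surjective' _ Ideal.Quotient.mk_surjective
    have : IsLocalRing (B ⧸ J) := IsLocalRing.of_surjective' _ Ideal.Quotient.mk_surjective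
    have : Module.Flat (A ⧸ I) (B ⧸ J) := Module.Flat.of_linearEquiv
      (Algebra.TensorProduct.quotIdealMapEquivQuotTensor B I).toLinearEquiv
    have hmA := IsLocalRing.map_maximalIdeal_of_surjective (Ideal.Quotient.mk I) Ideal.Quotient.mk_surjective
    have hmB := IsLocalRing.map_maximalIdeal_of_surjective (Ideal.Quotient.mk J) Ideal.Quotient.mk_surjective
    have hm' : (maximalIdeal (A ⧸ I)).map (algebraMap (A ⧸ I) (B ⧸ J)) =
        ((maximalIdeal A).map (algebraMap A B)).map (Ideal.Quotient.mk J) := by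
      rw [← hmA, Ideal.map_map, Ideal.map_map]
      rfl
    have : IsLocalHom (algebraMap (A ⧸ I) (B ⧸ J)) :=
      ((IsLocalRing.local_hom_TFAE (algebraMap (A ⧸ I) (B ⧸ J))).out 0 2).mpr (by
        rw [hm', ← hmB]; exact Ideal.map_mono (IsLocalRing.map_maximalIdeal_le _))
    have hdA : (d : ℕ∞) ≤ depth (A ⧸ I) (A ⧸ I) := by
      rw [← CM.depth_quotient_eq, Basic.depth_congr (Submodule.quotEquivOfEq I
        (x • ⊤) (by rw [← Submodule.ideal_span_singleton_smul, smul_eq_mul, Ideal.mul_top]))]
      exact hd'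
    let K := (maximalIdeal A).map (algebraMap A B)
    have hJK : J ≤ K := Ideal.map_mono hIle
    have heB : (e : ℕ∞) ≤ idealDepth (maximalIdeal (B ⧸ J))
        ((B ⧸ J) ⧸ (maximalIdeal (A ⧸ I)).map (algebraMap (A ⧸ I) (B ⧸ J))) := by
      refine he.trans (le_of_eq ?_)
      have e1 : (B ⧸ K) ≃ₗ[B] ((B ⧸ J) ⧸ (maximalIdeal (A ⧸ I)).map (algebraMap (A ⧸ I) (B ⧸ J))) :=
        ((Submodule.quotientQuotientEquivQuotient J K hJK).symm ≪≫ₗ Submodule.quotEquivOfEq _
          (((maximalIdeal (A ⧸ I)).map (algebraMap (A ⧸ I) (B ⧸ J))).restrictScalars B) (by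
            rw [hm']
            ext z
            rw [Submodule.restrictScalars_mem, Ideal.mem_map_iff_of_surjective _ Ideal.Quotient.mk_surjective,
              Submodule.mem_map]
            rfl)) ≪≫ₗ Submodule.Quotient.restrictScalarsEquiv B _
      rw [Basic.idealDepth_congr (maximalIdeal B) e1, ← hmB]
      exact Basic.idealDepth_eq_map_of_surjective Ideal.Quotient.mk_surjective (maximalIdeal B)
    have h2 := ih (A ⧸ I) (B ⧸ J) hdA e heB
    rw [← CM.depth_quotient_eq, Basic.depth_congr (Submodule.quotEquivOfEq J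
      (y • ⊤) (by rw [hJ, ← Submodule.ideal_span_singleton_smul, smul_eq_mul, Ideal.mul_top]))] at h2
    rw [show d + 1 + e = (d + e) + 1 by omega]
    exact (SES.succ_le_idealDepth_iff (maximalIdeal B) hyB hregB _).mpr h2

section Global

variable {A B : Type u} [CommRing A] [CommRing B] [IsNoetherianRing A] [IsNoetherianRing B]
  [Algebra A B] [Module.Flat A B]

variable (hfib : ∀ (Q : Ideal B) [Q.IsPrime], IsRegularLocalRing (EGA4.FibLocRing A B Q))

include hfib in
theorem local_props (Q : Ideal B) [Q.IsPrime] :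
    letI := (Localization.localRingHom (Q.comap (algebraMap A B)) Q (algebraMap A B) rfl).toAlgebra
    IsLocalHom (algebraMap (Localization.AtPrime (Q.comap (algebraMap A B))) (Localization.AtPrime Q)) ∧
    Module.Flat (Localization.AtPrime (Q.comap (algebraMap A B))) (Localization.AtPrime Q) ∧
    IsRegularLocalRing (Localization.AtPrime Q ⧸ (maximalIdeal (Localization.AtPrime (Q.comap (algebraMap A B)))).map
      (algebraMap (Localization.AtPrime (Q.comap (algebraMap A B))) (Localization.AtPrime Q))) := by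
  letI := (Localization.localRingHom (Q.comap (algebraMap A B)) Q (algebraMap A B) rfl).toAlgebra
  refine ⟨inferInstanceAs (IsLocalHom (Localization.localRingHom _ Q (algebraMap A B) rfl)),
    RingHom.Flat.localRingHom (f := algebraMap A B) (by rwa [RingHom.flat_algebraMap_iff]) Q _ rfl, ?_⟩
  have hI : (maximalIdeal (Localization.AtPrime (Q.comap (algebraMap A B)))).map
      (algebraMap (Localization.AtPrime (Q.comap (algebraMap A B))) (Localization.AtPrime Q)) =
      (Q.comap (algebraMap A B)).map (algebraMap A (Localization.AtPrime Q)) := by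
    rw [← Localization.AtPrime.map_eq_maximalIdeal, Ideal.map_map]
    congr 1
    ext a
    rw [RingHom.comp_apply, RingHom.algebraMap_toAlgebra, Localization.localRingHom_to_map,
      ← IsScalarTower.algebraMap_apply]
  exact IsRegularLocalRing.of_ringEquiv (Ideal.quotEquivOfEq hI.symm)

include hfib in
theorem hasRk (k : ℕ) (h : HasRk k A) : HasRk k B := by
  rw [H18.SerreCrit.hasRk_iff] at h ⊢
  intro Q _ hd
  letI := (Localization.localRingHom (Q.comap (algebraMap A B)) Q (algebraMap A B) rfl).toAlgebra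
  obtain ⟨_, _, hF⟩ := local_props hfib Q
  have hdim := ringKrullDim_eq (Localization.AtPrime (Q.comap (algebraMap A B))) (Localization.AtPrime Q)
  have := h (Q.comap (algebraMap A B)) (by
    refine le_trans ?_ (hdim ▸ hd)
    exact le_add_of_nonneg_right ringKrullDim_nonneg_of_nontrivial)
  exact JacCrit.FlatRegular.isRegularLocalRing (A := Localization.AtPrime (Q.comap (algebraMap A B)))
    (B := Localization.AtPrime Q) (le_of_eq (by rw [hdim, add_comm]))

include hfib in
theorem hasSk (k : ℕ) (h : HasSk k A A) : HasSk k B B := by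
  rw [H18.SerreCrit.hasSk_iff] at h ⊢
  intro Q _ _ j hj hd
  letI := (Localization.localRingHom (Q.comap (algebraMap A B)) Q (algebraMap A B) rfl).toAlgebra
  obtain ⟨_, _, hF⟩ := local_props hfib Q
  set P := Localization.AtPrime (Q.comap (algebraMap A B))
  set L := Localization.AtPrime Q
  set K := (maximalIdeal P).map (algebraMap P L)
  rw [ringKrullDim_eq P L] at hd
  obtain ⟨a, ha⟩ := CM.supportDim_eq_nat (R := P) P
  obtain ⟨b, hb⟩ := CM.supportDim_eq_nat (R := L ⧸ K) (L ⧸ K)
  rw [Module.supportDim_self_eq_ringKrullDim] at ha hb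
  rw [ha, hb] at hd
  have hd' : j ≤ a + b := by exact_mod_cast hd
  have hA : ((min j a : ℕ) : ℕ∞) ≤ depth P P :=
    h (Q.comap (algebraMap A B)) inferInstance _ ((min_le_left _ _).trans hj)
      (le_of_le_of_eq (by exact_mod_cast min_le_right j a) ha.symm)
  have := JacCrit.FlatRegular.isCohenMacaulayLocalRing (L ⧸ K)
  have hdF := CM.ringKrullDim_eq_depth (R := L ⧸ K)
  rw [hb] at hdF
  have hbd : (b : ℕ∞) = depth (L ⧸ K) (L ⧸ K) := WithBot.coe_inj.mp hdF
  rw [← CM.depth_quotient_eq] at hbd
  have hF : ((j - min j a : ℕ) : ℕ∞) ≤ idealDepth (maximalIdeal L) (L ⧸ K) :=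
    le_trans (Nat.cast_le.mpr (by omega)) hbd.le
  exact le_trans (Nat.cast_le.mpr (by omega)) (le_depth _ P L hA _ hF)

end Global

end Groth.Agent.Lib.AnLoc.FlatAscent
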