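import Mathlib.Analysis.Complex.Polynomial.Basic
import Mathlib.RingTheory.NoetherNormalization
import Mathlib.RingTheory.Jacobson.Ring
import Mathlib.RingTheory.Jacobson.Ideal
import Mathlib.RingTheory.Filtration
import Mathlib.RingTheory.Trace.Basic
import Mathlib.RingTheory.MvPolynomial.Homogeneous
import Mathlib.RingTheory.Polynomial.UniqueFactorization
import Mathlib.FieldTheory.Minpoly.IsIntegrallyClosed
import Mathlib.LinearAlgebra.Matrix.Nondegenerate
import Mathlib.LinearAlgebra.Matrix.BilinearForm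
import Mathlib.Algebra.MvPolynomial.Funext
import Mathlib.RingTheory.Ideal.MinimalPrime.Noetherian
import Mathlib.RingTheory.Polynomial.RationalRoot

/-!
# Functions small of high order at a point lie in a high power of its maximal ideal
-/

set_option linter.unusedSectionVars false
set_option linter.style.haveILetI false

noncomputable section

open scoped BigOperators nonZeroDivisors

namespace Groth.Agent.Lib.AnLoc.Estimate

variable {A : Type} [CommRing A] [Algebra ℂ A]

/-- Maximal ideals are kernels of points. -/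
theorem exists_point [Algebra.FiniteType ℂ A] (m : Ideal A) [m.IsMaximal] :
    ∃ ψ : A →ₐ[ℂ] ℂ, RingHom.ker ψ = m := by
  letI := Ideal.Quotient.field m
  haveI : Module.Finite ℂ (A ⧸ m) := finite_of_finite_type_of_isJacobsonRing ℂ (A ⧸ m)
  let e : ℂ ≃ₐ[ℂ] A ⧸ m := AlgEquiv.ofBijective (Algebra.ofId ℂ _)
    IsAlgClosed.algebraMap_bijective_of_isIntegral
  refine ⟨e.symm.toAlgHom.comp (Ideal.Quotient.mkₐ ℂ m), ?_⟩
  ext a
  simp [RingHom.mem_ker, Ideal.Quotient.eq_zero_iff_mem]

theorem mem_radical_of_forall_point [Algebra.FiniteType ℂ A] (I : Ideal A) (u : A)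
    (h : ∀ ψ : A →ₐ[ℂ] ℂ, I ≤ RingHom.ker ψ → ψ u = 0) : u ∈ I.radical := by
  haveI : IsJacobsonRing A := isJacobsonRing_of_finiteType (A := ℂ) (B := A)
  rw [Ideal.radical_eq_jacobson]
  refine Ideal.mem_sInf.mpr fun {m} hm => ?_
  haveI := hm.2
  obtain ⟨ψ, hψ⟩ := exists_point m
  rw [← hψ, RingHom.mem_ker]
  exact h ψ (hψ.symm ▸ hm.1)

/-- A function is `O(‖t‖^N)` at the zero of `t`. -/
def Small {n : ℕ} (t : Fin n → A) (N : ℕ) (q : A) : Prop :=
  ∃ C δ : ℝ, 0 < δ ∧ ∀ ψ : A →ₐ[ℂ] ℂ, ‖fun i => ψ (t i)‖ < δ → ‖ψ q‖ ≤ C * ‖fun i => ψ (t i)‖ ^ N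

section Poly

variable {d : ℕ}

lemma norm_eval_le (c : MvPolynomial (Fin d) ℂ) :
    ∃ C, 0 ≤ C ∧ ∀ w : Fin d → ℂ, ‖w‖ ≤ 1 → ‖MvPolynomial.eval w c‖ ≤ C := by
  refine ⟨∑ α ∈ c.support, ‖MvPolynomial.coeff α c‖, Finset.sum_nonneg fun _ _ => norm_nonneg _,
    fun w hw => ?_⟩
  rw [MvPolynomial.eval_eq']
  refine (norm_sum_le _ _).trans (Finset.sum_le_sum fun α _ => ?_)
  rw [norm_mul, norm_prod]
  refine mul_le_of_le_one_right (norm_nonneg _) (Finset.prod_le_one (fun i _ => norm_nonneg _) fun i _ => ?_)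
  rw [norm_pow]
  exact pow_le_one₀ (norm_nonneg _) ((norm_le_pi_norm w i).trans hw)

lemma one_var_coeff_eq_zero {p : Polynomial ℂ} {m : ℕ} {C : ℝ}
    (h : ∀ᶠ s in nhds (0 : ℂ), ‖p.eval s‖ ≤ C * ‖s‖ ^ m) : ∀ k < m, p.coeff k = 0 := by
  induction m generalizing p with
  | zero => intro k hk; exact absurd hk (Nat.not_lt_zero k)
  | succ m ih =>
    have h0 : p.coeff 0 = 0 := by
      have := h.self_of_nhds
      rw [norm_zero, zero_pow (Nat.succ_ne_zero m), mul_zero, norm_le_zero_iff,
        ← Polynomial.coeff_zero_eq_eval_zero] at this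
      exact this
    obtain ⟨q, rfl⟩ := Polynomial.X_dvd_iff.mpr h0
    have hq : ∀ᶠ s in nhds (0 : ℂ), ‖q.eval s‖ ≤ C * ‖s‖ ^ m := by
      have h1 : ∀ᶠ s in nhdsWithin (0 : ℂ) {0}ᶜ, ‖q.eval s‖ ≤ C * ‖s‖ ^ m := by
        filter_upwards [nhdsWithin_le_nhds h, self_mem_nhdsWithin] with s hs hs0
        rw [Polynomial.eval_mul, Polynomial.eval_X, norm_mul, pow_succ, ← mul_assoc, mul_comm ‖s‖] at hs
        exact le_of_mul_le_mul_right hs (norm_pos_iff.mpr hs0)
      have h2 : ‖q.eval 0‖ ≤ C * ‖(0 : ℂ)‖ ^ m :=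
        le_of_tendsto_of_tendsto ((q.continuous.norm.tendsto 0).mono_left nhdsWithin_le_nhds)
          (((continuous_const.mul (continuous_norm.pow m)).tendsto (0 : ℂ)).mono_left nhdsWithin_le_nhds) h1
      filter_upwards [eventually_nhdsWithin_iff.mp h1] with s hs
      rcases eq_or_ne s 0 with rfl | hs0
      · exact h2
      · exact hs hs0
    intro k hk
    rcases k with _ | k
    · exact h0
    · rw [Polynomial.coeff_X_mul]
      exact ih hq k (Nat.lt_of_succ_lt_succ hk)

theorem mem_span_X_pow (p : MvPolynomial (Fin d) ℂ) (m : ℕ) (C δ : ℝ) (hδ : 0 < δ)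
    (h : ∀ w, ‖w‖ < δ → ‖MvPolynomial.eval w p‖ ≤ C * ‖w‖ ^ m) :
    p ∈ (Ideal.span (Set.range (MvPolynomial.X : Fin d → MvPolynomial (Fin d) ℂ))) ^ m := by
  classical
  rw [← MvPolynomial.sum_homogeneousComponent p]
  refine Ideal.sum_mem _ fun j hjr => ?_
  by_cases hj : m ≤ j
  · refine Ideal.pow_le_pow_right hj ?_
    rw [(MvPolynomial.homogeneousComponent j p).as_sum]
    refine Ideal.sum_mem _ fun α hα => ?_
    have hdeg : α.degree = j := by
      have := MvPolynomial.homogeneousComponent_isHomogeneous j p (MvPolynomial.mem_support_iff.mp hα)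
      rwa [Finsupp.degree_eq_weight_one]
    rw [MvPolynomial.monomial_eq]
    refine Ideal.mul_mem_left _ _ ?_
    rw [← hdeg]
    show (∏ i ∈ α.support, MvPolynomial.X i ^ α i) ∈ _ ^ (∑ i ∈ α.support, α i)
    clear hα hdeg
    induction α.support using Finset.induction_on with
    | empty => simp
    | insert i s hi ih =>
      rw [Finset.prod_insert hi, Finset.sum_insert hi, pow_add]
      exact Ideal.mul_mem_mul (Ideal.pow_mem_pow (Ideal.subset_span (Set.mem_range_self i)) _) ih
  · have hz : MvPolynomial.homogeneousComponent j p = 0 := by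
      refine MvPolynomial.funext fun v => ?_
      let g : Polynomial ℂ := MvPolynomial.aeval (fun i => Polynomial.C (v i) * Polynomial.X) p
      have hev : ∀ s, g.eval s = MvPolynomial.eval (s • v) p := by
        intro s
        change (Polynomial.evalRingHom s).comp
          (MvPolynomial.aeval (fun i => Polynomial.C (v i) * Polynomial.X)).toRingHom p = _
        congr 1
        refine MvPolynomial.ringHom_ext (fun c => ?_) fun i => ?_
        · simp
        · simp only [RingHom.comp_apply, AlgHom.toRingHom_eq_coe, RingHom.coe_coe, MvPolynomial.aeval_X,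
            Polynomial.coe_evalRingHom, Polynomial.eval_mul, Polynomial.eval_C, Polynomial.eval_X,
            MvPolynomial.eval_X, Pi.smul_apply, smul_eq_mul]
          ring
      have hb : ∀ᶠ s in nhds (0 : ℂ), ‖g.eval s‖ ≤ (C * ‖v‖ ^ m) * ‖s‖ ^ m := by
        have hc : ∀ᶠ s : ℂ in nhds 0, ‖s • v‖ < δ :=
          ((continuous_id.smul continuous_const).norm.tendsto' (0 : ℂ) 0 (by simp)).eventually_lt_const hδ
        filter_upwards [hc] with s hs
        rw [hev]
        refine (h _ hs).trans (le_of_eq ?_)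
        rw [norm_smul, mul_pow]; ring
      have hcoeff : g.coeff j = MvPolynomial.eval v (MvPolynomial.homogeneousComponent j p) := by
        clear hev hb h hjr
        simp only [g]
        clear g
        induction p using MvPolynomial.induction_on' with
        | monomial α a =>
          rw [MvPolynomial.aeval_monomial, MvPolynomial.homogeneousComponent_of_mem
            (MvPolynomial.isHomogeneous_monomial a rfl), Finsupp.prod_fintype _ _ (fun i => pow_zero _)]
          simp only [mul_pow, Finset.prod_mul_distrib, Finset.prod_pow_eq_pow_sum, ← map_pow, ← map_prod,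
            Polynomial.algebraMap_eq, ← mul_assoc, ← map_mul, Polynomial.coeff_C_mul, Polynomial.coeff_X_pow]
          rw [Finsupp.degree_eq_sum]
          split_ifs with hd
          · simp [MvPolynomial.eval_monomial, Finsupp.prod_fintype]
          · simp
        | add p q hp hq => simp only [map_add, Polynomial.coeff_add, hp, hq]
      rw [← hcoeff, map_zero]
      exact one_var_coeff_eq_zero hb j (not_le.mp hj)
    rw [hz]
    exact zero_mem _

end Poly


section Domain

variable {B : Type} [CommRing B] [Algebra ℂ B] [Algebra.FiniteType ℂ B] {d : ℕ}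
  (g : MvPolynomial (Fin d) ℂ →ₐ[ℂ] B)

/-- The projection of a point. -/
def proj (ψ : B →ₐ[ℂ] ℂ) : Fin d → ℂ := fun i => ψ (g (MvPolynomial.X i))

lemma point_comp (ψ : B →ₐ[ℂ] ℂ) (c : MvPolynomial (Fin d) ℂ) :
    ψ (g c) = MvPolynomial.eval (proj g ψ) c := by
  have : (ψ.comp g) = MvPolynomial.aeval (proj g ψ) :=
    MvPolynomial.algHom_ext fun i => by simp [proj]
  exact DFunLike.congr_fun this c

lemma norm_point_le [IsDomain B] (hfin : g.Finite) (u : B) :
    ∃ C, ∀ ψ : B →ₐ[ℂ] ℂ, ‖proj g ψ‖ ≤ 1 → ‖ψ u‖ ≤ C := by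
  letI := g.toRingHom.toAlgebra
  haveI : Module.Finite (MvPolynomial (Fin d) ℂ) B := hfin
  obtain ⟨P, hPm, hP⟩ := Algebra.IsIntegral.isIntegral (R := MvPolynomial (Fin d) ℂ) u
  choose c hc0 hc using fun l => norm_eval_le (P.coeff l)
  refine ⟨max 1 (∑ l ∈ Finset.range P.natDegree, c l), fun ψ hψ => ?_⟩
  by_contra! hlt
  have h1 : 1 < ‖ψ u‖ := lt_of_le_of_lt (le_max_left _ _) hlt
  have h2 : ∑ l ∈ Finset.range P.natDegree, c l < ‖ψ u‖ := lt_of_le_of_lt (le_max_right _ _) hlt
  have h0 := congrArg ψ hP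
  rw [Polynomial.eval₂_eq_sum_range, Finset.sum_range_succ, hPm.coeff_natDegree, map_one, one_mul,
    map_add, map_sum, map_zero, map_pow] at h0
  obtain ⟨D, hD⟩ : ∃ D, P.natDegree = D + 1 := by
    refine Nat.exists_eq_succ_of_ne_zero fun h => ?_
    rw [h] at h0
    simp at h0
  have h3 : ‖ψ u‖ ^ P.natDegree ≤ (∑ l ∈ Finset.range P.natDegree, c l) * ‖ψ u‖ ^ D := by
    rw [← norm_pow, eq_neg_of_add_eq_zero_right h0, norm_neg, Finset.sum_mul]
    refine (norm_sum_le _ _).trans (Finset.sum_le_sum fun l hl => ?_)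
    rw [map_mul, map_pow, norm_mul, norm_pow]
    refine mul_le_mul ?_ (pow_le_pow_right₀ h1.le ?_) (by positivity) (hc0 l)
    · have := point_comp g ψ (P.coeff l)
      exact le_of_eq_of_le (congrArg (‖·‖) this) (hc l _ hψ)
    · have := Finset.mem_range.mp hl; omega
  rw [hD, pow_succ'] at h3
  have := le_of_mul_le_mul_right h3 (pow_pos (lt_trans one_pos h1) D)
  rw [hD] at h2
  linarith

lemma norm_point_le_proj [IsDomain B] (hfin : g.Finite) (u : B)
    (hu : u ∈ Ideal.span (Set.range fun i => g (MvPolynomial.X i))) :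
    ∃ C, ∀ ψ : B →ₐ[ℂ] ℂ, ‖proj g ψ‖ ≤ 1 → ‖ψ u‖ ≤ C * ‖proj g ψ‖ := by
  classical
  obtain ⟨b, hb⟩ := (Submodule.mem_span_range_iff_exists_fun B).mp hu
  choose C hC using fun i => norm_point_le g hfin (b i)
  refine ⟨∑ i, C i, fun ψ hψ => ?_⟩
  rw [← hb, map_sum, Finset.sum_mul]
  refine (norm_sum_le _ _).trans (Finset.sum_le_sum fun i _ => ?_)
  rw [smul_eq_mul, map_mul, norm_mul]
  exact mul_le_mul (hC i ψ hψ) (norm_le_pi_norm (proj g ψ) i) (norm_nonneg _)
    (le_trans (norm_nonneg _) (hC i ψ hψ))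

end Domain

section Trace

variable {P B : Type} [CommRing P] [CommRing B] [IsDomain B] [Algebra P B]
  [Module.Finite P B] [FaithfulSMul P B] (K L : Type) [Field K] [Field L] [Algebra P K] [IsFractionRing P K]
  [Algebra B L] [IsFractionRing B L] [Algebra P L] [Algebra K L] [IsScalarTower P B L] [IsScalarTower P K L]

theorem exists_basis_of_algebra [IsDomain P] :
    ∃ (n : ℕ) (e : Fin n → B) (b : Module.Basis (Fin n) K L), ∀ i, b i = algebraMap B L (e i) := by
  classical
  haveI : Algebra.IsIntegral P B := inferInstance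
  let T : Submodule K L := Submodule.span K (Set.range (algebraMap B L))
  have hmul : ∀ x ∈ T, ∀ y ∈ T, x * y ∈ T := by
    intro x hx y hy
    induction hx using Submodule.span_induction with
    | mem x hx =>
      induction hy using Submodule.span_induction with
      | mem y hy =>
        obtain ⟨a, rfl⟩ := hx
        obtain ⟨c, rfl⟩ := hy
        exact Submodule.subset_span ⟨a * c, map_mul _ _ _⟩
      | zero => rw [mul_zero]; exact zero_mem _
      | add y z _ _ hy hz => rw [mul_add]; exact add_mem hy hz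
      | smul c y _ hy => rw [mul_smul_comm]; exact Submodule.smul_mem _ _ hy
    | zero => rw [zero_mul]; exact zero_mem _
    | add x z _ _ hx hz => rw [add_mul]; exact add_mem hx hz
    | smul c x _ hx => rw [smul_mul_assoc]; exact Submodule.smul_mem _ _ hx
  let T' : Subalgebra K L := T.toSubalgebra (Submodule.subset_span ⟨1, map_one _⟩) fun x y hx hy => hmul x hx y hy
  have htop : T = ⊤ := by
    rw [eq_top_iff]
    intro l _
    obtain ⟨a, c, hc, rfl⟩ := IsFractionRing.div_surjective B l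
    have hcint : IsIntegral K (algebraMap B L c) :=
      ((Algebra.IsIntegral.isIntegral (R := P) c).map (IsScalarTower.toAlgHom P B L)).tower_top
    have hinv : (algebraMap B L c)⁻¹ ∈ T' :=
      T'.inv_mem_of_algebraic (x := (⟨algebraMap B L c, Submodule.subset_span ⟨c, rfl⟩⟩ : T'))
        hcint.isAlgebraic
    rw [div_eq_mul_inv]
    exact hmul _ (Submodule.subset_span ⟨a, rfl⟩) _ hinv
  obtain ⟨s, hs⟩ := Module.Finite.fg_top (R := P) (M := B)
  haveI : Module.Finite K L := by
    refine ⟨s.image (algebraMap B L), ?_⟩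
    rw [eq_top_iff, ← htop, Submodule.span_le, Finset.coe_image]
    rintro _ ⟨a, rfl⟩
    have ha : a ∈ Submodule.span P (s : Set B) := hs ▸ Submodule.mem_top
    have h1 := Submodule.apply_mem_span_image_of_mem_span (IsScalarTower.toAlgHom P B L).toLinearMap ha
    exact Submodule.span_le_restrictScalars P K _ h1
  obtain ⟨κ, a, -, hspan, hli⟩ := exists_linearIndependent' K (algebraMap B L)
  let b : Module.Basis κ K L := Module.Basis.mk hli (by rw [hspan]; exact htop.ge)
  haveI : Finite κ := Module.Finite.finite_basis b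
  let e := Finite.equivFin κ
  exact ⟨_, fun i => a (e.symm i), b.reindex e, fun i => by simp [b]⟩

variable [IsIntegrallyClosed P] [IsDomain P]

/-- If all traces `tr(h e_i)` lie in an ideal then so does a fixed multiple of `h`. -/
theorem exists_discriminant [CharZero K] :
    ∃ (n : ℕ) (e : Fin n → B) (D : P), D ≠ 0 ∧ ∀ (h : B) (I : Ideal P),
      (∀ i, ∃ t ∈ I, algebraMap P K t = Algebra.trace K L (algebraMap B L (h * e i))) →
        algebraMap P B D * h ∈ I.map (algebraMap P B) := by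
  classical
  obtain ⟨n, e, b, hb⟩ := exists_basis_of_algebra (P := P) (B := B) K L
  haveI : Module.Finite K L := Module.Finite.of_basis b
  haveI : Algebra.IsSeparable K L := Algebra.IsAlgebraic.isSeparable_of_perfectField
  have hT : ∀ i j, ∃ t : P, algebraMap P K t = Algebra.trace K L (b i * b j) := fun i j => by
    rw [hb, hb, ← map_mul]
    exact IsIntegrallyClosed.isIntegral_iff.mp (Algebra.isIntegral_trace
      ((Algebra.IsIntegral.isIntegral (R := P) (e i * e j)).map (IsScalarTower.toAlgHom P B L)))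
  choose T hT using hT
  let M : Matrix (Fin n) (Fin n) P := T
  have hMK : M.map (algebraMap P K) = LinearMap.BilinForm.toMatrix b (Algebra.traceForm K L) := by
    ext i j
    rw [Matrix.map_apply, LinearMap.BilinForm.toMatrix_apply, Algebra.traceForm_apply]
    exact hT i j
  have hdet : M.det ≠ 0 := fun h0 => by
    have h1 := (LinearMap.BilinForm.nondegenerate_iff_det_ne_zero b).mp (traceForm_nondegenerate K L)
    rw [← hMK, ← RingHom.mapMatrix_apply, ← RingHom.map_det, h0, map_zero] at h1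
    exact h1 rfl
  refine ⟨n, e, M.det, hdet, fun h I hI => ?_⟩
  choose t htI ht using hI
  let x : Fin n → P := fun i => ∑ j, M.adjugate i j * t j
  have hxI : ∀ i, x i ∈ I := fun i => Ideal.sum_mem _ fun j _ => I.mul_mem_left _ (htI j)
  have key : algebraMap P B M.det * h = ∑ i, algebraMap P B (x i) * e i := by
    apply IsFractionRing.injective B L
    simp only [map_mul, map_sum, ← IsScalarTower.algebraMap_apply P B L]
    let c : Fin n → K := fun i => b.repr (algebraMap B L h) i
    have hc : (M.map (algebraMap P K)).mulVec c = fun i => algebraMap P K (t i) := by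
      funext i
      rw [ht i, map_mul, ← hb, mul_comm]
      conv_rhs => rw [← b.sum_repr (algebraMap B L h), Finset.mul_sum, map_sum]
      simp only [Matrix.mulVec, dotProduct, Matrix.map_apply]
      refine Finset.sum_congr rfl fun j _ => ?_
      rw [mul_smul_comm, map_smul, smul_eq_mul, mul_comm (c j), hT]
    have hd : ∀ i, algebraMap P K (x i) = algebraMap P K M.det * c i := fun i => by
      have h2 : (M.adjugate.map (algebraMap P K)).mulVec ((M.map (algebraMap P K)).mulVec c) =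
          algebraMap P K M.det • c := by
        rw [Matrix.mulVec_mulVec, ← Matrix.map_mul, Matrix.adjugate_mul]
        funext i
        simp [Matrix.smul_one_eq_diagonal, Matrix.diagonal_map, Matrix.mulVec_diagonal]
      rw [hc] at h2
      simpa [x, Matrix.mulVec, dotProduct, map_sum] using congrFun h2 i
    calc algebraMap P L M.det * algebraMap B L h
        = algebraMap K L (algebraMap P K M.det) * ∑ i, c i • b i := by
          rw [b.sum_repr, ← IsScalarTower.algebraMap_apply P K L]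
      _ = ∑ i, algebraMap P L (x i) * algebraMap B L (e i) := by
          rw [Finset.mul_sum]
          refine Finset.sum_congr rfl fun i _ => ?_
          rw [IsScalarTower.algebraMap_apply P K L (x i), hd, map_mul, Algebra.smul_def, hb, mul_assoc]
  rw [key]
  exact Ideal.sum_mem _ fun i _ => Ideal.mul_mem_right _ _ (Ideal.mem_map_of_mem _ (hxI i))

/-- A bound for a trace by the values at the points of the fibre. -/
theorem norm_trace_le [CharZero K] [FiniteDimensional K L] (χ : P →+* ℂ) (hχ : Function.Surjective χ) (u : B)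
    (t : P) (ht : algebraMap P K t = Algebra.trace K L (algebraMap B L u)) (C : ℝ) (hC : 0 ≤ C)
    (hu : ∀ Q : Ideal B, Q.IsMaximal → Q.comap (algebraMap P B) = RingHom.ker χ →
      ∀ r : ℂ, (∃ a : P, u - algebraMap P B a ∈ Q ∧ χ a = r) → ‖r‖ ≤ C) :
    ‖χ t‖ ≤ Module.finrank K L * (Module.finrank K L * C) := by
  classical
  have huint : IsIntegral P u := Algebra.IsIntegral.isIntegral u
  set μ := minpoly P u with hμ
  have hμK : minpoly K (algebraMap B L u) = μ.map (algebraMap P K) :=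
    minpoly.isIntegrallyClosed_eq_field_fractions K L huint
  have hm : μ.Monic := minpoly.monic huint
  set f := Module.finrank (IntermediateField.adjoin K {algebraMap B L u}) L with hf
  have ht' : t = f * -μ.nextCoeff := by
    apply IsFractionRing.injective P K
    rw [ht, trace_eq_finrank_mul_minpoly_nextCoeff, hμK, Polynomial.nextCoeff_map (IsFractionRing.injective P K)]
    simp [hf]
  have hdeg : (μ.map χ).natDegree ≤ Module.finrank K L := by
    rw [hm.natDegree_map, ← hm.natDegree_map (algebraMap P K), ← hμK]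
    exact minpoly.natDegree_le _
  have hroots : ∀ r ∈ (μ.map χ).roots, ‖r‖ ≤ C := by
    intro r hr
    obtain ⟨a, rfl⟩ := hχ r
    have hsplit : ∀ Q : Ideal B, Q.IsMaximal → u - algebraMap P B a ∈ Q →
        Q.comap (algebraMap P B) = RingHom.ker χ → ‖χ a‖ ≤ C := fun Q hQ h1 h2 =>
      hu Q hQ h2 _ ⟨a, h1, rfl⟩
    let J : Ideal B := Ideal.span {u - algebraMap P B a} ⊔ (RingHom.ker χ).map (algebraMap P B)
    haveI : (RingHom.ker χ).IsMaximal := RingHom.ker_isMaximal_of_surjective χ hχ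
    have hJ : J ≠ ⊤ := by
      intro hJ
      obtain ⟨y, hy, z, hz, hyz⟩ := Submodule.mem_sup.mp ((Ideal.eq_top_iff_one J).mp hJ)
      obtain ⟨w, rfl⟩ := Ideal.mem_span_singleton'.mp hy
      obtain ⟨E, hE⟩ : ∃ E : Algebra.adjoin P ({u} : Set B) →+* ℂ,
          (∀ p, E (algebraMap P _ p) = χ p) ∧ E ⟨u, Algebra.self_mem_adjoin_singleton P u⟩ = χ a := by
        let E0 : AdjoinRoot μ →+* ℂ := AdjoinRoot.lift χ (χ a) (by
          rw [Polynomial.eval₂_eq_eval_map]
          exact (Polynomial.mem_roots'.mp hr).2)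
        refine ⟨E0.comp (minpoly.equivAdjoin huint).symm.toRingHom, fun p => ?_, ?_⟩
        · show E0 ((minpoly.equivAdjoin huint).symm (algebraMap P _ p)) = χ p
          rw [AlgEquiv.commutes]
          rw [AdjoinRoot.algebraMap_eq]
          apply AdjoinRoot.lift_of
        · have : (minpoly.equivAdjoin huint).symm ⟨u, Algebra.self_mem_adjoin_singleton P u⟩ = AdjoinRoot.root μ := by
            rw [AlgEquiv.symm_apply_eq]
            exact Subtype.ext (by simp [minpoly.equivAdjoin, AdjoinRoot.Minpoly.toAdjoin, μ])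
          simp [E0, this]
      let S := Algebra.adjoin P ({u} : Set B)
      haveI : (RingHom.ker E).IsMaximal := RingHom.ker_isMaximal_of_surjective E fun r => by
        obtain ⟨p, rfl⟩ := hχ r
        exact ⟨algebraMap P _ p, hE.1 p⟩
      haveI : Algebra.IsIntegral S B := Algebra.IsIntegral.tower_top P
      obtain ⟨Q, hQ, hQc⟩ := Ideal.exists_ideal_over_maximal_of_isIntegral (S := B) (RingHom.ker E)
        (by rw [(RingHom.injective_iff_ker_eq_bot (algebraMap S B)).mp Subtype.val_injective]; exact bot_le)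
      have hmem : ∀ s : S, E s = 0 → (s : B) ∈ Q := fun s hs => by
        have : s ∈ Q.comap (algebraMap S B) := hQc ▸ hs
        exact this
      have h1 : u - algebraMap P B a ∈ Q := hmem
        (⟨u, Algebra.self_mem_adjoin_singleton P u⟩ - algebraMap P S a) (by rw [map_sub, hE.2, hE.1, sub_self])
      have h2 : (RingHom.ker χ).map (algebraMap P B) ≤ Q :=
        Ideal.map_le_iff_le_comap.mpr fun p hp => hmem (algebraMap P S p) ((hE.1 p).trans hp)
      exact hQ.ne_top ((Ideal.eq_top_iff_one Q).mpr (hyz ▸ add_mem (Ideal.mul_mem_left _ _ h1) (h2 hz)))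
    obtain ⟨Q, hQ, hJQ⟩ := J.exists_le_maximal hJ
    refine hsplit Q hQ (hJQ (Submodule.mem_sup_left (Ideal.mem_span_singleton_self _))) ?_
    exact ((RingHom.ker_isMaximal_of_surjective χ hχ).eq_of_le (Ideal.IsPrime.comap _).ne_top
      (Ideal.map_le_iff_le_comap.mp (le_sup_right.trans hJQ))).symm
  have hsum : -χ μ.nextCoeff = (μ.map χ).roots.sum := by
    have h1 : (μ.map χ).Splits := IsAlgClosed.splits _
    rw [← Polynomial.nextCoeff_map_of_leadingCoeff_ne_zero χ (by rw [hm.leadingCoeff, map_one]; exact one_ne_zero),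
      h1.nextCoeff_eq_neg_sum_roots_of_monic (hm.map χ), neg_neg]
  rw [ht', map_mul, map_neg, map_natCast, norm_mul, Complex.norm_natCast, hsum]
  refine mul_le_mul ?_ ?_ (norm_nonneg _) (Nat.cast_nonneg _)
  · exact_mod_cast Module.finrank_top_le_finrank_of_isScalarTower K _ L
  · refine (norm_multiset_sum_le _).trans ((Multiset.sum_le_card_nsmul _ C fun r hr => ?_).trans ?_)
    · obtain ⟨r', hr', rfl⟩ := Multiset.mem_map.mp hr
      exact hroots r' hr'
    · rw [nsmul_eq_mul, Multiset.card_map]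
      exact mul_le_mul_of_nonneg_right (Nat.cast_le.mpr ((Polynomial.card_roots' _).trans hdeg)) hC

end Trace

variable {n : ℕ}

lemma maximal_span_X {d : ℕ} :
    (Ideal.span (Set.range (MvPolynomial.X : Fin d → MvPolynomial (Fin d) ℂ))).IsMaximal := by
  have h : Ideal.span (Set.range (MvPolynomial.X : Fin d → MvPolynomial (Fin d) ℂ)) =
      RingHom.ker (MvPolynomial.eval (0 : Fin d → ℂ)) := by
    refine le_antisymm (Ideal.span_le.mpr ?_) fun p hp => ?_
    · rintro _ ⟨i, rfl⟩
      simp [RingHom.mem_ker]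
    · have h1 : p - MvPolynomial.C (MvPolynomial.eval (0 : Fin d → ℂ) p) ∈
          Ideal.span (Set.range (MvPolynomial.X : Fin d → MvPolynomial (Fin d) ℂ)) := by
        clear hp
        induction p using MvPolynomial.induction_on with
        | C a => simp
        | add p q hp hq =>
          simpa [add_sub_add_comm] using Ideal.add_mem _ hp hq
        | mul_X p i hp =>
          simpa using Ideal.mul_mem_left _ p (Ideal.subset_span (Set.mem_range_self i))
      rw [RingHom.mem_ker.mp hp, map_zero, sub_zero] at h1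
      exact h1
  rw [h]
  exact RingHom.ker_isMaximal_of_surjective _ fun a => ⟨MvPolynomial.C a, by simp⟩

/-- A point vanishing on the other points of the fibre. -/
lemma exists_cutoff {B : Type} [CommRing B] [Algebra ℂ B] [IsNoetherianRing B] (ψ₀ : B →ₐ[ℂ] ℂ)
    (J : Ideal B) (hmax : ∀ Q : Ideal B, Q.IsPrime → J ≤ Q → Q.IsMaximal) :
    ∃ φ : B, ψ₀ φ = 1 ∧ ∀ ψ : B →ₐ[ℂ] ℂ, J ≤ RingHom.ker ψ → ψ ≠ ψ₀ → ψ φ = 0 := by
  classical
  let M := RingHom.ker ψ₀
  let S := (Ideal.finite_minimalPrimes_of_isNoetherianRing B J).toFinset.filter (· ≠ M)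
  have hM : M.IsPrime := RingHom.ker_isPrime _
  have hnle : ¬ S.inf id ≤ M := fun hle => by
    obtain ⟨q, hq, hqM⟩ := (hM.inf_le').mp hle
    obtain ⟨h1, h2⟩ := Finset.mem_filter.mp hq
    have h1' := (Set.Finite.mem_toFinset _).mp h1
    exact h2 ((hmax q h1'.1.1 h1'.1.2).eq_of_le hM.ne_top hqM)
  obtain ⟨a, ha, haM⟩ := SetLike.not_le_iff_exists.mp hnle
  have ha0 : ψ₀ a ≠ 0 := haM
  refine ⟨(ψ₀ a)⁻¹ • a, by simp [ha0], fun ψ hJψ hne => ?_⟩
  have hk : (RingHom.ker ψ).IsPrime := RingHom.ker_isPrime _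
  obtain ⟨q, hq, hqle⟩ := Ideal.exists_minimalPrimes_le hJψ
  have hqeq : q = RingHom.ker ψ := (hmax q hq.1.1 hq.1.2).eq_of_le hk.ne_top hqle
  have hqS : q ∈ S := Finset.mem_filter.mpr ⟨(Set.Finite.mem_toFinset _).mpr hq, fun h => hne (by
    ext x
    have h1 : x - algebraMap ℂ B (ψ x) ∈ q := by rw [hqeq]; simp [RingHom.mem_ker]
    rw [h] at h1
    have h2 : ψ₀ x - ψ x = 0 := by
      have h3 : ψ₀ (x - algebraMap ℂ B (ψ x)) = 0 := h1
      simpa using h3
    first | linear_combination h2 | linear_combination -h2)⟩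
  have hψa : ψ a = 0 := by
    have h1 : a ∈ q := (Finset.inf_le (f := id) hqS) ha
    rwa [hqeq] at h1
  simp [hψa]

/-- The domain case. -/
theorem exists_order_domain {B : Type} [CommRing B] [IsDomain B] [Algebra ℂ B] [Algebra.FiniteType ℂ B]
    (ψ₀ : B →ₐ[ℂ] ℂ) (t : Fin n → B) (ht0 : ∀ i, ψ₀ (t i) = 0) (k : ℕ) :
    ∃ N, ∀ q, Small t N q → q ∈ (RingHom.ker ψ₀) ^ k := by
  classical
  obtain ⟨d, g₀, hg₀, hfin₀⟩ := exists_finite_inj_algHom_of_fg ℂ B
  let c : Fin d → ℂ := fun i => ψ₀ (g₀ (MvPolynomial.X i))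
  let τ : MvPolynomial (Fin d) ℂ ≃ₐ[ℂ] MvPolynomial (Fin d) ℂ :=
    AlgEquiv.ofAlgHom (MvPolynomial.aeval fun i => MvPolynomial.X i - MvPolynomial.C (c i))
      (MvPolynomial.aeval fun i => MvPolynomial.X i + MvPolynomial.C (c i))
      (MvPolynomial.algHom_ext fun i => by simp) (MvPolynomial.algHom_ext fun i => by simp)
  let g : MvPolynomial (Fin d) ℂ →ₐ[ℂ] B := g₀.comp τ.toAlgHom
  have hginj : Function.Injective g := hg₀.comp τ.injective
  have hfin : g.Finite := RingHom.Finite.comp hfin₀ (RingHom.Finite.of_surjective _ τ.surjective)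
  have hproj0 : proj g ψ₀ = 0 := by
    funext i
    simp [proj, g, τ, c]
  let P := MvPolynomial (Fin d) ℂ
  letI : Algebra P B := g.toRingHom.toAlgebra
  haveI : Module.Finite P B := hfin
  haveI : FaithfulSMul P B := (faithfulSMul_iff_algebraMap_injective _ _).mpr hginj
  haveI : IsNoetherianRing B := Algebra.FiniteType.isNoetherianRing ℂ B
  let K := FractionRing P
  let L := FractionRing B
  letI : Algebra K L := FractionRing.liftAlgebra P L
  haveI : IsScalarTower P K L := FractionRing.isScalarTower_liftAlgebra P L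
  haveI : CharZero K := charZero_of_injective_algebraMap (algebraMap ℂ K).injective
  obtain ⟨m', e', b, hb⟩ := exists_basis_of_algebra (P := P) (B := B) K L
  haveI : FiniteDimensional K L := Module.Finite.of_basis b
  obtain ⟨r, e, D, hD0, hDmul⟩ := exists_discriminant (P := P) (B := B) K L
  let mP : Ideal P := Ideal.span (Set.range MvPolynomial.X)
  have hmP : mP.IsMaximal := maximal_span_X
  let J : Ideal B := mP.map (algebraMap P B)
  have hJ : J = Ideal.span (Set.range fun i => g (MvPolynomial.X i)) := by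
    simp only [J, mP, Ideal.map_span, ← Set.range_comp]; rfl
  have hJ0 : J ≤ RingHom.ker ψ₀ := by
    rw [hJ, Ideal.span_le]
    rintro _ ⟨i, rfl⟩
    exact congrFun hproj0 i
  obtain ⟨E₀, hE₀⟩ := Ideal.exists_radical_pow_le_of_fg J (IsNoetherian.noetherian _)
  set E := E₀ + 1 with hEdef
  have hE : J.radical ^ E ≤ J := (Ideal.pow_le_pow_right (Nat.le_succ _)).trans hE₀
  obtain ⟨φ, hφ0, hφ⟩ := exists_cutoff ψ₀ J fun Q hQ hJQ => by
    haveI := hQ
    refine Ideal.isMaximal_of_isIntegral_of_isMaximal_comap (R := P) Q ?_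
    rwa [← hmP.eq_of_le (Ideal.IsPrime.comap _).ne_top (Ideal.map_le_iff_le_comap.mp hJQ)]
  have hu : ∀ i, (t i * φ) ^ E ∈ J := fun i => hE (Ideal.pow_mem_pow (mem_radical_of_forall_point J _
    fun ψ hψ => by
      by_cases hψ0 : ψ = ψ₀
      · subst hψ0; rw [map_mul, ht0, zero_mul]
      · rw [map_mul, hφ ψ hψ hψ0, mul_zero]) E)
  choose Cu hCu using fun i => norm_point_le_proj g hfin _ (hJ ▸ hu i)
  let CU := ∑ i, |Cu i|
  have hkey : ∀ ψ : B →ₐ[ℂ] ℂ, ‖proj g ψ‖ ≤ 1 →
      (‖fun i => ψ (t i)‖ * ‖ψ φ‖) ^ E ≤ CU * ‖proj g ψ‖ := by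
    intro ψ hψ
    rcases isEmpty_or_nonempty (Fin n) with h | h
    · have : (fun i => ψ (t i)) = 0 := Subsingleton.elim _ _
      rw [this, norm_zero, zero_mul, zero_pow (Nat.succ_ne_zero _)]
      positivity
    · obtain ⟨i, -, hi⟩ := Finset.exists_max_image Finset.univ (fun i => ‖ψ (t i)‖) Finset.univ_nonempty
      have h1 : ‖fun j => ψ (t j)‖ ≤ ‖ψ (t i)‖ :=
        (pi_norm_le_iff_of_nonneg (norm_nonneg _)).mpr fun j => hi j (Finset.mem_univ j)
      calc (‖fun j => ψ (t j)‖ * ‖ψ φ‖) ^ E ≤ (‖ψ (t i)‖ * ‖ψ φ‖) ^ E :=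
            pow_le_pow_left₀ (mul_nonneg (norm_nonneg _) (norm_nonneg _))
              (mul_le_mul_of_nonneg_right h1 (norm_nonneg _)) E
        _ = ‖ψ ((t i * φ) ^ E)‖ := by rw [map_pow, map_mul, norm_pow, norm_mul]
        _ ≤ Cu i * ‖proj g ψ‖ := hCu i ψ hψ
        _ ≤ CU * ‖proj g ψ‖ := mul_le_mul_of_nonneg_right
            ((le_abs_self _).trans (Finset.single_le_sum (fun j _ => abs_nonneg (Cu j)) (Finset.mem_univ i)))
            (norm_nonneg _)
  obtain ⟨c₀, hc₀⟩ := Ideal.exists_pow_inf_eq_pow_smul J (Ideal.span {algebraMap P B D} : Submodule B B)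
  set m := k + c₀ with hm
  refine ⟨E * m, fun q ⟨C, δ, hδ, hq⟩ => ?_⟩
  set N := E * m with hN
  choose Ce hCe using fun i => norm_point_le g hfin (e i)
  obtain ⟨Cq, hCq⟩ := norm_point_le g hfin q
  have hbound : ∀ i, ∃ C', 0 ≤ C' ∧ ∀ ψ : B →ₐ[ℂ] ℂ, ‖proj g ψ‖ ≤ 1 →
      ‖ψ (q * φ ^ N * e i)‖ ≤ C' * ‖proj g ψ‖ ^ m := by
    intro i
    refine ⟨(|C| * CU ^ m + |Cq| * ((1 / δ) ^ E * CU) ^ m) * |Ce i|, by positivity, fun ψ hψ => ?_⟩
    have hCU : 0 ≤ CU := Finset.sum_nonneg fun i _ => abs_nonneg _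
    have h1 : ‖ψ (q * φ ^ N)‖ ≤ (|C| * CU ^ m + |Cq| * ((1 / δ) ^ E * CU) ^ m) * ‖proj g ψ‖ ^ m := by
      rw [map_mul, map_pow, norm_mul, norm_pow, add_mul]
      rcases lt_or_ge ‖fun j => ψ (t j)‖ δ with h | h
      · refine le_add_of_le_of_nonneg ?_ (by positivity)
        calc ‖ψ q‖ * ‖ψ φ‖ ^ N ≤ |C| * ‖fun j => ψ (t j)‖ ^ N * ‖ψ φ‖ ^ N :=
              mul_le_mul_of_nonneg_right ((hq ψ h).trans
                (mul_le_mul_of_nonneg_right (le_abs_self C) (by positivity))) (by positivity)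
          _ = |C| * ((‖fun j => ψ (t j)‖ * ‖ψ φ‖) ^ E) ^ m := by rw [← pow_mul, mul_pow]; ring
          _ ≤ |C| * (CU * ‖proj g ψ‖) ^ m :=
              mul_le_mul_of_nonneg_left (pow_le_pow_left₀ (by positivity) (hkey ψ hψ) m) (abs_nonneg _)
          _ = |C| * CU ^ m * ‖proj g ψ‖ ^ m := by rw [mul_pow]; ring
      · refine le_add_of_nonneg_of_le (by positivity) ?_
        have h2 : ‖ψ φ‖ ^ E ≤ (1 / δ) ^ E * (CU * ‖proj g ψ‖) := by
          rw [one_div, inv_pow, inv_mul_eq_div, le_div_iff₀ (pow_pos hδ E)]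
          refine le_trans ?_ (hkey ψ hψ)
          rw [← mul_pow, mul_comm]
          exact pow_le_pow_left₀ (mul_nonneg hδ.le (norm_nonneg _))
            (mul_le_mul_of_nonneg_right h (norm_nonneg _)) E
        calc ‖ψ q‖ * ‖ψ φ‖ ^ N ≤ |Cq| * ((1 / δ) ^ E * (CU * ‖proj g ψ‖)) ^ m := by
              refine mul_le_mul ((hCq ψ hψ).trans (le_abs_self _)) ?_ (by positivity) (abs_nonneg _)
              rw [hN, pow_mul]
              exact pow_le_pow_left₀ (by positivity) h2 m
          _ = |Cq| * ((1 / δ) ^ E * CU) ^ m * ‖proj g ψ‖ ^ m := by rw [← mul_assoc ((1 / δ) ^ E), mul_pow]; ring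
    rw [map_mul, norm_mul]
    calc ‖ψ (q * φ ^ N)‖ * ‖ψ (e i)‖
        ≤ (|C| * CU ^ m + |Cq| * ((1 / δ) ^ E * CU) ^ m) * ‖proj g ψ‖ ^ m * |Ce i| :=
          mul_le_mul h1 ((hCe i ψ hψ).trans (le_abs_self _)) (norm_nonneg _) (by positivity)
      _ = _ := by ring
  have hmem : algebraMap P B D * (q * φ ^ N) ∈ (mP ^ m).map (algebraMap P B) := by
    refine hDmul _ _ fun i => ?_
    obtain ⟨s, hs⟩ := IsIntegrallyClosed.isIntegral_iff.mp (Algebra.isIntegral_trace (L := K) (F := L)
      ((Algebra.IsIntegral.isIntegral (R := P) (q * φ ^ N * e i)).map (IsScalarTower.toAlgHom P B L)))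
    refine ⟨s, ?_, hs⟩
    obtain ⟨C', hC', hb'⟩ := hbound i
    refine mem_span_X_pow s m (Module.finrank K L * (Module.finrank K L * C')) 1 one_pos fun w hw => ?_
    have h := norm_trace_le K L (MvPolynomial.eval w) (fun a => ⟨MvPolynomial.C a, by simp⟩) (q * φ ^ N * e i) s hs
      (C' * ‖w‖ ^ m) (by positivity) fun Q hQ hQw r' ⟨a, ha, har⟩ => by
        haveI := hQ
        obtain ⟨ψ, hψ⟩ := exists_point Q
        have hpw : proj g ψ = w := by
          funext j
          have : MvPolynomial.X j - MvPolynomial.C (w j) ∈ Q.comap (algebraMap P B) := by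
            rw [hQw, RingHom.mem_ker, map_sub, MvPolynomial.eval_X, MvPolynomial.eval_C, sub_self]
          rw [Ideal.mem_comap, ← hψ, RingHom.mem_ker] at this
          have h' : ψ (g (MvPolynomial.X j - MvPolynomial.C (w j))) = 0 := this
          rw [map_sub, map_sub, sub_eq_zero, point_comp g ψ (MvPolynomial.C (w j))] at h'
          simpa [proj] using h'
        have h2 : ψ (q * φ ^ N * e i) = r' := by
          rw [← hψ, RingHom.mem_ker, map_sub, sub_eq_zero] at ha
          rw [ha, ← har, ← hpw]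
          exact point_comp g ψ a
        rw [← h2, ← hpw]
        exact hb' ψ (hpw ▸ hw.le)
    linarith
  rw [Ideal.map_pow] at hmem
  have h3 : algebraMap P B D * (q * φ ^ N) ∈
      (J ^ m • ⊤ ⊓ (Ideal.span {algebraMap P B D} : Submodule B B)) :=
    ⟨by rw [smul_eq_mul, Ideal.mul_top]; exact hmem, Ideal.mem_span_singleton'.mpr ⟨_, mul_comm _ _⟩⟩
  rw [hc₀ m (by omega)] at h3
  have h4 : algebraMap P B D * (q * φ ^ N) ∈ J ^ (m - c₀) • (Ideal.span {algebraMap P B D} : Submodule B B) :=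
    Submodule.smul_mono le_rfl inf_le_right h3
  rw [smul_eq_mul, Ideal.mem_mul_span_singleton] at h4
  obtain ⟨z, hz, hze⟩ := h4
  have hD' : algebraMap P B D ≠ 0 := fun h => hD0 (hginj (by rw [map_zero]; exact h))
  have hqφ : q * φ ^ N ∈ (RingHom.ker ψ₀) ^ k := by
    have : z = q * φ ^ N := mul_right_cancel₀ hD' (by rw [hze]; ring)
    rw [← this]
    exact Ideal.pow_le_pow_right (by omega) (Ideal.pow_right_mono hJ0 _ hz)
  have hunit : Ideal.span {φ ^ N} ⊔ (RingHom.ker ψ₀) ^ k = ⊤ := by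
    refine Ideal.sup_pow_eq_top ?_
    refine Ideal.eq_top_iff_one _ |>.mpr (Submodule.mem_sup.mpr ⟨φ ^ N, Ideal.mem_span_singleton_self _,
      1 - φ ^ N, ?_, add_sub_cancel _ _⟩)
    simp [RingHom.mem_ker, hφ0]
  obtain ⟨y, hy, z', hz', hyz⟩ := Submodule.mem_sup.mp ((Ideal.eq_top_iff_one _).mp hunit)
  obtain ⟨a, rfl⟩ := Ideal.mem_span_singleton'.mp hy
  have : q = a * (q * φ ^ N) + q * z' := by linear_combination (-q) * hyz
  rw [this]
  exact add_mem (Ideal.mul_mem_left _ _ hqφ) (Ideal.mul_mem_left _ _ hz')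

/-- The reduced case. -/
theorem exists_order [Algebra.FiniteType ℂ A] [IsReduced A] (ψ₀ : A →ₐ[ℂ] ℂ) (t : Fin n → A)
    (ht0 : ∀ i, ψ₀ (t i) = 0) (k : ℕ) :
    ∃ N, ∀ q, Small t N q → q ∈ (RingHom.ker ψ₀) ^ k := by
  classical
  haveI : IsNoetherianRing A := Algebra.FiniteType.isNoetherianRing ℂ A
  let M := RingHom.ker ψ₀
  let S := minimalPrimes A
  haveI : Fintype S := (minimalPrimes.finite_of_isNoetherianRing A).fintype
  let V := (P : S) → A ⧸ P.1
  let f : A →ₗ[A] V := LinearMap.pi fun P => (Ideal.Quotient.mkₐ A P.1).toLinearMap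
  have hf : Function.Injective f := by
    rw [injective_iff_map_eq_zero]
    intro a ha
    have h1 : a ∈ (⊥ : Ideal A).radical := by
      rw [← Ideal.sInf_minimalPrimes, Ideal.mem_sInf]
      intro P hP
      exact Ideal.Quotient.eq_zero_iff_mem.mp (congrFun ha (⟨P, hP⟩ : S))
    rwa [Ideal.isRadical_bot.radical, Ideal.mem_bot] at h1
  obtain ⟨c₀, hc₀⟩ := Ideal.exists_pow_inf_eq_pow_smul M (LinearMap.range f)
  have hP : ∀ P : S, ∃ N, ∀ q, Small t N q → Ideal.Quotient.mk P.1 q ∈ (M ^ (k + c₀)).map (Ideal.Quotient.mk P.1) := by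
    intro P
    haveI : P.1.IsPrime := P.2.1.1
    by_cases hle : P.1 ≤ M
    · let ψP : (A ⧸ P.1) →ₐ[ℂ] ℂ := Ideal.Quotient.liftₐ P.1 ψ₀ fun a ha => hle ha
      obtain ⟨N, hN⟩ := exists_order_domain (B := A ⧸ P.1) ψP (fun i => Ideal.Quotient.mk P.1 (t i))
        (fun i => ht0 i) (k + c₀)
      refine ⟨N, fun q ⟨C, δ, hδ, hq⟩ => ?_⟩
      have h1 := hN (Ideal.Quotient.mk P.1 q) ⟨C, δ, hδ, fun ψ hψ =>
        hq (ψ.comp (Ideal.Quotient.mkₐ ℂ P.1)) hψ⟩
      refine (Ideal.pow_right_mono ?_ _).trans (Ideal.map_pow _ _ _).ge h1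
      intro z hz
      obtain ⟨z, rfl⟩ := Ideal.Quotient.mk_surjective z
      exact Ideal.mem_map_of_mem _ hz
    · refine ⟨0, fun q _ => ?_⟩
      have hM : M.IsMaximal := RingHom.ker_isMaximal_of_surjective ψ₀ fun c => ⟨algebraMap ℂ A c, by simp⟩
      have h1 : P.1 ⊔ M ^ (k + c₀) = ⊤ := Ideal.sup_pow_eq_top
        (hM.1.2 _ (lt_of_le_of_ne le_sup_right fun he => hle (he.symm ▸ le_sup_left)))
      have h2 := congrArg (Ideal.map (Ideal.Quotient.mk P.1)) h1
      rw [Ideal.map_sup, Ideal.map_quotient_self, bot_sup_eq, Ideal.map_top] at h2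
      rw [h2]; trivial
  choose N hN using hP
  refine ⟨Finset.univ.sup N, fun q ⟨C, δ, hδ, hq⟩ => ?_⟩
  have hV : f q ∈ M ^ (k + c₀) • (⊤ : Submodule A V) := by
    rw [show f q = ∑ P : S, LinearMap.single A (fun P : S => A ⧸ P.1) P (Ideal.Quotient.mk P.1 q) from
      (Finset.univ_sum_single (f q)).symm]
    refine Submodule.sum_mem _ fun P _ => ?_
    have h1 := hN P q ⟨|C|, min δ 1, lt_min hδ one_pos, fun ψ hψ => (hq ψ (hψ.trans_le (min_le_left _ _))).trans
      (mul_le_mul (le_abs_self C) (pow_le_pow_of_le_one (norm_nonneg _) (hψ.trans_le (min_le_right _ _)).le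
        (Finset.le_sup (Finset.mem_univ P))) (by positivity) (abs_nonneg _))⟩
    have h2 : Ideal.Quotient.mk P.1 q ∈ M ^ (k + c₀) • (⊤ : Submodule A (A ⧸ P.1)) := by
      rw [Ideal.smul_top_eq_map]
      exact h1
    have h5 : (LinearMap.single A (fun P : S => A ⧸ P.1) P) (Ideal.Quotient.mk P.1 q) ∈
        M ^ (k + c₀) • Submodule.map (LinearMap.single A (fun P : S => A ⧸ P.1) P) ⊤ := by
      rw [← Submodule.map_smul'']
      exact Submodule.mem_map_of_mem h2
    exact Submodule.smul_mono le_rfl le_top h5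
  have h3 : f q ∈ M ^ (k + c₀) • ⊤ ⊓ LinearMap.range f := ⟨hV, q, rfl⟩
  rw [hc₀ _ (by omega), Nat.add_sub_cancel] at h3
  have h4 : f q ∈ M ^ k • LinearMap.range f := Submodule.smul_mono le_rfl inf_le_right h3
  rw [LinearMap.range_eq_map, ← Submodule.map_smul'', smul_eq_mul, Ideal.mul_top] at h4
  obtain ⟨q', hq', he⟩ := h4
  rwa [← hf he]

end Groth.Agent.Lib.AnLoc.Estimate
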