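import Groth.Agent.Lib.AnLoc.Shear
import Mathlib.RingTheory.Finiteness.Ideal
import Mathlib.RingTheory.Noetherian.Basic
import Mathlib.RingTheory.Ideal.Quotient.Operations
import Mathlib.RingTheory.PrincipalIdealDomain

/-!
# The ring of convergent power series is Noetherian and local
-/

set_option linter.unusedSectionVars false
set_option linter.style.haveILetI false
set_option backward.isDefEq.respectTransparency.types false

noncomputable section

open scoped BigOperators

namespace Groth.Agent.Lib.AnLoc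

open MvPowerSeries (coeff)

variable {n : ℕ}

lemma mapDomain_succ_cons (β : Fin n →₀ ℕ) :
    Finsupp.embDomain (Fin.succEmb n) β = Finsupp.cons 0 β := by
  ext i
  refine Fin.cases ?_ (fun j => ?_) i
  · rw [Finsupp.cons_zero, Finsupp.embDomain_of_notMem_range]
    simp
  · rw [Finsupp.cons_succ]
    exact Finsupp.embDomain_apply_self (Fin.succEmb n) β j

/-- The inclusion `ℂ{z} → ℂ{w, z}`. -/
def incl : MvPowerSeries (Fin n) ℂ →ₐ[ℂ] MvPowerSeries (Fin (n + 1)) ℂ :=
  MvPowerSeries.rename (Fin.succEmb n)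

lemma coeff_incl (c : MvPowerSeries (Fin n) ℂ) (γ : Fin (n + 1) →₀ ℕ) :
    coeff γ (incl c) = if γ 0 = 0 then coeff γ.tail c else 0 := by
  classical
  by_cases h : γ 0 = 0
  · rw [if_pos h]
    conv_lhs => rw [← Finsupp.cons_tail γ, h, ← mapDomain_succ_cons]
    exact MvPowerSeries.coeff_embDomain_rename _ c _
  · rw [if_neg h]
    refine MvPowerSeries.coeff_rename_eq_zero _ c ?_
    rintro ⟨β, rfl⟩
    rw [← Finsupp.embDomain_eq_mapDomain, mapDomain_succ_cons, Finsupp.cons_zero] at h
    exact h rfl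

lemma wt_cons (r : ℝ) (y : ℕ) (β : Fin n →₀ ℕ) :
    wt (fun _ : Fin (n + 1) => r) (Finsupp.cons y β) = r ^ y * wt (fun _ : Fin n => r) β := by
  rw [wt, wt, Fin.prod_univ_succ, Finsupp.cons_zero]
  simp [Finsupp.cons_succ]

lemma isConv_incl {c : MvPowerSeries (Fin n) ℂ} (hc : IsConv c) : IsConv (incl c) := by
  obtain ⟨r, hr, h⟩ := hc
  refine ⟨r, hr, ?_⟩
  have hinj : Function.Injective fun β : Fin n →₀ ℕ => Finsupp.cons 0 β := Finsupp.cons_right_injective _
  refine (hinj.summable_iff fun γ hγ => ?_).mp ?_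
  · rw [coeff_incl, if_neg, norm_zero, zero_mul]
    exact fun h0 => hγ ⟨γ.tail, by rw [← h0]; exact Finsupp.cons_tail γ⟩
  · refine Summable.congr h fun β => ?_
    simp [coeff_incl, Finsupp.cons_zero, Finsupp.tail_cons, wt_cons]

/-- The coefficient of `w^j`. -/
def slice (j : ℕ) (F : MvPowerSeries (Fin (n + 1)) ℂ) : MvPowerSeries (Fin n) ℂ :=
  fun β => coeff (Finsupp.cons j β) F

lemma isConv_slice (j : ℕ) {F : MvPowerSeries (Fin (n + 1)) ℂ} (hF : IsConv F) : IsConv (slice j F) := by
  obtain ⟨r, hr, h⟩ := hF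
  refine ⟨r, hr, ((h.comp_injective (i := fun β : Fin n →₀ ℕ => Finsupp.cons j β)
    (Finsupp.cons_right_injective _)).mul_right (r ^ j)⁻¹).congr fun β => ?_⟩
  simp only [Function.comp_apply, wt_cons, MvPowerSeries.coeff_apply, slice]
  have := (pow_pos hr j).ne'
  field_simp

lemma truncW_eq_sum (d : ℕ) (F : MvPowerSeries (Fin (n + 1)) ℂ) :
    truncW 0 d F = ∑ j ∈ Finset.range d, MvPowerSeries.X 0 ^ j * incl (slice j F) := by
  classical
  ext γ
  rw [coeff_truncW, map_sum]
  have h1 : ∀ j, coeff γ (MvPowerSeries.X (0 : Fin (n + 1)) ^ j * incl (slice j F)) =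
      if j = γ 0 then coeff γ F else 0 := by
    intro j
    rw [MvPowerSeries.X_pow_eq, MvPowerSeries.coeff_monomial_mul]
    simp only [Finsupp.single_le_iff, one_mul]
    by_cases hj : j ≤ γ 0
    · rw [if_pos hj, coeff_incl]
      have h2 : (γ - Finsupp.single (0 : Fin (n + 1)) j) 0 = γ 0 - j := by simp
      rw [h2]
      by_cases he : j = γ 0
      · rw [if_pos (by omega), if_pos he]
        have h3 : (γ - Finsupp.single (0 : Fin (n + 1)) j).tail = γ.tail := by
          ext i
          simp [Finsupp.tail_apply, Finsupp.single_eq_of_ne (Fin.succ_ne_zero i)]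
        rw [h3, MvPowerSeries.coeff_apply, slice, he, Finsupp.cons_tail]
      · rw [if_neg (by omega), if_neg he]
    · rw [if_neg hj, if_neg (by omega)]
  simp only [h1, Finset.sum_ite_eq', Finset.mem_range]

/-- The inclusion on convergent series. -/
def inclC : Conv (Fin n) →ₐ[ℂ] Conv (Fin (n + 1)) :=
  AlgHom.codRestrict (incl.comp (Conv (Fin n)).val) _ fun c => isConv_incl c.2

/-- The shear on convergent series. -/
def shearC {v : Fin (n + 1) → ℂ} (hv : v 0 ≠ 0) : Conv (Fin (n + 1)) ≃ₐ[ℂ] Conv (Fin (n + 1)) :=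
  AlgEquiv.ofAlgHom (AlgHom.codRestrict ((shear v).comp (Conv _).val) _ fun c => isConv_shear c.2 v)
    (AlgHom.codRestrict ((shear (shearInv v)).comp (Conv _).val) _ fun c => isConv_shear c.2 _)
    (AlgHom.ext fun c => Subtype.ext (by
      show shear v (shear (shearInv v) c.1) = c.1
      simpa [shearInv_shearInv hv] using
        shear_shearInv_left (v := shearInv v) (by simp [shearInv, hv]) c.1))
    (AlgHom.ext fun c => Subtype.ext (shear_shearInv_left hv c.1))

lemma fg_of_mem_reg [IsNoetherianRing (Conv (Fin n))] (J : Ideal (Conv (Fin (n + 1))))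
    (f : Conv (Fin (n + 1))) (hfJ : f ∈ J) {d : ℕ}
    (hreg : IsReg (0 : Fin (n + 1)) d (f : MvPowerSeries (Fin (n + 1)) ℂ)) : J.FG := by
  classical
  let φ : Conv (Fin n) →+* Conv (Fin (n + 1)) ⧸ Ideal.span {f} :=
    (Ideal.Quotient.mk (Ideal.span {f})).comp inclC.toRingHom
  let A := Conv (Fin (n + 1)) ⧸ Ideal.span {f}
  letI : CommRing A := Ideal.Quotient.commRing (Ideal.span {f})
  letI algA : Algebra (Conv (Fin n)) A :=
    @RingHom.toAlgebra (Conv (Fin n)) A (Conv (Fin n)).toCommSemiring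
      (Ideal.Quotient.commRing (Ideal.span {f})).toCommSemiring φ
  let X0 : Conv (Fin (n + 1)) := ⟨MvPowerSeries.X 0, 1, one_pos, Summ.X 0⟩
  haveI : Module.Finite (Conv (Fin n)) A := by
    refine ⟨(Finset.range d).image fun j => (Ideal.Quotient.mk (Ideal.span {f}) (X0 ^ j)), ?_⟩
    rw [eq_top_iff]
    rintro a -
    obtain ⟨g, rfl⟩ := Ideal.Quotient.mk_surjective a
    obtain ⟨q, hq, hqd⟩ := exists_div f.2 g.2 hreg
    replace hq : IsConv q := hq
    have hconv : IsConv ((g : MvPowerSeries (Fin (n + 1)) ℂ) - q * (f : MvPowerSeries (Fin (n + 1)) ℂ)) :=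
      (g - (⟨q, hq⟩ : Conv (Fin (n + 1))) * f).2
    have hdec := truncW_add_shiftDiv (0 : Fin (n + 1)) d ((g : MvPowerSeries (Fin (n + 1)) ℂ) - q * (f : MvPowerSeries (Fin (n + 1)) ℂ))
    rw [hqd, mul_zero, add_zero, truncW_eq_sum] at hdec
    let c : ℕ → Conv (Fin n) := fun j => ⟨slice j _, isConv_slice j hconv⟩
    have hC : g = (⟨q, hq⟩ : Conv (Fin (n + 1))) * f + ∑ j ∈ Finset.range d, X0 ^ j * inclC (c j) := by
      apply Subtype.ext
      simp only [Subalgebra.coe_add, Subalgebra.coe_mul, AddSubmonoidClass.coe_finsetSum,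
        SubmonoidClass.coe_pow]
      show (g : MvPowerSeries (Fin (n + 1)) ℂ) = q * (f : MvPowerSeries (Fin (n + 1)) ℂ) + ∑ j ∈ Finset.range d,
        MvPowerSeries.X 0 ^ j * incl (slice j ((g : MvPowerSeries (Fin (n + 1)) ℂ) - q * (f : MvPowerSeries (Fin (n + 1)) ℂ)))
      rw [hdec]; ring
    rw [hC, map_add, map_mul, Ideal.Quotient.eq_zero_iff_mem.mpr (Ideal.mem_span_singleton_self f),
      mul_zero, zero_add, map_sum]
    refine Submodule.sum_mem _ fun j hj => ?_
    rw [mul_comm, map_mul]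
    have : Ideal.Quotient.mk (Ideal.span {f}) (inclC (c j)) * Ideal.Quotient.mk _ (X0 ^ j) =
        @HSMul.hSMul (Conv (Fin n)) A A (@instHSMul _ _ algA.toSMul) (c j)
          (Ideal.Quotient.mk (Ideal.span {f}) (X0 ^ j)) := by
      exact (Algebra.smul_def (c j) (Ideal.Quotient.mk (Ideal.span {f}) (X0 ^ j) : A)).symm
    rw [this]
    exact Submodule.smul_mem _ _ (Submodule.subset_span (Finset.mem_image_of_mem _ hj))
  haveI : IsNoetherianRing A := IsNoetherianRing.of_finite (Conv (Fin n)) A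
  obtain ⟨s, hs⟩ := IsNoetherian.noetherian (J.map (Ideal.Quotient.mk (Ideal.span {f})))
  have hJ : J = (J.map (Ideal.Quotient.mk (Ideal.span {f}))).comap (Ideal.Quotient.mk (Ideal.span {f})) := by
    rw [Ideal.comap_map_of_surjective _ Ideal.Quotient.mk_surjective]
    refine (sup_eq_left.mpr ?_).symm
    change RingHom.ker (Ideal.Quotient.mk (Ideal.span {f})) ≤ J
    rw [Ideal.mk_ker, Ideal.span_singleton_le_iff_mem]
    exact hfJ
  let t := s.image (Function.surjInv (Ideal.Quotient.mk_surjective (I := Ideal.span {f})))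
  refine ⟨insert f t, ?_⟩
  rw [hJ, ← hs, Finset.coe_insert]
  have h1 : Ideal.span (s : Set A) = (Ideal.span (t : Set (Conv (Fin (n + 1))))).map
      (Ideal.Quotient.mk (Ideal.span {f})) := by
    rw [Ideal.map_span, Finset.coe_image, Set.image_image]
    simp [Function.surjInv_eq Ideal.Quotient.mk_surjective]
    rfl
  rw [← Ideal.span, h1, Ideal.comap_map_of_surjective _ Ideal.Quotient.mk_surjective]
  change Ideal.span _ = _ ⊔ RingHom.ker (Ideal.Quotient.mk (Ideal.span {f}))
  rw [Ideal.mk_ker, Ideal.span_insert, sup_comm]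

theorem isNoetherianRing : ∀ n, IsNoetherianRing (Conv (Fin n))
  | 0 => by
    refine isNoetherianRing_of_surjective ℂ _ (algebraMap ℂ (Conv (Fin 0))) fun F => ?_
    refine ⟨coeff 0 F.1, Subtype.ext (MvPowerSeries.ext fun α => ?_)⟩
    rw [Subsingleton.elim α 0]
    simp [MvPowerSeries.algebraMap_apply, MvPowerSeries.coeff_C]
  | n + 1 => by
    haveI := isNoetherianRing n
    rw [isNoetherianRing_iff_ideal_fg]
    intro I
    by_cases hI : I = ⊥
    · exact hI ▸ Submodule.fg_bot
    obtain ⟨f, hf, hf0⟩ := Submodule.exists_mem_ne_zero_of_ne_bot hI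
    obtain ⟨v, d, hv, h1, h2⟩ := exists_shear_reg (F := (f : MvPowerSeries (Fin (n + 1)) ℂ))
      fun h => hf0 (Subtype.ext h)
    have h := fg_of_mem_reg (I.map (shearC hv).toRingEquiv.toRingHom) (shearC hv f)
      (Ideal.mem_map_of_mem _ hf) (d := d) ⟨h1, h2⟩
    have h' := h.map (shearC hv).symm.toRingEquiv.toRingHom
    have h3 : (I.map (shearC hv).toRingEquiv.toRingHom).map (shearC hv).symm.toRingEquiv.toRingHom = I := by
      rw [Ideal.map_map]
      convert Ideal.map_id I
      ext x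
      simp
    rwa [h3] at h'

variable {σ : Type} [Fintype σ]

lemma isUnit_iff {F : Conv σ} : IsUnit F ↔ MvPowerSeries.constantCoeff (F : MvPowerSeries σ ℂ) ≠ 0 := by
  refine ⟨fun h => ?_, fun h => ?_⟩
  · exact (h.map (MvPowerSeries.constantCoeff.comp (Conv σ).val.toRingHom)).ne_zero
  · exact ⟨⟨F, ⟨_, IsConv.inv F.2 h⟩, Subtype.ext (MvPowerSeries.mul_inv_cancel _ h),
      Subtype.ext (MvPowerSeries.inv_mul_cancel _ h)⟩, rfl⟩

instance : IsLocalRing (Conv σ) := by
  refine IsLocalRing.of_nonunits_add fun a b ha hb => ?_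
  simp only [mem_nonunits_iff, isUnit_iff, not_not] at ha hb ⊢
  rw [Subalgebra.coe_add, map_add, ha, hb, add_zero]

instance (n : ℕ) : IsNoetherianRing (Conv (Fin n)) := isNoetherianRing n

end Groth.Agent.Lib.AnLoc
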