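import Groth.Agent.Lib.AnLoc.Conv
import Mathlib.Analysis.Complex.CauchyIntegral
import Mathlib.Analysis.Complex.Liouville
import Mathlib.Analysis.Calculus.SmoothSeries
import Mathlib.MeasureTheory.Integral.DominatedConvergence
import Mathlib.Data.Finsupp.Fin
import Mathlib.Data.Finsupp.Encodable

/-!
# Holomorphic functions of several variables are sums of power series
-/

set_option linter.unusedSectionVars false

noncomputable section

open scoped BigOperators Real Topology NNReal
open Complex MeasureTheory Metric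

namespace Groth.Agent.Lib.AnLoc

variable {n : ℕ}

/-- Exponents in `n + 1` variables. -/
def consEquiv : ℕ × (Fin n →₀ ℕ) ≃ (Fin (n + 1) →₀ ℕ) where
  toFun p := Finsupp.cons p.1 p.2
  invFun α := (α 0, α.tail)
  left_inv p := by simp
  right_inv α := Finsupp.cons_tail α

lemma wt_consEquiv (q : Fin (n + 1) → ℝ) (p : ℕ × (Fin n →₀ ℕ)) :
    wt q (consEquiv p) = q 0 ^ p.1 * wt (fun i => q i.succ) p.2 := by
  rw [wt, wt, Fin.prod_univ_succ]
  simp [consEquiv, Finsupp.cons_succ, Finsupp.cons_zero]

lemma mono_consEquiv (z : Fin (n + 1) → ℂ) (p : ℕ × (Fin n →₀ ℕ)) :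
    mono z (consEquiv p) = z 0 ^ p.1 * mono (fun i => z i.succ) p.2 := by
  rw [mono, mono, Fin.prod_univ_succ]
  simp [consEquiv, Finsupp.cons_succ, Finsupp.cons_zero]

lemma summable_wt : ∀ {n : ℕ} {q : Fin n → ℝ}, (∀ i, 0 ≤ q i) → (∀ i, q i < 1) → Summable (wt q)
  | 0, q, _, _ => summable_of_ne_finset_zero (s := {0}) fun α hα => absurd (Subsingleton.elim α 0)
      (by simpa using hα)
  | n + 1, q, h0, h1 => by
    rw [← consEquiv.summable_iff]
    have h := (summable_geometric_of_lt_one (h0 0) (h1 0)).mul_of_nonneg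
      (summable_wt (q := fun i => q i.succ) (fun i => h0 _) (fun i => h1 _))
      (fun k => pow_nonneg (h0 0) k) (fun β => wt_nonneg (fun i => h0 _) β)
    exact h.congr fun p => (wt_consEquiv q p).symm

lemma wt_const_mul (R : ℝ) (hR : 0 < R) (z : Fin n → ℂ) (α : Fin n →₀ ℕ) :
    ‖mono z α‖ = wt (fun i => ‖z i‖ / R) α * wt (fun _ => R) α := by
  simp only [mono, wt, norm_prod, norm_pow, ← Finset.prod_mul_distrib, ← mul_pow,
    div_mul_cancel₀ _ hR.ne']

/-- The parametrised power series expansion. -/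
theorem exists_expansion : ∀ (n : ℕ) {T : Type} [TopologicalSpace T] (f : T × (Fin n → ℂ) → ℂ)
    (R M : ℝ), 0 < R → ContinuousOn f (Set.univ ×ˢ closedBall 0 R) →
    (∀ t, ∀ z ∈ closedBall (0 : Fin n → ℂ) R, ∀ i, DifferentiableAt ℂ (fun w => f (t, Function.update z i w)) (z i)) →
    (∀ t, ∀ z ∈ closedBall (0 : Fin n → ℂ) R, ‖f (t, z)‖ ≤ M) →
    ∃ a : (Fin n →₀ ℕ) → T → ℂ, (∀ α, Continuous (a α)) ∧
      (∀ α t, ‖a α t‖ * wt (fun _ => R) α ≤ M) ∧
      ∀ t, ∀ z ∈ ball (0 : Fin n → ℂ) R, HasSum (fun α => a α t * mono z α) (f (t, z))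
  | 0, T, _, f, R, M, hR, hc, _, hM => by
    refine ⟨fun _ t => f (t, 0), fun _ => ?_, fun α t => ?_, fun t z _ => ?_⟩
    · exact hc.comp_continuous (by fun_prop) fun t => ⟨trivial, mem_closedBall_self hR.le⟩
    · rw [show wt (fun _ => R) α = 1 by simp [wt], mul_one]
      exact hM t 0 (mem_closedBall_self hR.le)
    · rw [show z = 0 from Subsingleton.elim _ _]
      refine (hasSum_single (f := fun _ : Fin 0 →₀ ℕ => f (t, 0)) (0 : Fin 0 →₀ ℕ) fun α hα => absurd (Subsingleton.elim α 0) hα).congr_fun ?_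
      intro α; simp [mono]
  | n + 1, T, _, f, R, M, hR, hc, hd, hM => by
    let φ : (T × ℝ) × (Fin n → ℂ) → T × (Fin (n + 1) → ℂ) := fun p =>
      (p.1.1, Fin.cons (circleMap 0 R p.1.2) p.2)
    have hcirc : ∀ θ, ‖circleMap 0 R θ‖ = R := fun θ => by simp [circleMap, abs_of_pos hR]
    have hmem : ∀ (w : ℂ) (z : Fin n → ℂ), ‖w‖ ≤ R → z ∈ closedBall (0 : Fin n → ℂ) R →
        (Fin.cons w z : Fin (n + 1) → ℂ) ∈ closedBall (0 : Fin (n + 1) → ℂ) R := by
      intro w z hw hz
      rw [mem_closedBall_zero_iff] at hz ⊢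
      rw [pi_norm_le_iff_of_nonneg hR.le] at hz ⊢
      intro i
      refine Fin.cases ?_ (fun j => ?_) i
      · simpa using hw
      · simpa using hz j
    obtain ⟨a, ha_cont, ha_le, ha_sum⟩ := exists_expansion n (T := T × ℝ) (fun p => f (φ p)) R M hR
      (hc.comp (Continuous.continuousOn (by fun_prop)) fun p hp => ⟨trivial, hmem _ _ (hcirc _).le hp.2⟩)
      (fun t z hz i => by
        have := hd t.1 (Fin.cons (circleMap 0 R t.2) z) (hmem _ _ (hcirc _).le hz) i.succ
        simp only [Fin.cons_succ] at this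
        convert this using 1
        funext w
        simp only [φ]
        rw [Fin.cons_update])
      (fun t z hz => hM t.1 _ (hmem _ _ (hcirc _).le hz))
    let c : ℕ × (Fin n →₀ ℕ) → T → ℂ := fun p t =>
      (2 * π : ℂ)⁻¹ * ∫ θ in (0 : ℝ)..2 * π, (circleMap 0 R θ ^ p.1)⁻¹ * a p.2 (t, θ)
    have hne : ∀ θ k, circleMap 0 R θ ^ k ≠ 0 := fun θ k => pow_ne_zero _ (norm_pos_iff.mp ((hcirc θ).symm ▸ hR))
    have hcont : ∀ p, Continuous (c p) := fun p => continuous_const.mul
      (intervalIntegral.continuous_parametric_intervalIntegral_of_continuous'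
        (by
          apply Continuous.mul
          · exact ((continuous_circleMap 0 R).comp continuous_snd |>.pow _).inv₀ fun q => hne _ _
          · exact (ha_cont p.2).comp (continuous_fst.prodMk continuous_snd)) _ _)
    have hbound : ∀ p t, ‖c p t‖ * wt (fun _ => R) (consEquiv p) ≤ M := by
      intro p t
      have hw : 0 < wt (fun _ : Fin n => R) p.2 := wt_pos (fun _ => hR) _
      have hi : ‖∫ θ in (0 : ℝ)..2 * π, (circleMap 0 R θ ^ p.1)⁻¹ * a p.2 (t, θ)‖ ≤
          (M / (R ^ p.1 * wt (fun _ : Fin n => R) p.2)) * |2 * π - 0| := by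
        refine intervalIntegral.norm_integral_le_of_norm_le_const fun θ _ => ?_
        rw [norm_mul, norm_inv, norm_pow, hcirc, le_div_iff₀ (mul_pos (pow_pos hR _) hw)]
        calc (R ^ p.1)⁻¹ * ‖a p.2 (t, θ)‖ * (R ^ p.1 * wt (fun _ => R) p.2)
            = ‖a p.2 (t, θ)‖ * wt (fun _ => R) p.2 := by field_simp
          _ ≤ M := ha_le _ _
      rw [sub_zero, abs_of_pos Real.two_pi_pos] at hi
      simp only [c, wt_consEquiv, norm_mul, norm_inv, Complex.norm_real, Real.norm_eq_abs,
        abs_of_pos Real.pi_pos, Complex.norm_ofNat]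
      have := mul_le_mul_of_nonneg_left hi (inv_nonneg.mpr Real.two_pi_pos.le)
      calc _ ≤ (2 * π)⁻¹ * (M / (R ^ p.1 * wt (fun _ : Fin n => R) p.2) * (2 * π)) *
            (R ^ p.1 * wt (fun _ : Fin n => R) p.2) :=
            mul_le_mul_of_nonneg_right this (mul_nonneg (pow_nonneg hR.le _) hw.le)
        _ = M := by have := Real.two_pi_pos.ne'; field_simp
    refine ⟨fun α => c (consEquiv.symm α), fun α => hcont _, fun α t => ?_, fun t z hz => ?_⟩
    · simpa using hbound (consEquiv.symm α) t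
    rw [← consEquiv.hasSum_iff]
    simp only [Function.comp_def, Equiv.symm_apply_apply, mono_consEquiv]
    rw [mem_ball_zero_iff, pi_norm_lt_iff hR] at hz
    let z' : Fin n → ℂ := fun i => z i.succ
    have hz' : z' ∈ ball (0 : Fin n → ℂ) R := by
      rw [mem_ball_zero_iff, pi_norm_lt_iff hR]; exact fun i => hz _
    have hM0 : 0 ≤ M := le_trans (norm_nonneg _) (hM t _ (mem_closedBall_self hR.le))
    have hs : Summable fun p : ℕ × (Fin n →₀ ℕ) => c p t * (z 0 ^ p.1 * mono z' p.2) := by
      have h := (consEquiv.summable_iff (f := wt fun i => ‖z i‖ / R)).mpr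
        (summable_wt (fun i => div_nonneg (norm_nonneg _) hR.le) fun i => (div_lt_one hR).mpr (hz i))
      refine Summable.of_norm ((h.mul_left M).of_nonneg_of_le (fun p => norm_nonneg _) fun p => ?_)
      rw [norm_mul, ← mono_consEquiv z p, wt_const_mul R hR]
      calc ‖c p t‖ * (wt (fun i => ‖z i‖ / R) (consEquiv p) * wt (fun _ => R) (consEquiv p))
          = ‖c p t‖ * wt (fun _ => R) (consEquiv p) * wt (fun i => ‖z i‖ / R) (consEquiv p) := by ring
        _ ≤ M * wt (fun i => ‖z i‖ / R) (consEquiv p) :=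
          mul_le_mul_of_nonneg_right (hbound p t) (wt_nonneg (fun i => div_nonneg (norm_nonneg _) hR.le) _)
    let g : ℂ → ℂ := fun w => f (t, Fin.cons w z')
    have hg : DifferentiableOn ℂ g (closedBall 0 R) := by
      intro w hw
      have := hd t (Fin.cons w z') (hmem w z' (mem_closedBall_zero_iff.mp hw) (ball_subset_closedBall hz')) 0
      simp only [Fin.cons_zero, Fin.update_cons_zero] at this
      exact this.differentiableWithinAt
    have hfib : ∀ k, HasSum (fun β => c (k, β) t * (z 0 ^ k * mono z' β))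
        (z 0 ^ k * ((2 * π : ℂ)⁻¹ * ∫ θ in (0 : ℝ)..2 * π, (circleMap 0 R θ ^ k)⁻¹ * g (circleMap 0 R θ))) := by
      intro k
      have hint : HasSum (fun β => ∫ θ in (0 : ℝ)..2 * π, (circleMap 0 R θ ^ k)⁻¹ * a β (t, θ) * mono z' β)
          (∫ θ in (0 : ℝ)..2 * π, (circleMap 0 R θ ^ k)⁻¹ * g (circleMap 0 R θ)) := by
        have hq := summable_wt (q := fun i => ‖z' i‖ / R) (fun i => div_nonneg (norm_nonneg _) hR.le)
          fun i => (div_lt_one hR).mpr (hz i.succ)
        refine intervalIntegral.hasSum_integral_of_dominated_convergence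
          (fun β _ => (R ^ k)⁻¹ * M * wt (fun i => ‖z' i‖ / R) β) (fun β => ?_) (fun β => ?_) ?_ ?_ ?_
        · exact ((((continuous_circleMap 0 R).pow k).inv₀ fun θ => hne θ k).mul
            ((ha_cont β).comp (continuous_const.prodMk continuous_id))).mul continuous_const |>.aestronglyMeasurable
        · refine Filter.Eventually.of_forall fun θ _ => ?_
          rw [norm_mul, norm_mul, norm_inv, norm_pow, hcirc, wt_const_mul R hR, mul_assoc, mul_assoc]
          refine mul_le_mul_of_nonneg_left ?_ (inv_nonneg.mpr (pow_nonneg hR.le k))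
          calc ‖a β (t, θ)‖ * (wt (fun i => ‖z' i‖ / R) β * wt (fun _ => R) β)
              = ‖a β (t, θ)‖ * wt (fun _ => R) β * wt (fun i => ‖z' i‖ / R) β := by ring
            _ ≤ M * wt (fun i => ‖z' i‖ / R) β :=
              mul_le_mul_of_nonneg_right (ha_le _ _) (wt_nonneg (fun i => div_nonneg (norm_nonneg _) hR.le) _)
        · exact Filter.Eventually.of_forall fun θ _ => hq.mul_left _
        · exact intervalIntegrable_const
        · refine Filter.Eventually.of_forall fun θ _ => ?_
          simpa [mul_assoc, φ, g] using (ha_sum (t, θ) z' hz').mul_left (circleMap 0 R θ ^ k)⁻¹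
      refine ((hint.mul_left (2 * π : ℂ)⁻¹).mul_left (z 0 ^ k)).congr_fun fun β => ?_
      simp only [c, intervalIntegral.integral_mul_const]
      ring
    have hps : HasSum (fun k => z 0 ^ k * ((2 * π : ℂ)⁻¹ * ∫ θ in (0 : ℝ)..2 * π,
        (circleMap 0 R θ ^ k)⁻¹ * g (circleMap 0 R θ))) (g (z 0)) := by
      have hp := DifferentiableOn.hasFPowerSeriesOnBall (R := R.toNNReal) (c := 0) (f := g)
        (by rwa [Real.coe_toNNReal _ hR.le]) (Real.toNNReal_pos.mpr hR)
      have h1 := hp.hasSum (y := z 0) (by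
        rw [Metric.mem_eball, edist_zero_right, ← ofReal_norm, ENNReal.ofReal]
        exact ENNReal.coe_lt_coe.mpr ((Real.toNNReal_lt_toNNReal_iff hR).mpr (hz 0)))
      rw [zero_add, Real.coe_toNNReal _ hR.le] at h1
      refine h1.congr_fun fun k => ?_
      rw [cauchyPowerSeries_apply]
      simp only [circleIntegral, deriv_circleMap, sub_zero, smul_eq_mul]
      rw [← mul_assoc, ← intervalIntegral.integral_const_mul, ← intervalIntegral.integral_const_mul]
      refine intervalIntegral.integral_congr fun θ _ => ?_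
      have := hne θ 1
      rw [pow_one] at this
      rw [div_pow]
      field_simp [Complex.I_ne_zero]
    have hzc : (Fin.cons (z 0) z' : Fin (n + 1) → ℂ) = z := Fin.cons_self_tail z
    have htot := (hs.hasSum.prod_fiberwise hfib).unique hps
    simp only [g, hzc] at htot
    exact htot ▸ hs.hasSum

/-- Cauchy's bound for the derivative. -/
lemma norm_fderiv_le {E : Type} [NormedAddCommGroup E] [NormedSpace ℂ E] {h : E → ℂ} {x : E} {r M : ℝ}
    (hr : 0 < r) (hd : ∀ y ∈ closedBall x r, DifferentiableAt ℂ h y) (hM : ∀ y ∈ closedBall x r, ‖h y‖ ≤ M) :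
    ‖fderiv ℂ h x‖ ≤ M / r := by
  have hM0 : 0 ≤ M := (norm_nonneg _).trans (hM x (mem_closedBall_self hr.le))
  refine ContinuousLinearMap.opNorm_le_bound _ (div_nonneg hM0 hr.le) fun v => ?_
  rcases eq_or_ne v 0 with rfl | hv
  · simp
  have hv' : 0 < ‖v‖ := norm_pos_iff.mpr hv
  let g : ℂ → ℂ := fun s => h (x + s • v)
  have hmem : ∀ s : ℂ, ‖s‖ ≤ r / ‖v‖ → x + s • v ∈ closedBall x r := fun s hs => by
    rw [mem_closedBall, dist_self_add_left, norm_smul]
    exact (le_div_iff₀ hv').mp hs
  have hl : ∀ s : ℂ, HasDerivAt (fun s : ℂ => x + s • v) v s := fun s => by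
    simpa using ((hasDerivAt_id s).smul_const v).const_add x
  have hg : DifferentiableOn ℂ g (closedBall 0 (r / ‖v‖)) := fun s hs =>
    ((hd _ (hmem s (mem_closedBall_zero_iff.mp hs))).comp s (hl s).differentiableAt).differentiableWithinAt
  have h1 := Complex.norm_deriv_le_of_forall_mem_sphere_norm_le (div_pos hr hv')
    ((hg.mono closure_ball_subset_closedBall).diffContOnCl)
    fun s hs => hM _ (hmem s (mem_sphere_zero_iff_norm.mp hs).le)
  have h2 : deriv g 0 = fderiv ℂ h x v := by
    have := (hd x (mem_closedBall_self hr.le)).hasFDerivAt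
    rw [show x = x + (0 : ℂ) • v by simp] at this
    exact ((this.comp_hasDerivAt (0 : ℂ) (hl 0)).deriv).trans (by simp)
  rw [h2] at h1
  exact h1.trans (le_of_eq (by field_simp))

lemma differentiable_mono {n : ℕ} (α : Fin n →₀ ℕ) : Differentiable ℂ fun z : Fin n → ℂ => mono z α := by
  unfold mono
  fun_prop

/-- The sum of a convergent series is holomorphic. -/
theorem differentiableOn_ev {F : MvPowerSeries (Fin n) ℂ} {r : ℝ} (hr : 0 < r) (hF : Summ (fun _ => r) F) :
    DifferentiableOn ℂ (fun z => ev z F) (ball 0 (r / 4)) := by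
  intro z hz
  refine DifferentiableAt.differentiableWithinAt ?_
  let u : (Fin n →₀ ℕ) → ℝ := fun α => ‖MvPowerSeries.coeff α F‖ * wt (fun _ => r) α / (r / 2)
  let fn : (Fin n →₀ ℕ) → (Fin n → ℂ) → ℂ := fun α z => MvPowerSeries.coeff α F * mono z α
  have hd : ∀ α, Differentiable ℂ (fn α) := fun α => (differentiable_mono α).const_mul _
  refine (hasFDerivAt_tsum_of_isPreconnected (u := u) (f := fn) (f' := fun α y => fderiv ℂ (fn α) y)
    (Summable.div_const hF _) isOpen_ball (convex_ball (0 : Fin n → ℂ) (r / 4)).isPreconnected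
    (fun α y _ => (hd α y).hasFDerivAt) (fun α y hy => ?_) (mem_ball_self (by positivity))
    ?_ hz).differentiableAt
  · refine norm_fderiv_le (by positivity) (fun w _ => hd α w) fun w hw => ?_
    rw [norm_mul]
    refine mul_le_mul_of_nonneg_left (norm_mono_le (fun i => ?_) α) (norm_nonneg _)
    have h1 := mem_ball_zero_iff.mp hy
    have h2 := mem_closedBall_iff_norm.mp hw
    have h3 : ‖w‖ ≤ ‖y‖ + ‖w - y‖ := norm_le_norm_add_norm_sub' w y
    exact (norm_le_pi_norm w i).trans (by linarith)
  · exact (summable_norm_ev (fun i => by simp [hr.le]) hF).of_norm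

/-- A holomorphic function is, near `0`, the sum of a convergent series. -/
theorem exists_series {U : Set (Fin n → ℂ)} (hU : U ∈ 𝓝 0) {G : (Fin n → ℂ) → ℂ}
    (hG : DifferentiableOn ℂ G U) :
    ∃ F : MvPowerSeries (Fin n) ℂ, IsConv F ∧ ∀ᶠ z in 𝓝 0, G z = ev z F := by
  obtain ⟨ε, hε, hsub⟩ := Metric.mem_nhds_iff.mp hU
  let R := ε / 2
  have hR : 0 < R := half_pos hε
  have hcl : closedBall (0 : Fin n → ℂ) R ⊆ ball 0 ε := closedBall_subset_ball (half_lt_self hε)
  have hdiff : ∀ y ∈ closedBall (0 : Fin n → ℂ) R, DifferentiableAt ℂ G y := fun y hy =>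
    hG.differentiableAt (Filter.mem_of_superset (isOpen_ball.mem_nhds (hcl hy)) hsub)
  have hcont : ContinuousOn G (closedBall 0 R) := fun y hy => (hdiff y hy).continuousAt.continuousWithinAt
  obtain ⟨M, hM⟩ := (isCompact_closedBall (0 : Fin n → ℂ) R).exists_bound_of_continuousOn hcont
  obtain ⟨a, -, hle, hsum⟩ := exists_expansion n (T := Unit) (fun p => G p.2) R M hR
    (hcont.comp continuous_snd.continuousOn fun p hp => hp.2)
    (fun _ y hy i => by
      have h1 : DifferentiableAt ℂ (fun w => Function.update y i w) (y i) := differentiableAt_pi.mpr fun j => by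
        by_cases hj : j = i
        · subst hj; simp
        · simp [Function.update_of_ne hj]
      have h2 : DifferentiableAt ℂ G (Function.update y i (y i)) := by
        rw [Function.update_eq_self]; exact hdiff y hy
      exact h2.comp (y i) h1)
    fun _ y hy => hM y hy
  let F : MvPowerSeries (Fin n) ℂ := fun α => a α ()
  refine ⟨F, ⟨R / 2, half_pos hR, ?_⟩, ?_⟩
  · refine ((summable_wt (n := n) (q := fun _ => (1 / 2 : ℝ)) (fun _ => by norm_num) fun _ => by norm_num).mul_left
      M).of_nonneg_of_le (fun α => mul_nonneg (norm_nonneg _) (wt_nonneg (fun _ => by positivity) α)) fun α => ?_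
    have h1 : wt (fun _ : Fin n => R / 2) α = wt (fun _ => R) α * wt (fun _ => (1 / 2 : ℝ)) α := by
      simp only [wt, ← Finset.prod_mul_distrib, ← mul_pow]; ring_nf
    rw [h1, ← mul_assoc]
    exact mul_le_mul_of_nonneg_right (hle α ()) (wt_nonneg (fun _ => by norm_num) α)
  · filter_upwards [isOpen_ball.mem_nhds (mem_ball_self (α := Fin n → ℂ) hR)] with z hz
    exact (hsum () z hz).tsum_eq.symm

end Groth.Agent.Lib.AnLoc
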