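import Groth.Agent.Lib.AnLoc.Germ
import Groth.Agent.Lib.AnLoc.Noetherian
import Groth.Agent.Lib.AnLoc.Osgood
import Groth.Agent.Lib.AnLoc.Estimate
import Groth.Agent.Lib.AnPts.Immersion
import Groth.Agent.Lib.AnPts.Dense
import Groth.Agent.Lib.AnHol.Basic
import Mathlib.AlgebraicGeometry.Properties

/-!
# Convergent series surject onto the analytic local ring
-/

open AlgebraicGeometry CategoryTheory TopologicalSpace Opposite Topology Filter Metric

set_option backward.isDefEq.respectTransparency.types false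
set_option linter.style.haveILetI false
set_option linter.unusedSectionVars false

noncomputable section

namespace Groth.Agent.Lib.AnLoc

open An Groth.Agent.Lib.AnPts

/-! ### The maximal ideal of convergent series -/

/-- A coordinate. -/
def XC {n : ℕ} (i : Fin n) : Conv (Fin n) := ⟨MvPowerSeries.X i, 1, one_pos, Summ.X i⟩

lemma mem_span_XC : ∀ {n : ℕ} (F : Conv (Fin n)),
    MvPowerSeries.constantCoeff (F : MvPowerSeries (Fin n) ℂ) = 0 → F ∈ Ideal.span (Set.range (XC (n := n)))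
  | 0, F, hF => by
    have : F = 0 := Subtype.ext (MvPowerSeries.ext fun α => by
      rw [show α = 0 from Subsingleton.elim _ _, MvPowerSeries.coeff_zero_eq_constantCoeff]
      simpa using hF)
    rw [this]; exact zero_mem _
  | n + 1, F, hF => by
    obtain ⟨r, hr, hFr⟩ := F.2
    let S : Conv (Fin n) := ⟨slice 0 F.1, isConv_slice 0 F.2⟩
    let D : Conv (Fin (n + 1)) := ⟨shiftDiv 0 1 F.1, ⟨r, hr, hFr.shiftDiv fun _ => hr⟩⟩
    have hS : MvPowerSeries.constantCoeff (S : MvPowerSeries (Fin n) ℂ) = 0 := by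
      rw [← MvPowerSeries.coeff_zero_eq_constantCoeff_apply]
      show MvPowerSeries.coeff ((0 : Fin n →₀ ℕ).cons 0) F.1 = 0
      rw [Finsupp.cons_zero_zero, MvPowerSeries.coeff_zero_eq_constantCoeff_apply]
      exact hF
    have h1 : inclC S ∈ Ideal.span (Set.range (XC (n := n + 1))) := by
      have h2 := Ideal.mem_map_of_mem (inclC (n := n)) (mem_span_XC S hS)
      refine (?_ : Ideal.map _ _ ≤ _) h2
      rw [Ideal.map_span, Ideal.span_le]
      rintro _ ⟨_, ⟨i, rfl⟩, rfl⟩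
      refine Ideal.subset_span ⟨i.succ, Subtype.ext ?_⟩
      show MvPowerSeries.X i.succ = incl (MvPowerSeries.X i)
      simp [incl]
    have h3 : F = inclC S + D * XC 0 := Subtype.ext (by
      show F.1 = incl (slice 0 F.1) + shiftDiv 0 1 F.1 * MvPowerSeries.X 0
      have h4 := truncW_add_shiftDiv (i₀ := (0 : Fin (n + 1))) (d := 1) F.1
      have h5 := truncW_eq_sum 1 F.1
      simp only [Finset.sum_range_one, pow_zero, one_mul, pow_one] at h4 h5
      rw [← h5, mul_comm]
      exact h4.symm)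
    rw [h3]
    exact add_mem h1 (Ideal.mul_mem_left _ _ (Ideal.subset_span ⟨0, rfl⟩))

variable {X : Scheme.{0}} [X.Over SC]

/-- An affine chart centred at a point. -/
structure Chart (x : Pts X) where
  U : X.Opens
  hU : IsAffineOpen U
  hx : x.pt ∈ U
  n : ℕ
  s : Fin n → Γ(X, U)
  hs : Function.Surjective (MvPolynomial.eval₂Hom (strHom U.toScheme) fun i => U.topIso.inv (s i))
  h0 : ∀ i, x.ev U hx (s i) = 0

lemma ev_map_ι (U : X.Opens) (z : Pts U.toScheme) (h : (Pts.map U.ι z).pt ∈ U) (f : Γ(X, U)) :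
    (Pts.map U.ι z).ev U h f = z.evTop (U.topIso.inv f) := by
  rw [Pts.ev_map, ← ev_map_res z (U.ι_preimage_self).ge (Opens.mem_top _)]
  show z.ev ⊤ _ _ = z.ev ⊤ _ _
  congr 1
  simp only [Scheme.Opens.ι_app, Scheme.Opens.topIso_inv, ← CategoryTheory.comp_apply]
  rw [Scheme.Opens.toScheme_presheaf_map]
  erw [← Functor.map_comp]
  rfl

lemma exists_chart [LocallyOfFiniteType (X ↘ SC)] (x : Pts X) : Nonempty (Chart x) := by
  obtain ⟨U, hU, hx⟩ : ∃ U : X.Opens, IsAffineOpen U ∧ x.pt ∈ U := by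
    obtain ⟨_, ⟨U, hU, rfl⟩, hx, -⟩ :=
      X.isBasis_affineOpens.exists_subset_of_mem_open (Set.mem_univ x.pt) isOpen_univ
    exact ⟨U, hU, hx⟩
  haveI : IsAffine U.toScheme := hU
  haveI : LocallyOfFiniteType (U.toScheme ↘ SC) := by rw [← comp_over U.ι (Y := X)]; infer_instance
  obtain ⟨n, g, hg⟩ := exists_generators U.toScheme
  obtain ⟨z, hz⟩ := exists_map_ι_eq hx
  let t : Fin n → Γ(U.toScheme, ⊤) := fun i => g i - strHom _ (z.evTop (g i))
  refine ⟨⟨U, hU, hx, n, fun i => U.topIso.hom (t i), ?_, fun i => ?_⟩⟩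
  · simp only [Iso.hom_inv_id_apply]
    intro a
    obtain ⟨P, rfl⟩ := hg a
    refine ⟨MvPolynomial.bind₁ (fun i => MvPolynomial.X i + MvPolynomial.C (z.evTop (g i))) P, ?_⟩
    rw [MvPolynomial.eval₂Hom_bind₁]
    exact congrArg (fun u => MvPolynomial.eval₂Hom (strHom _) u P) (funext fun i => by simp [t])
  · have h : (Pts.map U.ι z).pt ∈ U := hz ▸ hx
    have h2 := ev_map_ι U z h (U.topIso.hom (t i))
    rw [Iso.hom_inv_id_apply] at h2
    subst hz
    rw [h2]
    show evTopHom z (g i - strHom _ (z.evTop (g i))) = 0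
    rw [map_sub, evTopHom_apply, evTopHom_apply, evTop_strHom, sub_self]

variable {x : Pts X} (c : Chart x)

namespace Chart

open Classical in
/-- The coordinates. -/
def crd (y : Pts X) : Fin c.n → ℂ := fun i => secFun c.U (c.s i) y

lemma crd_map (z : Pts c.U.toScheme) :
    c.crd (Pts.map c.U.ι z) = fun i => z.evTop (c.U.topIso.inv (c.s i)) := funext fun i => by
  have h : (Pts.map c.U.ι z).pt ∈ c.U := by
    have : Pts.map c.U.ι z ∈ Pts.pt ⁻¹' (c.U : Set X) := range_map_ι c.U ▸ Set.mem_range_self z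
    exact this
  show secFun c.U (c.s i) _ = _
  rw [secFun_apply _ h, ev_map_ι]

lemma crd_self : c.crd x = 0 := funext fun i => (secFun_apply _ c.hx).trans (c.h0 i)

/-- Small coordinates means close to the centre. -/
lemma exists_near {S : Set (Pts X)} (hS : S ∈ 𝓝 x) :
    ∃ δ > (0 : ℝ), ∀ y : Pts X, y.pt ∈ c.U → ‖c.crd y‖ < δ → y ∈ S := by
  haveI : IsAffine c.U.toScheme := c.hU
  obtain ⟨z, hz⟩ := exists_map_ι_eq c.hx
  have h1 : Pts.map c.U.ι ⁻¹' S ∈ 𝓝 z :=
    (Pts.continuous_map c.U.ι).continuousAt.preimage_mem_nhds (by rw [hz]; exact hS)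
  rw [(isEmbedding_evTop _ c.hs).nhds_eq_comap, Filter.mem_comap] at h1
  obtain ⟨T, hT, hTS⟩ := h1
  have h0 : (fun i => z.evTop (c.U.topIso.inv (c.s i))) = 0 := by rw [← c.crd_map, hz, c.crd_self]
  rw [h0] at hT
  obtain ⟨δ, hδ, hδT⟩ := Metric.mem_nhds_iff.mp hT
  refine ⟨δ, hδ, fun y hy hyδ => ?_⟩
  obtain ⟨w, rfl⟩ := exists_map_ι_eq hy
  refine hTS ?_
  show (fun i => w.evTop (c.U.topIso.inv (c.s i))) ∈ T
  rw [← c.crd_map]
  exact hδT (mem_ball_zero_iff.mpr hyδ)

lemma continuousAt_crd : ContinuousAt c.crd x := by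
  obtain ⟨z, hz⟩ := exists_map_ι_eq c.hx
  have h : ContinuousAt c.crd (Pts.map c.U.ι z) := by
    rw [← (isOpenEmbedding_map_ι c.U).continuousAt_iff, show c.crd ∘ Pts.map c.U.ι =
      fun z i => z.evTop (c.U.topIso.inv (c.s i)) from funext c.crd_map]
    exact (continuous_pi_evTop _).continuousAt
  rwa [hz] at h

lemma tendsto_crd : Tendsto c.crd (𝓝 x) (𝓝 0) := by
  have := c.continuousAt_crd.tendsto
  rwa [c.crd_self] at this

lemma eventually_small {r : ℝ} (hr : 0 < r) : ∀ᶠ y in 𝓝 x, y.pt ∈ c.U ∧ ‖c.crd y‖ < r := by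
  refine Filter.Eventually.and
    (show ∀ᶠ y in 𝓝 x, y.pt ∈ c.U from (Pts.isOpen_preimage_pt c.U).mem_nhds c.hx) ?_
  have := (continuous_norm.tendsto' (0 : Fin c.n → ℂ) 0 norm_zero).comp c.tendsto_crd
  exact this.eventually_lt_const hr

/-- A section over the chart as a polynomial in the coordinates. -/
lemma exists_poly (a : Γ(X, c.U)) : ∃ P : MvPolynomial (Fin c.n) ℂ,
    ∀ (y : Pts X) (h : y.pt ∈ c.U), y.ev c.U h a = MvPolynomial.eval (c.crd y) P := by
  obtain ⟨P, hP⟩ := c.hs (c.U.topIso.inv a)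
  refine ⟨P, fun y h => ?_⟩
  obtain ⟨w, rfl⟩ := exists_map_ι_eq h
  rw [ev_map_ι, ← hP, evTop_eval₂, c.crd_map]

/-- Convergent series as germs of functions. -/
def theta0 : Conv (Fin c.n) →+* Gm x where
  toFun F := ((fun y => ev (c.crd y) F.1 : Pts X → ℂ) : Gm x)
  map_one' := Filter.Germ.coe_eq.mpr (Filter.Eventually.of_forall fun y => ev_one)
  map_zero' := Filter.Germ.coe_eq.mpr (Filter.Eventually.of_forall fun y => by simp [ev])
  map_add' F G := by
    obtain ⟨r, hr, hF, hG⟩ := IsConv.common F.2 G.2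
    rw [← Filter.Germ.coe_add, Filter.Germ.coe_eq]
    filter_upwards [c.eventually_small hr] with y hy
    exact ev_add (fun i => (norm_le_pi_norm _ i).trans hy.2.le) hF hG
  map_mul' F G := by
    obtain ⟨r, hr, hF, hG⟩ := IsConv.common F.2 G.2
    rw [← Filter.Germ.coe_mul, Filter.Germ.coe_eq]
    filter_upwards [c.eventually_small hr] with y hy
    exact ev_mul (fun i => (norm_le_pi_norm _ i).trans hy.2.le) hF hG

lemma theta0_mem (F : Conv (Fin c.n)) : c.theta0 F ∈ (toGerm x).range := by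
  obtain ⟨r, hr, hF⟩ := F.2
  let V : Opens (top X) := ⟨interior {y | y.pt ∈ c.U ∧ ‖c.crd y‖ < r / 4}, isOpen_interior⟩
  have hxV : x ∈ V := mem_interior_iff_mem_nhds.mpr (c.eventually_small (by positivity))
  have hsub : ∀ y : V, y.1.pt ∈ c.U ∧ ‖c.crd y.1‖ < r / 4 := fun y => interior_subset (s := {y | y.pt ∈ c.U ∧ ‖c.crd y‖ < r / 4}) y.2
  have hchart : IsChartFun V (fun y : V => ev (c.crd y.1) F.1) := by
    refine ⟨c.U, fun y => (hsub y).1, c.n, c.s, ball 0 (r / 4), fun z => ev z F.1, isOpen_ball,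
      differentiableOn_ev hr hF, fun y => ?_⟩
    have e : (fun i => Pts.ev y.1 c.U (hsub y).1 (c.s i)) = c.crd y.1 :=
      funext fun i => (secFun_apply _ (hsub y).1).symm
    rw [e]
    exact ⟨mem_ball_zero_iff.mpr (hsub y).2, rfl⟩
  refine ⟨(An.anSpace X).presheaf.germ V x hxV ⟨_, holPred_of_chartAlg (Algebra.subset_adjoin hchart)⟩, ?_⟩
  rw [toGerm_germ]
  refine Filter.Germ.coe_eq.mpr ?_
  filter_upwards [V.2.mem_nhds hxV] with y hy
  exact extFun_apply _ hy

/-- Convergent series map to the analytic local ring. -/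
def theta : Conv (Fin c.n) →+* St x :=
  (RingEquiv.ofBijective (toGerm x).rangeRestrict
    ⟨fun _ _ h => toGerm_injective x (congrArg Subtype.val h), (toGerm x).rangeRestrict_surjective⟩).symm.toRingHom.comp
      (c.theta0.codRestrict _ c.theta0_mem)

lemma toGerm_theta (F : Conv (Fin c.n)) : toGerm x (c.theta F) = c.theta0 F :=
  congrArg Subtype.val ((RingEquiv.ofBijective (toGerm x).rangeRestrict
    ⟨fun _ _ h => toGerm_injective x (congrArg Subtype.val h), (toGerm x).rangeRestrict_surjective⟩).apply_symm_apply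
      (c.theta0.codRestrict _ c.theta0_mem F))

lemma theta_XC (i : Fin c.n) :
    c.theta (XC i) = (phi x).hom (X.presheaf.germ c.U x.pt c.hx (c.s i)) := by
  apply toGerm_injective x
  rw [toGerm_theta, toGerm_phi_germ]
  exact Filter.Germ.coe_eq.mpr (Filter.Eventually.of_forall fun y => ev_X i)

/-- Sections near the centre are rational in the coordinates. -/
lemma exists_rat {W : X.Opens} (hW : x.pt ∈ W) (t : Γ(X, W)) :
    ∃ P Q : MvPolynomial (Fin c.n) ℂ, MvPolynomial.eval 0 Q ≠ 0 ∧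
      ∀ᶠ y in 𝓝 x, secFun W t y = MvPolynomial.eval (c.crd y) P / MvPolynomial.eval (c.crd y) Q := by
  obtain ⟨q, u, hu, h⟩ := exists_frac x c.hU c.hx (X.presheaf.germ W x.pt hW t)
  obtain ⟨P, hP⟩ := c.exists_poly q
  obtain ⟨Q, hQ⟩ := c.exists_poly u
  have hQ0 : MvPolynomial.eval 0 Q ≠ 0 := by
    rw [← c.crd_self, ← hQ x c.hx]; exact hu
  refine ⟨P, Q, hQ0, ?_⟩
  have h2 := congrArg (fun a => toGerm x ((phi x).hom a)) h
  simp only [map_mul, toGerm_phi_germ] at h2
  rw [← Filter.Germ.coe_mul, Filter.Germ.coe_eq] at h2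
  have hne : ∀ᶠ y in 𝓝 x, MvPolynomial.eval (c.crd y) Q ≠ 0 :=
    (((MvPolynomial.continuous_eval Q).tendsto 0).comp c.tendsto_crd).eventually_ne hQ0
  filter_upwards [h2, hne, c.eventually_small one_pos] with y hy hy0 hyU
  rw [Pi.mul_apply, secFun_apply u hyU.1, secFun_apply q hyU.1, hP y hyU.1, hQ y hyU.1] at hy
  rw [eq_div_iff hy0, hy]

theorem theta_surjective : Function.Surjective c.theta := by
  intro b
  obtain ⟨V, hV, f, rfl⟩ := TopCat.Presheaf.exists_germ_eq (An.anSpace X).presheaf b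
  obtain ⟨V', hV', i, hf⟩ := f.2 ⟨x, hV⟩
  suffices key : ∀ g ∈ chartAlg V', extHom x V' hV' g ∈ c.theta0.range by
    obtain ⟨F, hF⟩ := key _ hf
    refine ⟨F, toGerm_injective x ?_⟩
    rw [toGerm_theta, hF, toGerm_germ]
    refine Filter.Germ.coe_eq.mpr ?_
    filter_upwards [V'.2.mem_nhds hV'] with y hy
    rw [extFun_apply _ hy, extFun_apply _ (i.le hy)]
    rfl
  intro g hg
  induction hg using Algebra.adjoin_induction with
  | algebraMap a =>
    refine ⟨algebraMap ℂ _ a, Filter.Germ.coe_eq.mpr ?_⟩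
    filter_upwards [V'.2.mem_nhds hV'] with y hy
    rw [extFun_apply _ hy]
    exact ev_C a
  | add u v _ _ hu hv => rw [map_add]; exact add_mem hu hv
  | mul u v _ _ hu hv => rw [map_mul]; exact mul_mem hu hv
  | mem g hg =>
    obtain ⟨W, hW, m, t, O, G, hO, hG, hg⟩ := hg
    choose P Q hQ hev using fun j => c.exists_rat (hW ⟨x, hV'⟩) (t j)
    let R : (Fin c.n → ℂ) → (Fin m → ℂ) := fun z j => MvPolynomial.eval z (P j) / MvPolynomial.eval z (Q j)
    have hR0 : R 0 ∈ O := by
      have e : R 0 = fun j => x.ev W (hW ⟨x, hV'⟩) (t j) := funext fun j => by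
        rw [← secFun_apply (t j) (hW ⟨x, hV'⟩), (hev j).self_of_nhds, c.crd_self]
      rw [e]; exact (hg ⟨x, hV'⟩).1
    let D : Set (Fin c.n → ℂ) := {z | ∀ j, MvPolynomial.eval z (Q j) ≠ 0}
    have hD : IsOpen D := by
      simp only [D, Set.ofPred_forall]
      exact isOpen_iInter_of_finite fun j => isOpen_ne_fun (MvPolynomial.continuous_eval _) continuous_const
    have hRd : DifferentiableOn ℂ R D := differentiableOn_pi.mpr fun j => by
      simp only [R, div_eq_mul_inv]
      exact (AnHol.differentiable_eval (P j)).differentiableOn.fun_mul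
        ((AnHol.differentiable_eval (Q j)).differentiableOn.fun_inv fun z hz => hz j)
    obtain ⟨F, hF, hFev⟩ := exists_series
      ((hRd.continuousOn.isOpen_inter_preimage hD hO).mem_nhds ⟨hQ, hR0⟩)
      (hG.comp (hRd.mono Set.inter_subset_left) fun z hz => hz.2)
    refine ⟨⟨F, hF⟩, Filter.Germ.coe_eq.mpr ?_⟩
    filter_upwards [c.tendsto_crd.eventually hFev, Filter.eventually_all.mpr hev, V'.2.mem_nhds hV']
      with y hy1 hy2 hy3
    rw [extFun_apply _ hy3, (hg ⟨y, hy3⟩).2]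
    show ev (c.crd y) F = _
    rw [← hy1]
    exact congrArg G (funext fun j => by
      show _ / _ = _
      rw [← hy2 j, secFun_apply (t j) (hW ⟨y, hy3⟩)])

lemma val_theta (F : Conv (Fin c.n)) :
    val x (c.theta F) = MvPowerSeries.constantCoeff (F : MvPowerSeries (Fin c.n) ℂ) := by
  show Filter.Germ.value (toGerm x _) = _
  rw [toGerm_theta]
  show ev (c.crd x) F.1 = _
  rw [c.crd_self, ev_at_zero]

include c in
lemma ker_val : RingHom.ker (val x) =
    (IsLocalRing.maximalIdeal (X.presheaf.stalk x.pt)).map (phi x).hom := by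
  refine le_antisymm (fun b hb => ?_) (Ideal.map_le_iff_le_comap.mpr fun a ha => (mem_maximalIdeal_iff x a).mp ha)
  obtain ⟨F, rfl⟩ := c.theta_surjective b
  rw [RingHom.mem_ker, val_theta] at hb
  have h1 := Ideal.mem_map_of_mem c.theta (mem_span_XC F hb)
  refine (?_ : Ideal.map _ _ ≤ _) h1
  rw [Ideal.map_span, Ideal.span_le]
  rintro _ ⟨_, ⟨i, rfl⟩, rfl⟩
  rw [theta_XC]
  refine Ideal.mem_map_of_mem _ ((mem_maximalIdeal_iff x _).mpr ?_)
  rw [val_phi_germ]
  exact c.h0 i

end Chart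

end Groth.Agent.Lib.AnLoc
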