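import Groth.Agent.Lib.AnLoc.Chart
import Groth.Agent.Lib.LocalFlat.Criterion
import Mathlib.RingTheory.TensorProduct.Quotient

/-!
# Algebraic versus analytic local rings
-/

open AlgebraicGeometry CategoryTheory TopologicalSpace Opposite Topology Filter IsLocalRing
open scoped TensorProduct

set_option backward.isDefEq.respectTransparency.types false
set_option linter.style.haveILetI false
set_option linter.unusedSectionVars false

noncomputable section

namespace Groth.Agent.Lib.AnLoc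

open An Groth.Agent.Lib.AnPts

variable {X : Scheme.{0}} [X.Over SC] [LocallyOfFiniteType (X ↘ SC)] (x : Pts X)

instance isNoetherianRing_st : IsNoetherianRing (St x) := by
  obtain ⟨c⟩ := exists_chart x
  exact isNoetherianRing_of_surjective _ _ c.theta c.theta_surjective

instance isLocalRing_st : IsLocalRing (St x) := by
  obtain ⟨c⟩ := exists_chart x
  haveI : Nontrivial (St x) := (val x).domain_nontrivial
  exact IsLocalRing.of_surjective' c.theta c.theta_surjective

lemma isNoetherianRing_stalk : IsNoetherianRing (X.presheaf.stalk x.pt) :=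
  haveI := LocallyOfFiniteType.isLocallyNoetherian (X ↘ SC)
  inferInstance

/-- Constant functions in the algebraic local ring. -/
def const : ℂ →+* X.presheaf.stalk x.pt :=
  (X.presheaf.germ ⊤ x.pt (Opens.mem_top _)).hom.comp (strHom X)

lemma val_phi_const (a : ℂ) : val x ((phi x).hom (const x a)) = a := by
  rw [const, RingHom.comp_apply, val_phi_germ]
  exact evTop_strHom x a

lemma maximalIdeal_eq : maximalIdeal (St x) = (maximalIdeal (X.presheaf.stalk x.pt)).map (phi x).hom := by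
  obtain ⟨c⟩ := exists_chart x
  rw [← c.ker_val]
  exact (IsLocalRing.eq_maximalIdeal
    (RingHom.ker_isMaximal_of_surjective _ fun a => ⟨_, val_phi_const x a⟩)).symm

lemma ker_val_eq : RingHom.ker (val x) = maximalIdeal (St x) :=
  IsLocalRing.eq_maximalIdeal (RingHom.ker_isMaximal_of_surjective _ fun a => ⟨_, val_phi_const x a⟩)

instance isLocalHom_phi : IsLocalHom (phi x).hom :=
  ⟨fun a ha => by
    by_contra h
    have h1 : a ∈ maximalIdeal (X.presheaf.stalk x.pt) := h
    rw [mem_maximalIdeal_iff] at h1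
    have h2 := ha.map (val x)
    rw [h1] at h2
    exact not_isUnit_zero h2⟩

lemma exists_approx_pow (n : ℕ) (b : St x) :
    ∃ a, (phi x).hom a - b ∈ maximalIdeal (St x) ^ n := by
  induction n with
  | zero => exact ⟨0, by simp⟩
  | succ n ih =>
    obtain ⟨a, ha⟩ := ih
    suffices h : ∀ z ∈ maximalIdeal (St x) ^ n,
        ∃ a', (phi x).hom a' - z ∈ maximalIdeal (St x) ^ (n + 1) by
      obtain ⟨a', ha'⟩ := h _ ha
      refine ⟨a - a', ?_⟩
      have e : (phi x).hom (a - a') - b = -((phi x).hom a' - ((phi x).hom a - b)) := by rw [map_sub]; ring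
      rw [e]; exact neg_mem ha'
    intro z hz
    rw [maximalIdeal_eq, ← Ideal.map_pow] at hz
    induction hz using Submodule.span_induction with
    | mem z hz => obtain ⟨a, -, rfl⟩ := hz; exact ⟨a, by simp⟩
    | zero => exact ⟨0, by simp⟩
    | add u v _ _ hu hv =>
      obtain ⟨a, ha⟩ := hu
      obtain ⟨a', ha'⟩ := hv
      exact ⟨a + a', by simpa [add_sub_add_comm] using add_mem ha ha'⟩
    | smul r z hz hz' =>
      obtain ⟨a, ha⟩ := hz'
      refine ⟨const x (val x r) * a, ?_⟩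
      have h1 : r - (phi x).hom (const x (val x r)) ∈ maximalIdeal (St x) := by
        rw [← ker_val_eq, RingHom.mem_ker, map_sub, val_phi_const, sub_self]
      have h2 : z ∈ maximalIdeal (St x) ^ n := by
        rw [maximalIdeal_eq, ← Ideal.map_pow]; exact hz
      have e : (phi x).hom (const x (val x r) * a) - r • z =
          (phi x).hom (const x (val x r)) * ((phi x).hom a - z) - (r - (phi x).hom (const x (val x r))) * z := by
        rw [map_mul, smul_eq_mul]; ring
      rw [e, pow_succ']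
      exact sub_mem (Ideal.mul_mem_left _ _ (by rw [← pow_succ']; exact ha)) (Ideal.mul_mem_mul h1 h2)

lemma exists_approx_mem {k : ℕ} {b : St x} (hb : b ∈ maximalIdeal (St x) ^ k) (N : ℕ) :
    ∃ a ∈ maximalIdeal (X.presheaf.stalk x.pt) ^ k, (phi x).hom a - b ∈ maximalIdeal (St x) ^ N := by
  rw [maximalIdeal_eq, ← Ideal.map_pow] at hb
  induction hb using Submodule.span_induction with
  | mem z hz => obtain ⟨a, ha, rfl⟩ := hz; exact ⟨a, ha, by simp⟩
  | zero => exact ⟨0, zero_mem _, by simp⟩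
  | add u v _ _ hu hv =>
    obtain ⟨a, ha, h⟩ := hu
    obtain ⟨a', ha', h'⟩ := hv
    exact ⟨a + a', add_mem ha ha', by simpa [add_sub_add_comm] using add_mem h h'⟩
  | smul r z _ hz =>
    obtain ⟨a, ha, h⟩ := hz
    obtain ⟨c, hc⟩ := exists_approx_pow x N r
    refine ⟨c * a, Ideal.mul_mem_left _ _ ha, ?_⟩
    have e : (phi x).hom (c * a) - r • z = ((phi x).hom c - r) * (phi x).hom a + r * ((phi x).hom a - z) := by
      rw [map_mul, smul_eq_mul]; ring
    rw [e]
    exact add_mem (Ideal.mul_mem_right _ _ hc) (Ideal.mul_mem_left _ _ h)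

section Growth

variable {x} (c : Chart x)

/-- Germs that are `O(‖crd‖^N)`. -/
def growth (N : ℕ) : Ideal (St x) where
  carrier := {b | ∃ u : Pts X → ℂ, toGerm x b = (u : Gm x) ∧
    ∃ C, ∀ᶠ y in 𝓝 x, ‖u y‖ ≤ C * ‖c.crd y‖ ^ N}
  zero_mem' := ⟨0, by simp, 0, Filter.Eventually.of_forall fun y => by simp⟩
  add_mem' := by
    rintro a b ⟨u, hu, C, hC⟩ ⟨v, hv, D, hD⟩
    refine ⟨u + v, by rw [map_add, hu, hv]; rfl, C + D, ?_⟩
    filter_upwards [hC, hD] with y h1 h2
    rw [add_mul]
    exact (norm_add_le _ _).trans (add_le_add h1 h2)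
  smul_mem' := by
    rintro r b ⟨v, hv, D, hD⟩
    obtain ⟨⟨F, s, hs, hF⟩, rfl⟩ := c.theta_surjective r
    refine ⟨(fun y => ev (c.crd y) F) * v, by rw [smul_eq_mul, map_mul, c.toGerm_theta, hv]; rfl,
      nrm (fun _ => s) F * D, ?_⟩
    filter_upwards [hD, c.eventually_small hs] with y h2 hy
    rw [Pi.mul_apply, norm_mul, mul_assoc]
    exact mul_le_mul (norm_ev_le (fun i => (norm_le_pi_norm _ i).trans hy.2.le) hF) h2 (norm_nonneg _)
      (nrm_nonneg (fun _ => hs.le) F)

lemma growth_mul (N M : ℕ) : growth c N * growth c M ≤ growth c (N + M) := by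
  refine Ideal.mul_le.mpr ?_
  rintro a ⟨u, hu, C, hC⟩ b ⟨v, hv, D, hD⟩
  refine ⟨u * v, by rw [map_mul, hu, hv]; rfl, |C| * |D|, ?_⟩
  filter_upwards [hC, hD] with y h1 h2
  have e1 := h1.trans (mul_le_mul_of_nonneg_right (le_abs_self C) (by positivity))
  have e2 := h2.trans (mul_le_mul_of_nonneg_right (le_abs_self D) (by positivity))
  rw [Pi.mul_apply, norm_mul, pow_add, mul_mul_mul_comm]
  exact mul_le_mul e1 e2 (norm_nonneg _) (by positivity)

lemma maximalIdeal_le_growth : maximalIdeal (St x) ≤ growth c 1 := by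
  intro b hb
  obtain ⟨F, rfl⟩ := c.theta_surjective b
  rw [← ker_val_eq, RingHom.mem_ker, c.val_theta] at hb
  have h1 := Ideal.mem_map_of_mem c.theta (mem_span_XC F hb)
  refine (?_ : Ideal.map _ _ ≤ _) h1
  rw [Ideal.map_span, Ideal.span_le]
  rintro _ ⟨_, ⟨i, rfl⟩, rfl⟩
  refine ⟨fun y => c.crd y i, ?_, 1, Filter.Eventually.of_forall fun y => ?_⟩
  · rw [c.toGerm_theta]
    exact Filter.Germ.coe_eq.mpr (Filter.Eventually.of_forall fun y => ev_X i)
  · rw [pow_one, one_mul]
    exact norm_le_pi_norm (c.crd y) i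

lemma pow_le_growth (N : ℕ) : maximalIdeal (St x) ^ N ≤ growth c N := by
  induction N with
  | zero =>
    rw [pow_zero, Ideal.one_eq_top]
    refine top_le_iff.mpr ((Ideal.eq_top_iff_one _).mpr ⟨fun _ => 1, by rw [map_one]; rfl, 1, ?_⟩)
    exact Filter.Eventually.of_forall fun y => by simp
  | succ N ih => exact (Ideal.mul_mono ih (maximalIdeal_le_growth c)).trans (growth_mul c N 1)

end Growth

variable [IsReduced X]

lemma exists_order_stalk (k : ℕ) : ∃ N, ∀ a, (phi x).hom a ∈ maximalIdeal (St x) ^ N →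
    a ∈ maximalIdeal (X.presheaf.stalk x.pt) ^ k := by
  obtain ⟨c⟩ := exists_chart x
  haveI : IsAffine c.U.toScheme := c.hU
  haveI : LocallyOfFiniteType (c.U.toScheme ↘ SC) := by rw [← comp_over c.U.ι (Y := X)]; infer_instance
  obtain ⟨z, hz⟩ := exists_map_ι_eq c.hx
  letI alg : Algebra ℂ Γ(c.U.toScheme, ⊤) := (strHom c.U.toScheme).toAlgebra
  haveI : Algebra.FiniteType ℂ Γ(c.U.toScheme, ⊤) := finiteType_strHom c.U.toScheme
  let ψ₀ : Γ(c.U.toScheme, ⊤) →ₐ[ℂ] ℂ := { evTopHom z with commutes' := fun a => evTop_strHom z a }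
  let t : Fin c.n → Γ(c.U.toScheme, ⊤) := fun i => c.U.topIso.inv (c.s i)
  have ht0 : ∀ i, ψ₀ (t i) = 0 := fun i => by
    have h := congrFun (c.crd_map z) i
    rw [hz, c.crd_self] at h
    exact h.symm
  obtain ⟨N, hN⟩ := Estimate.exists_order ψ₀ t ht0 k
  refine ⟨N, fun a ha => ?_⟩
  obtain ⟨q, u, hu, h⟩ := exists_frac x c.hU c.hx a
  have hq : (phi x).hom (X.presheaf.germ c.U x.pt c.hx q) ∈ maximalIdeal (St x) ^ N := by
    rw [← h, map_mul]; exact Ideal.mul_mem_right _ _ ha
  obtain ⟨f, hf, C, hC⟩ := pow_le_growth c N hq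
  rw [toGerm_phi_germ, Filter.Germ.coe_eq] at hf
  obtain ⟨δ, hδ, hδS⟩ := c.exists_near (hC.and hf)
  have hsmall : Estimate.Small t N (c.U.topIso.inv q) := by
    refine ⟨C, δ, hδ, fun ψ hψ => ?_⟩
    obtain ⟨w, hw⟩ := exists_pts_of_ringHom (ψ : Γ(c.U.toScheme, ⊤) →+* ℂ) (fun a => ψ.commutes a)
    have hcrd : c.crd (Pts.map c.U.ι w) = fun i => ψ (t i) := (c.crd_map w).trans (funext fun i => hw _)
    have hmem : (Pts.map c.U.ι w).pt ∈ c.U := by
      have : Pts.map c.U.ι w ∈ Pts.pt ⁻¹' (c.U : Set X) := range_map_ι c.U ▸ Set.mem_range_self w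
      exact this
    obtain ⟨h1, h2⟩ := hδS _ hmem (by rw [hcrd]; exact hψ)
    rw [← hcrd]
    calc ‖ψ (c.U.topIso.inv q)‖ = ‖secFun c.U q (Pts.map c.U.ι w)‖ := by
          rw [secFun_apply _ hmem, ev_map_ι, hw]; rfl
      _ ≤ C * ‖c.crd (Pts.map c.U.ι w)‖ ^ N := by rw [h2]; exact h1
  have hqk := Ideal.mem_map_of_mem
    ((X.presheaf.germ c.U x.pt c.hx).hom.comp c.U.topIso.hom.hom) (hN _ hsmall)
  rw [RingHom.comp_apply, Iso.inv_hom_id_apply, Ideal.map_pow] at hqk
  have hle : (RingHom.ker ψ₀).map ((X.presheaf.germ c.U x.pt c.hx).hom.comp c.U.topIso.hom.hom) ≤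
      maximalIdeal (X.presheaf.stalk x.pt) := by
    refine Ideal.map_le_iff_le_comap.mpr fun b hb => ?_
    rw [Ideal.mem_comap, RingHom.comp_apply, mem_maximalIdeal_iff, val_phi_germ]
    have key : ∀ (y : Pts X) (_ : Pts.map c.U.ι z = y) (hy : y.pt ∈ c.U),
        y.ev c.U hy (c.U.topIso.hom b) = z.evTop b := by
      rintro _ rfl hy
      rw [ev_map_ι, Iso.hom_inv_id_apply]
    exact (key x hz c.hx).trans hb
  have h3 := Ideal.pow_right_mono hle k hqk
  rw [← h] at h3
  exact (Ideal.mul_unit_mem_iff_mem _ ((isUnit_germ_iff x c.U c.hx u).mpr hu)).mp h3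

theorem mem_pow_of_phi_mem {k : ℕ} {a : X.presheaf.stalk x.pt}
    (ha : (phi x).hom a ∈ maximalIdeal (St x) ^ k) : a ∈ maximalIdeal (X.presheaf.stalk x.pt) ^ k := by
  obtain ⟨N, hN⟩ := exists_order_stalk x k
  obtain ⟨a', ha', h⟩ := exists_approx_mem x ha N
  have := hN (a' - a) (by rw [map_sub]; exact h)
  simpa using sub_mem ha' this

theorem flat_phi : (phi x).hom.Flat := by
  algebraize [(phi x).hom]
  haveI := isNoetherianRing_stalk x
  let m := maximalIdeal (X.presheaf.stalk x.pt)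
  refine Lib.LocalFlat.Criterion.flat_of_flat_quotient_pow (St x) m
    (Lib.LocalFlat.Criterion.map_le_jacobson_bot ?_) fun n => ?_
  · rw [RingHom.algebraMap_toAlgebra, ← maximalIdeal_eq x]; exact (maximalIdeal.isMaximal _).ne_top
  · let Q := X.presheaf.stalk x.pt ⧸ m ^ n
    let q : St x →ₐ[X.presheaf.stalk x.pt] St x ⧸ (m ^ n).map (phi x).hom := Ideal.Quotient.mkₐ _ _
    let g : Q →ₐ[X.presheaf.stalk x.pt] St x ⧸ (m ^ n).map (phi x).hom :=
      Ideal.Quotient.liftₐ (m ^ n) (q.comp (Algebra.ofId _ _)) fun a ha =>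
        Ideal.Quotient.eq_zero_iff_mem.mpr (Ideal.mem_map_of_mem _ ha)
    have hg : Function.Bijective g := by
      constructor
      · rw [injective_iff_map_eq_zero]
        intro a ha
        obtain ⟨a, rfl⟩ := Ideal.Quotient.mk_surjective a
        refine Ideal.Quotient.eq_zero_iff_mem.mpr (mem_pow_of_phi_mem x ?_)
        rw [maximalIdeal_eq, ← Ideal.map_pow]
        exact Ideal.Quotient.eq_zero_iff_mem.mp ha
      · intro b
        obtain ⟨b, rfl⟩ := Ideal.Quotient.mk_surjective b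
        obtain ⟨a, ha⟩ := exists_approx_pow x n b
        refine ⟨Ideal.Quotient.mk _ a, Ideal.Quotient.eq.mpr ?_⟩
        rw [Ideal.map_pow, ← maximalIdeal_eq]
        exact ha
    let e1 := Algebra.TensorProduct.quotIdealMapEquivQuotTensor (A := X.presheaf.stalk x.pt) (B := St x) (m ^ n)
    have hsurj : Function.Surjective
        (Algebra.TensorProduct.includeLeft : Q →ₐ[Q] TensorProduct (X.presheaf.stalk x.pt) Q (St x)) := by
      intro y
      obtain ⟨b, hb⟩ := e1.surjective y
      obtain ⟨a, ha⟩ := hg.2 b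
      refine ⟨a, ?_⟩
      rw [← hb, ← ha]
      obtain ⟨a, rfl⟩ := Ideal.Quotient.mk_surjective a
      show (Ideal.Quotient.mk (m ^ n) a) ⊗ₜ[X.presheaf.stalk x.pt] (1 : St x) =
        e1 (Ideal.Quotient.mk _ (algebraMap (X.presheaf.stalk x.pt) (St x) a))
      rw [Algebra.TensorProduct.quotIdealMapEquivQuotTensor_mk]
      exact Algebra.TensorProduct.tmul_one_eq_one_tmul a
    have hinj : Function.Injective
        (Algebra.TensorProduct.includeLeft : Q →ₐ[Q] TensorProduct (X.presheaf.stalk x.pt) Q (St x)) := by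
      let Φ : TensorProduct (X.presheaf.stalk x.pt) Q (St x) →ₐ[X.presheaf.stalk x.pt] St x ⧸ (m ^ n).map (phi x).hom :=
        Algebra.TensorProduct.lift g q fun _ _ => Commute.all _ _
      intro a b hab
      apply hg.1
      have := congrArg Φ hab
      simpa [Φ] using this
    exact Module.Flat.of_linearEquiv
      (LinearEquiv.ofBijective (Algebra.TensorProduct.includeLeft : Q →ₐ[Q] _).toLinearMap ⟨hinj, hsurj⟩).symm

end Groth.Agent.Lib.AnLoc
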