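import Mathlib.RingTheory.MvPowerSeries.Basic
import Mathlib.Analysis.Complex.Basic
import Mathlib.Analysis.Normed.Ring.InfiniteSum
import Mathlib.Topology.Algebra.InfiniteSum.Ring
import Mathlib.Data.Finsupp.Antidiagonal
import Mathlib.Analysis.SumOverResidueClass

/-!
# Convergent power series in several variables
-/

set_option linter.unusedSectionVars false

noncomputable section

open scoped BigOperators

namespace Groth.Agent.Lib.AnLoc

variable {σ : Type} [Fintype σ]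

/-- The weight `ρ^α`. -/
def wt (ρ : σ → ℝ) (α : σ →₀ ℕ) : ℝ := ∏ i, ρ i ^ α i

/-- The monomial `z^α`. -/
def mono (z : σ → ℂ) (α : σ →₀ ℕ) : ℂ := ∏ i, z i ^ α i

lemma wt_nonneg {ρ : σ → ℝ} (hρ : ∀ i, 0 ≤ ρ i) (α : σ →₀ ℕ) : 0 ≤ wt ρ α :=
  Finset.prod_nonneg fun i _ => pow_nonneg (hρ i) _

lemma wt_pos {ρ : σ → ℝ} (hρ : ∀ i, 0 < ρ i) (α : σ →₀ ℕ) : 0 < wt ρ α :=
  Finset.prod_pos fun i _ => pow_pos (hρ i) _

lemma wt_mono {ρ ρ' : σ → ℝ} (hρ : ∀ i, 0 ≤ ρ i) (h : ∀ i, ρ i ≤ ρ' i) (α : σ →₀ ℕ) :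
    wt ρ α ≤ wt ρ' α :=
  Finset.prod_le_prod (fun i _ => pow_nonneg (hρ i) _) fun i _ => pow_le_pow_left₀ (hρ i) (h i) _

lemma wt_add (ρ : σ → ℝ) (α β : σ →₀ ℕ) : wt ρ (α + β) = wt ρ α * wt ρ β := by
  simp [wt, pow_add, Finset.prod_mul_distrib]

lemma mono_add (z : σ → ℂ) (α β : σ →₀ ℕ) : mono z (α + β) = mono z α * mono z β := by
  simp [mono, pow_add, Finset.prod_mul_distrib]

lemma wt_zero (ρ : σ → ℝ) : wt ρ 0 = 1 := by simp [wt]

lemma mono_zero (z : σ → ℂ) : mono z 0 = 1 := by simp [mono]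

lemma norm_mono_le {ρ : σ → ℝ} {z : σ → ℂ} (hz : ∀ i, ‖z i‖ ≤ ρ i) (α : σ →₀ ℕ) :
    ‖mono z α‖ ≤ wt ρ α := by
  simp only [mono, wt, norm_prod, norm_pow]
  exact Finset.prod_le_prod (fun i _ => by positivity) fun i _ => pow_le_pow_left₀ (norm_nonneg _) (hz i) _

/-- `F` converges absolutely on the closed polydisc of radius `ρ`. -/
def Summ (ρ : σ → ℝ) (F : MvPowerSeries σ ℂ) : Prop :=
  Summable fun α => ‖MvPowerSeries.coeff α F‖ * wt ρ α

/-- The weighted norm. -/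
def nrm (ρ : σ → ℝ) (F : MvPowerSeries σ ℂ) : ℝ :=
  ∑' α, ‖MvPowerSeries.coeff α F‖ * wt ρ α

/-- The value at a point. -/
def ev (z : σ → ℂ) (F : MvPowerSeries σ ℂ) : ℂ :=
  ∑' α, MvPowerSeries.coeff α F * mono z α

variable {ρ ρ' : σ → ℝ} {F G : MvPowerSeries σ ℂ}

lemma nrm_nonneg (hρ : ∀ i, 0 ≤ ρ i) (F : MvPowerSeries σ ℂ) : 0 ≤ nrm ρ F :=
  tsum_nonneg fun α => mul_nonneg (norm_nonneg _) (wt_nonneg hρ α)

lemma coeff_le_nrm (hρ : ∀ i, 0 ≤ ρ i) (hF : Summ ρ F) (α : σ →₀ ℕ) :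
    ‖MvPowerSeries.coeff α F‖ * wt ρ α ≤ nrm ρ F :=
  hF.le_tsum α fun β _ => mul_nonneg (norm_nonneg _) (wt_nonneg hρ β)

lemma Summ.mono_radius (hρ : ∀ i, 0 ≤ ρ i) (h : ∀ i, ρ i ≤ ρ' i) (hF : Summ ρ' F) : Summ ρ F :=
  hF.of_nonneg_of_le (fun α => mul_nonneg (norm_nonneg _) (wt_nonneg hρ α))
    fun α => mul_le_mul_of_nonneg_left (wt_mono hρ h α) (norm_nonneg _)

lemma nrm_mono_radius (hρ : ∀ i, 0 ≤ ρ i) (h : ∀ i, ρ i ≤ ρ' i) (hF : Summ ρ' F) :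
    nrm ρ F ≤ nrm ρ' F :=
  (hF.mono_radius hρ h).tsum_le_tsum
    (fun α => mul_le_mul_of_nonneg_left (wt_mono hρ h α) (norm_nonneg _)) hF

lemma Summ.zero : Summ ρ (0 : MvPowerSeries σ ℂ) := by
  simp [Summ, summable_zero]

lemma Summ.monomial (α : σ →₀ ℕ) (c : ℂ) : Summ ρ (MvPowerSeries.monomial α c) := by
  classical
  refine summable_of_ne_finset_zero (s := {α}) fun β hβ => ?_
  simp [MvPowerSeries.coeff_monomial, show β ≠ α by simpa using hβ]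

lemma nrm_monomial (α : σ →₀ ℕ) (c : ℂ) : nrm ρ (MvPowerSeries.monomial α c) = ‖c‖ * wt ρ α := by
  classical
  rw [nrm, tsum_eq_single α (fun β hβ => by simp [MvPowerSeries.coeff_monomial, hβ])]
  simp

lemma Summ.one : Summ ρ (1 : MvPowerSeries σ ℂ) := Summ.monomial 0 1

lemma Summ.C (c : ℂ) : Summ ρ (MvPowerSeries.C c : MvPowerSeries σ ℂ) := Summ.monomial 0 c

lemma Summ.X (i : σ) : Summ ρ (MvPowerSeries.X i : MvPowerSeries σ ℂ) :=
  Summ.monomial (Finsupp.single i 1) 1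

lemma Summ.neg (hF : Summ ρ F) : Summ ρ (-F) := by
  simpa [Summ] using hF

lemma Summ.add (hρ : ∀ i, 0 ≤ ρ i) (hF : Summ ρ F) (hG : Summ ρ G) : Summ ρ (F + G) := by
  refine (Summable.add hF hG).of_nonneg_of_le (fun α => mul_nonneg (norm_nonneg _) (wt_nonneg hρ α)) fun α => ?_
  rw [map_add, ← add_mul]
  exact mul_le_mul_of_nonneg_right (norm_add_le _ _) (wt_nonneg hρ α)

lemma Summ.sub (hρ : ∀ i, 0 ≤ ρ i) (hF : Summ ρ F) (hG : Summ ρ G) : Summ ρ (F - G) := by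
  rw [sub_eq_add_neg]; exact hF.add hρ hG.neg

lemma nrm_add_le (hρ : ∀ i, 0 ≤ ρ i) (hF : Summ ρ F) (hG : Summ ρ G) :
    nrm ρ (F + G) ≤ nrm ρ F + nrm ρ G := by
  rw [nrm, nrm, nrm, ← Summable.tsum_add hF hG]
  refine (hF.add hρ hG).tsum_le_tsum (fun α => ?_) (Summable.add hF hG)
  rw [map_add, ← add_mul]
  exact mul_le_mul_of_nonneg_right (norm_add_le _ _) (wt_nonneg hρ α)

lemma nrm_neg (F : MvPowerSeries σ ℂ) : nrm ρ (-F) = nrm ρ F := by
  simp [nrm]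

private lemma norm_coeff_mul_wt_le [DecidableEq σ] (hρ : ∀ i, 0 ≤ ρ i) (α : σ →₀ ℕ) :
    ‖MvPowerSeries.coeff α (F * G)‖ * wt ρ α ≤ ∑ p ∈ Finset.HasAntidiagonal.antidiagonal α,
      (‖MvPowerSeries.coeff p.1 F‖ * wt ρ p.1) * (‖MvPowerSeries.coeff p.2 G‖ * wt ρ p.2) := by
  rw [MvPowerSeries.coeff_mul]
  refine (mul_le_mul_of_nonneg_right (norm_sum_le _ _) (wt_nonneg hρ α)).trans ?_
  rw [Finset.sum_mul]
  refine Finset.sum_le_sum fun p hp => ?_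
  rw [← Finset.mem_antidiagonal.mp hp, wt_add, norm_mul]
  exact le_of_eq (by ring)

lemma Summ.mul (hρ : ∀ i, 0 ≤ ρ i) (hF : Summ ρ F) (hG : Summ ρ G) : Summ ρ (F * G) := by
  classical
  let a : (σ →₀ ℕ) → ℝ := fun α => ‖MvPowerSeries.coeff α F‖ * wt ρ α
  let b : (σ →₀ ℕ) → ℝ := fun α => ‖MvPowerSeries.coeff α G‖ * wt ρ α
  have h : Summable fun x : (σ →₀ ℕ) × (σ →₀ ℕ) => a x.1 * b x.2 :=
    Summable.mul_of_nonneg (f := a) (g := b) hF hG
      (fun α => mul_nonneg (norm_nonneg _) (wt_nonneg hρ α))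
      (fun α => mul_nonneg (norm_nonneg _) (wt_nonneg hρ α))
  exact (summable_sum_mul_antidiagonal_of_summable_mul (f := a) (g := b) h).of_nonneg_of_le
    (fun α => mul_nonneg (norm_nonneg _) (wt_nonneg hρ α)) (norm_coeff_mul_wt_le hρ)

lemma nrm_mul_le (hρ : ∀ i, 0 ≤ ρ i) (hF : Summ ρ F) (hG : Summ ρ G) :
    nrm ρ (F * G) ≤ nrm ρ F * nrm ρ G := by
  classical
  let a : (σ →₀ ℕ) → ℝ := fun α => ‖MvPowerSeries.coeff α F‖ * wt ρ α
  let b : (σ →₀ ℕ) → ℝ := fun α => ‖MvPowerSeries.coeff α G‖ * wt ρ α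
  have h : Summable fun x : (σ →₀ ℕ) × (σ →₀ ℕ) => a x.1 * b x.2 :=
    Summable.mul_of_nonneg (f := a) (g := b) hF hG
      (fun α => mul_nonneg (norm_nonneg _) (wt_nonneg hρ α))
      (fun α => mul_nonneg (norm_nonneg _) (wt_nonneg hρ α))
  rw [nrm, nrm, nrm]
  change _ ≤ (∑' α, a α) * ∑' α, b α
  rw [Summable.tsum_mul_tsum_eq_tsum_sum_antidiagonal (f := a) (g := b) hF hG h]
  exact (hF.mul hρ hG).tsum_le_tsum (norm_coeff_mul_wt_le hρ)
    (summable_sum_mul_antidiagonal_of_summable_mul (f := a) (g := b) h)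

lemma Summ.pow (hρ : ∀ i, 0 ≤ ρ i) (hF : Summ ρ F) (n : ℕ) : Summ ρ (F ^ n) := by
  induction n with
  | zero => simpa using Summ.one
  | succ n ih => rw [pow_succ]; exact ih.mul hρ hF

lemma nrm_pow_le (hρ : ∀ i, 0 ≤ ρ i) (hF : Summ ρ F) (n : ℕ) : nrm ρ (F ^ n) ≤ nrm ρ F ^ n := by
  induction n with
  | zero =>
    rw [pow_zero, pow_zero]
    refine le_of_eq ?_
    rw [show (1 : MvPowerSeries σ ℂ) = MvPowerSeries.monomial 0 1 from rfl, nrm_monomial, norm_one,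
      one_mul, wt_zero]
  | succ n ih =>
    rw [pow_succ, pow_succ]
    exact (nrm_mul_le hρ (hF.pow hρ n) hF).trans
      (mul_le_mul_of_nonneg_right ih (nrm_nonneg hρ F))

section Eval

variable {z : σ → ℂ}

lemma summable_norm_ev (hz : ∀ i, ‖z i‖ ≤ ρ i) (hF : Summ ρ F) :
    Summable fun α => ‖MvPowerSeries.coeff α F * mono z α‖ := by
  refine hF.of_nonneg_of_le (fun α => norm_nonneg _) fun α => ?_
  rw [norm_mul]
  exact mul_le_mul_of_nonneg_left (norm_mono_le hz α) (norm_nonneg _)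

lemma norm_ev_le (hz : ∀ i, ‖z i‖ ≤ ρ i) (hF : Summ ρ F) : ‖ev z F‖ ≤ nrm ρ F := by
  refine (norm_tsum_le_tsum_norm (summable_norm_ev hz hF)).trans ?_
  refine (summable_norm_ev hz hF).tsum_le_tsum (fun α => ?_) hF
  rw [norm_mul]
  exact mul_le_mul_of_nonneg_left (norm_mono_le hz α) (norm_nonneg _)

lemma ev_add (hz : ∀ i, ‖z i‖ ≤ ρ i) (hF : Summ ρ F) (hG : Summ ρ G) :
    ev z (F + G) = ev z F + ev z G := by
  rw [ev, ev, ev, ← (summable_norm_ev hz hF).of_norm.tsum_add (summable_norm_ev hz hG).of_norm]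
  exact tsum_congr fun α => by rw [map_add, add_mul]

lemma ev_neg (F : MvPowerSeries σ ℂ) : ev z (-F) = -ev z F := by
  rw [ev, ev, ← tsum_neg]
  exact tsum_congr fun α => by rw [map_neg, neg_mul]

lemma ev_mul (hz : ∀ i, ‖z i‖ ≤ ρ i) (hF : Summ ρ F) (hG : Summ ρ G) :
    ev z (F * G) = ev z F * ev z G := by
  classical
  let a : (σ →₀ ℕ) → ℂ := fun α => MvPowerSeries.coeff α F * mono z α
  let b : (σ →₀ ℕ) → ℂ := fun α => MvPowerSeries.coeff α G * mono z α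
  have h1 : Summable fun α => ‖a α‖ := summable_norm_ev hz hF
  have h2 : Summable fun α => ‖b α‖ := summable_norm_ev hz hG
  rw [ev, ev, ev]
  change _ = (∑' α, a α) * ∑' α, b α
  rw [Summable.tsum_mul_tsum_eq_tsum_sum_antidiagonal (f := a) (g := b) h1.of_norm h2.of_norm
    (summable_mul_of_summable_norm (f := a) (g := b) h1 h2)]
  refine tsum_congr fun α => ?_
  rw [MvPowerSeries.coeff_mul, Finset.sum_mul]
  refine Finset.sum_congr rfl fun p hp => ?_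
  rw [← Finset.mem_antidiagonal.mp hp, mono_add]
  ring

lemma ev_monomial (α : σ →₀ ℕ) (c : ℂ) : ev z (MvPowerSeries.monomial α c) = c * mono z α := by
  classical
  rw [ev, tsum_eq_single α (fun β hβ => by simp [MvPowerSeries.coeff_monomial, hβ])]
  simp

lemma ev_C (c : ℂ) : ev z (MvPowerSeries.C c : MvPowerSeries σ ℂ) = c := by
  rw [show (MvPowerSeries.C c : MvPowerSeries σ ℂ) = MvPowerSeries.monomial 0 c from rfl, ev_monomial,
    mono_zero, mul_one]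

lemma ev_one : ev z (1 : MvPowerSeries σ ℂ) = 1 := ev_C 1

lemma ev_X (i : σ) : ev z (MvPowerSeries.X i : MvPowerSeries σ ℂ) = z i := by
  classical
  rw [MvPowerSeries.X_def, ev_monomial, one_mul, mono,
    Finset.prod_eq_single i (fun j _ hj => by rw [Finsupp.single_eq_of_ne hj, pow_zero]) (by simp)]
  simp

lemma ev_at_zero (F : MvPowerSeries σ ℂ) : ev 0 F = MvPowerSeries.constantCoeff F := by
  classical
  rw [ev, tsum_eq_single 0]
  · simp [mono_zero]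
  · intro α hα
    obtain ⟨i, hi⟩ := Finsupp.ne_iff.mp hα
    rw [mono, Finset.prod_eq_zero (Finset.mem_univ i) (show (0 : σ → ℂ) i ^ α i = 0 from zero_pow (by simpa using hi)), mul_zero]

end Eval

/-- Convergent near the origin. -/
def IsConv (F : MvPowerSeries σ ℂ) : Prop := ∃ r : ℝ, 0 < r ∧ Summ (fun _ : σ => r) F

lemma Summ.isConv (hρ : ∀ i, 0 < ρ i) (hF : Summ ρ F) : IsConv F := by
  classical
  rcases isEmpty_or_nonempty σ with h | h
  · exact ⟨1, one_pos, hF.mono_radius (fun _ => zero_le_one) (fun i => isEmptyElim i)⟩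
  · refine ⟨Finset.univ.inf' Finset.univ_nonempty ρ, (Finset.lt_inf'_iff _).mpr fun i _ => hρ i,
      hF.mono_radius (fun _ => ((Finset.lt_inf'_iff _).mpr fun i _ => hρ i).le) fun i =>
        Finset.inf'_le _ (Finset.mem_univ i)⟩

lemma IsConv.exists_le (hF : IsConv F) :
    ∃ r₀ : ℝ, 0 < r₀ ∧ ∀ r, 0 ≤ r → r ≤ r₀ → Summ (fun _ : σ => r) F :=
  let ⟨r₀, h₀, h⟩ := hF
  ⟨r₀, h₀, fun _ hr hle => h.mono_radius (fun _ => hr) fun _ => hle⟩

lemma IsConv.common (hF : IsConv F) (hG : IsConv G) :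
    ∃ r : ℝ, 0 < r ∧ Summ (fun _ : σ => r) F ∧ Summ (fun _ : σ => r) G :=
  let ⟨a, ha, h1⟩ := hF
  let ⟨b, hb, h2⟩ := hG
  ⟨min a b, lt_min ha hb, h1.mono_radius (fun _ => (lt_min ha hb).le) fun _ => min_le_left a b,
    h2.mono_radius (fun _ => (lt_min ha hb).le) fun _ => min_le_right a b⟩

variable (σ)

/-- The ring `ℂ{z}` of convergent power series. -/
def Conv : Subalgebra ℂ (MvPowerSeries σ ℂ) where
  carrier := {F | IsConv F}
  mul_mem' := fun {F G} hF hG =>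
    let ⟨r, hr, h1, h2⟩ := hF.common hG
    ⟨r, hr, h1.mul (fun _ => hr.le) h2⟩
  add_mem' := fun {F G} hF hG =>
    let ⟨r, hr, h1, h2⟩ := hF.common hG
    ⟨r, hr, h1.add (fun _ => hr.le) h2⟩
  algebraMap_mem' c := ⟨1, one_pos, by
    rw [MvPowerSeries.algebraMap_apply]; exact Summ.C _⟩

variable {σ}

lemma mem_Conv {F : MvPowerSeries σ ℂ} : F ∈ Conv σ ↔ IsConv F := Iff.rfl

end Groth.Agent.Lib.AnLoc
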