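import Groth.Agent.Lib.AnLoc.Chart
import Groth.Agent.Lib.Regular.Indep
import Groth.Agent.Lib.Regular.Serre
import Mathlib.RingTheory.Smooth.Field
import Mathlib.RingTheory.MvPowerSeries.Derivative
import Mathlib.RingTheory.MvPowerSeries.NoZeroDivisors
import Mathlib.RingTheory.Localization.AtPrime.Basic

/-!
# Convergent series: regularity, and regularity of the fibres over polynomials
-/

open IsLocalRing Finsupp

set_option backward.isDefEq.respectTransparency.types false
set_option linter.style.haveILetI false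
set_option linter.unusedSectionVars false

noncomputable section

namespace Groth.Agent.Lib.AnLoc

variable {n : ℕ}

/-- One commutative ring instance from which all the weaker ones are derived. -/
instance (priority := 10000) convCommRing (σ : Type) [Fintype σ] : CommRing (Conv σ) := (Conv σ).toCommRing
instance (priority := 10000) convCommSemiring (σ : Type) [Fintype σ] : CommSemiring (Conv σ) :=
  (convCommRing σ).toCommSemiring
instance (priority := 10000) convSemiring (σ : Type) [Fintype σ] : Semiring (Conv σ) :=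
  (convCommSemiring σ).toSemiring

lemma two_pow_bound (k : ℕ) : ((k : ℝ) + 1) * (1 / 2) ^ k ≤ 1 := by
  induction k with
  | zero => simp
  | succ k ih =>
    have h : (0:ℝ) ≤ (1/2) ^ k := by positivity
    push_cast
    rw [pow_succ]
    nlinarith

lemma isConv_pderiv (i : Fin n) {F : MvPowerSeries (Fin n) ℂ} (hF : IsConv F) :
    IsConv (MvPowerSeries.pderiv ℂ i F) := by
  obtain ⟨r, hr, hF⟩ := hF
  refine ⟨r / 2, half_pos hr, ?_⟩
  let g : (Fin n →₀ ℕ) → ℝ := fun α => ‖MvPowerSeries.coeff α F‖ * wt (fun _ => r) α / r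
  have hg : Summable (fun α => g (α + Finsupp.single i 1)) :=
    (Summable.div_const hF r).comp_injective (add_left_injective _)
  refine hg.of_nonneg_of_le (fun α => mul_nonneg (norm_nonneg _) (wt_nonneg (fun _ => by positivity) α)) fun α => ?_
  have hw : wt (fun _ : Fin n => r) (α + Finsupp.single i 1) = wt (fun _ => r) α * r := by
    rw [wt_add]
    congr 1
    simp [wt, Finsupp.single_apply, pow_ite]
  have hhalf : wt (fun _ : Fin n => r / 2) α ≤ wt (fun _ => r) α * (1 / 2) ^ α i := by
    have h1 : wt (fun _ : Fin n => r / 2) α = wt (fun _ => r) α * wt (fun _ => (1 / 2 : ℝ)) α := by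
      simp only [wt, ← Finset.prod_mul_distrib, ← mul_pow]; ring_nf
    rw [h1]
    refine mul_le_mul_of_nonneg_left ?_ (wt_nonneg (fun _ => hr.le) α)
    show ∏ j, (1 / 2 : ℝ) ^ α j ≤ _
    rw [← Finset.mul_prod_erase Finset.univ _ (Finset.mem_univ i)]
    exact mul_le_of_le_one_right (by positivity)
      (Finset.prod_le_one (fun j _ => by positivity) fun j _ => pow_le_one₀ (by norm_num) (by norm_num))
  have hn : ‖((α i : ℂ) + 1)‖ = (α i : ℝ) + 1 := by
    rw [show ((α i : ℂ) + 1) = ((α i + 1 : ℕ) : ℂ) by push_cast; ring, Complex.norm_natCast]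
    push_cast; ring
  rw [MvPowerSeries.coeff_pderiv, norm_mul, hn]
  simp only [g, hw]
  rw [← mul_assoc, mul_div_cancel_right₀ _ hr.ne', mul_assoc]
  refine mul_le_mul_of_nonneg_left ?_ (norm_nonneg _)
  calc ((α i : ℝ) + 1) * wt (fun _ : Fin n => r / 2) α
      ≤ ((α i : ℝ) + 1) * (wt (fun _ => r) α * (1 / 2) ^ α i) :=
        mul_le_mul_of_nonneg_left hhalf (by positivity)
    _ = (((α i : ℝ) + 1) * (1 / 2) ^ α i) * wt (fun _ => r) α := by ring
    _ ≤ _ := mul_le_of_le_one_left (wt_nonneg (fun _ => hr.le) α) (two_pow_bound _)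

/-- The partial derivative of a convergent series. -/
def dC (i : Fin n) (F : Conv (Fin n)) : Conv (Fin n) := ⟨MvPowerSeries.pderiv ℂ i F.1, isConv_pderiv i F.2⟩

lemma dC_add (i : Fin n) (F G : Conv (Fin n)) : dC i (F + G) = dC i F + dC i G :=
  Subtype.ext (map_add (MvPowerSeries.pderiv ℂ i) F.1 G.1)

lemma dC_mul (i : Fin n) (F G : Conv (Fin n)) : dC i (F * G) = F * dC i G + G * dC i F :=
  Subtype.ext ((MvPowerSeries.pderiv ℂ i).leibniz F.1 G.1)

lemma dC_zero (i : Fin n) : dC i (0 : Conv (Fin n)) = 0 :=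
  Subtype.ext (map_zero (MvPowerSeries.pderiv ℂ i))

/-- Polynomials as convergent series. -/
def polyC : MvPolynomial (Fin n) ℂ →ₐ[ℂ] Conv (Fin n) := MvPolynomial.aeval XC

lemma coe_polyC (p : MvPolynomial (Fin n) ℂ) :
    ((polyC p : Conv (Fin n)) : MvPowerSeries (Fin n) ℂ) = (p : MvPowerSeries (Fin n) ℂ) := by
  have h : (Conv (Fin n)).val.comp polyC = MvPolynomial.coeToMvPowerSeries.algHom ℂ := by
    refine MvPolynomial.algHom_ext fun i => ?_
    simp [polyC, XC]
  have := DFunLike.congr_fun h p
  simpa using this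

lemma dC_polyC (i : Fin n) (p : MvPolynomial (Fin n) ℂ) : dC i (polyC p) = polyC (MvPolynomial.pderiv i p) :=
  Subtype.ext (by
    show MvPowerSeries.pderiv ℂ i _ = _
    rw [coe_polyC, coe_polyC, MvPowerSeries.pderiv_coe])

instance isDomain_conv : IsDomain (Conv (Fin n)) :=
  haveI : IsDomain (MvPowerSeries (Fin n) ℂ) := NoZeroDivisors.to_isDomain _
  Function.Injective.isDomain (Conv (Fin n)).val.toRingHom Subtype.val_injective

lemma slice_zero_incl (G : MvPowerSeries (Fin n) ℂ) : slice 0 (incl G) = G := by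
  ext β
  rw [show MvPowerSeries.coeff β (slice 0 (incl G)) = MvPowerSeries.coeff (β.cons 0) (incl G) from rfl,
    coeff_incl]
  simp

theorem isRegularLocalRing_conv : ∀ n, IsRegularLocalRing (Conv (Fin n))
  | 0 => by
    refine .of_spanFinrank_maximalIdeal_le _ ?_
    have h : maximalIdeal (Conv (Fin 0)) = ⊥ := by
      rw [eq_bot_iff]
      intro F hF
      rw [IsLocalRing.mem_maximalIdeal, mem_nonunits_iff, isUnit_iff, not_not] at hF
      have := mem_span_XC F hF
      simpa using this
    rw [h, Submodule.spanFinrank_bot]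
    exact ringKrullDim_nonneg_of_nontrivial
  | n + 1 => by
    have ih := isRegularLocalRing_conv n
    let I : Ideal (Conv (Fin (n + 1))) := Ideal.span {XC 0}
    let q : Conv (Fin n) →+* Conv (Fin (n + 1)) ⧸ I :=
      (Ideal.Quotient.mk I).comp (inclC (n := n)).toRingHom
    have hq : Function.Bijective q := by
      constructor
      · rw [injective_iff_map_eq_zero]
        intro G hG
        obtain ⟨D, hD⟩ := Ideal.mem_span_singleton'.mp (Ideal.Quotient.eq_zero_iff_mem.mp hG)
        have h1 : incl G.1 = D.1 * MvPowerSeries.X 0 := (congrArg Subtype.val hD).symm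
        refine Subtype.ext (MvPowerSeries.ext fun β => ?_)
        rw [← slice_zero_incl G.1]
        show MvPowerSeries.coeff (β.cons 0) (incl G.1) = 0
        rw [h1]
        classical
        rw [MvPowerSeries.X_def, MvPowerSeries.coeff_mul_monomial, if_neg]
        intro hle
        have := hle 0
        simp at this
      · intro b
        obtain ⟨F, rfl⟩ := Ideal.Quotient.mk_surjective b
        obtain ⟨r, hr, hFr⟩ := F.2
        refine ⟨⟨slice 0 F.1, isConv_slice 0 F.2⟩, Ideal.Quotient.eq.mpr (Ideal.mem_span_singleton'.mpr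
          ⟨-⟨shiftDiv 0 1 F.1, ⟨r, hr, hFr.shiftDiv fun _ => hr⟩⟩, Subtype.ext ?_⟩)⟩
        show -shiftDiv 0 1 F.1 * MvPowerSeries.X 0 = incl (slice 0 F.1) - F.1
        have h4 := truncW_add_shiftDiv (i₀ := (0 : Fin (n + 1))) (d := 1) F.1
        have h5 := truncW_eq_sum 1 F.1
        simp only [Finset.sum_range_one, pow_zero, one_mul, pow_one] at h4 h5
        rw [h5] at h4
        linear_combination -h4
    have hx : XC (0 : Fin (n + 1)) ∈ maximalIdeal (Conv (Fin (n + 1))) := by
      rw [IsLocalRing.mem_maximalIdeal, mem_nonunits_iff, isUnit_iff, not_not]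
      exact MvPowerSeries.constantCoeff_X 0
    have hne : XC (0 : Fin (n + 1)) ≠ 0 := fun h0 => by
      have := congrArg (fun F => MvPowerSeries.coeff (Finsupp.single (0 : Fin (n + 1)) 1) (F : Conv (Fin (n + 1))).1) h0
      simp [XC, MvPowerSeries.coeff_X] at this
    exact Regular.Quotient.of_quotient_singleton hx (fun a b h => mul_left_cancel₀ hne h)
      (IsRegularLocalRing.of_ringEquiv (RingEquiv.ofBijective q hq))

/-- Two maps from polynomials with square zero difference. -/
lemma sub_eq_sum_pderiv {B : Type} [CommRing B] [Algebra ℂ B] (q s : MvPolynomial (Fin n) ℂ →ₐ[ℂ] B)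
    (h : ∀ a b, (q a - s a) * (q b - s b) = 0) (a : MvPolynomial (Fin n) ℂ) :
    q a - s a = ∑ k, q (MvPolynomial.pderiv k a) * (q (MvPolynomial.X k) - s (MvPolynomial.X k)) := by
  induction a using MvPolynomial.induction_on with
  | C c => simp [← MvPolynomial.algebraMap_eq]
  | add u v hu hv =>
    simp only [map_add, add_mul, Finset.sum_add_distrib, ← hu, ← hv]
    ring
  | mul_X u j hu =>
    have h3 : ∀ k, q (MvPolynomial.pderiv k (u * MvPolynomial.X j)) *
        (q (MvPolynomial.X k) - s (MvPolynomial.X k)) =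
        q (MvPolynomial.X j) * (q (MvPolynomial.pderiv k u) * (q (MvPolynomial.X k) - s (MvPolynomial.X k))) +
        if k = j then q u * (q (MvPolynomial.X j) - s (MvPolynomial.X j)) else 0 := by
      intro k
      rw [MvPolynomial.pderiv_mul, MvPolynomial.pderiv_X, map_add, map_mul, map_mul]
      by_cases hk : k = j
      · subst hk; simp; ring
      · simp [Pi.single_eq_of_ne (Ne.symm hk), hk]; ring
    rw [Finset.sum_congr rfl fun k _ => h3 k, Finset.sum_add_distrib, ← Finset.mul_sum, ← hu,
      Finset.sum_ite_eq', if_pos (Finset.mem_univ _), map_mul, map_mul]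
    linear_combination -(h u (MvPolynomial.X j))

/-- Square-zero form: if all derivatives lie in the maximal ideal, so does the element in its square. -/
theorem mem_sq_of_pderiv_aux {L : Type} [CommRing L] [IsLocalRing L] [Algebra ℂ L]
    [Algebra.FormallySmooth ℂ (ResidueField L)] (ev : MvPolynomial (Fin n) ℂ →ₐ[ℂ] L)
    (g : MvPolynomial (Fin n) ℂ) (hg : ev g ∈ maximalIdeal L)
    (hd : ∀ k, ev (MvPolynomial.pderiv k g) ∈ maximalIdeal L) : ev g ∈ maximalIdeal L ^ 2 := by
  let J : Ideal L := maximalIdeal L ^ 2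
  let π : L ⧸ J →ₐ[ℂ] ResidueField L :=
    Ideal.Quotient.liftₐ J (IsScalarTower.toAlgHom ℂ L (ResidueField L)) fun a ha =>
      (residue_eq_zero_iff a).mpr (Ideal.pow_le_self two_ne_zero ha)
  have hπ : Function.Surjective π := fun b => by
    obtain ⟨a, rfl⟩ := residue_surjective b
    exact ⟨Ideal.Quotient.mk J a, rfl⟩
  have hker : ∀ a b : L ⧸ J, π a = 0 → π b = 0 → a * b = 0 := by
    intro a b ha hb
    obtain ⟨a, rfl⟩ := Ideal.Quotient.mk_surjective a
    obtain ⟨b, rfl⟩ := Ideal.Quotient.mk_surjective b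
    rw [← map_mul, Ideal.Quotient.eq_zero_iff_mem]
    show a * b ∈ maximalIdeal L ^ 2
    rw [sq]
    exact Ideal.mul_mem_mul ((residue_eq_zero_iff a).mp ha) ((residue_eq_zero_iff b).mp hb)
  have hnil : IsNilpotent (RingHom.ker (π : L ⧸ J →+* ResidueField L)) := ⟨2, by
    rw [Submodule.pow_succ (n := 1), Submodule.pow_one]
    exact le_bot_iff.mp (Ideal.mul_le.mpr fun a ha b hb => (Ideal.mem_bot).mpr (hker a b ha hb))⟩
  let σ : ResidueField L →ₐ[ℂ] L ⧸ J :=
    Algebra.FormallySmooth.liftOfSurjective (AlgHom.id ℂ _) π hπ hnil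
  have hσ : ∀ a, π (σ a) = a := fun a =>
    Algebra.FormallySmooth.liftOfSurjective_apply (AlgHom.id ℂ _) π hπ hnil a
  let q : MvPolynomial (Fin n) ℂ →ₐ[ℂ] L ⧸ J := (Ideal.Quotient.mkₐ ℂ J).comp ev
  let s : MvPolynomial (Fin n) ℂ →ₐ[ℂ] L ⧸ J := σ.comp (π.comp q)
  have hdm : ∀ a, π (q a - s a) = 0 := fun a => by
    rw [map_sub, show π (s a) = π (q a) from hσ _, sub_self]
  have hπq : ∀ a, ev a ∈ maximalIdeal L → π (q a) = 0 := fun a ha => (residue_eq_zero_iff _).mpr ha
  have h1 : s g = 0 := by
    show σ (π (q g)) = 0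
    rw [hπq g hg, map_zero]
  have h2 := sub_eq_sum_pderiv q s (fun a b => hker _ _ (hdm a) (hdm b)) g
  rw [h1, sub_zero, Finset.sum_eq_zero fun k _ => hker _ _ (hπq _ (hd k)) (hdm _)] at h2
  exact Ideal.Quotient.eq_zero_iff_mem.mp h2

/-- A polynomial vanishing with its derivatives at a prime lies in the symbolic square. -/
theorem mem_sq_of_pderiv (p : Ideal (MvPolynomial (Fin n) ℂ)) [p.IsPrime] (g : MvPolynomial (Fin n) ℂ)
    (hg : g ∈ p) (hd : ∀ k, MvPolynomial.pderiv k g ∈ p) :
    algebraMap _ (Localization.AtPrime p) g ∈ maximalIdeal (Localization.AtPrime p) ^ 2 := by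
  haveI : Algebra.EssFiniteType ℂ (ResidueField (Localization.AtPrime p)) :=
    Algebra.EssFiniteType.comp ℂ (Localization.AtPrime p) (ResidueField (Localization.AtPrime p))
  exact mem_sq_of_pderiv_aux (IsScalarTower.toAlgHom ℂ _ (Localization.AtPrime p)) g
    ((IsLocalization.AtPrime.to_map_mem_maximal_iff _ p g).mpr hg)
    fun k => (IsLocalization.AtPrime.to_map_mem_maximal_iff _ p _).mpr (hd k)

/-- Generators of the maximal ideal of a localization coming from the ring and independent
modulo its square. -/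
theorem exists_cotangent_lifts {R L : Type} [CommRing R] [CommRing L] [Algebra R L] (p : Ideal R) [p.IsPrime]
    [IsLocalization.AtPrime L p] [IsLocalRing L] [IsNoetherianRing L] :
    ∃ (c : ℕ) (f : Fin c → R), (∀ i, f i ∈ p) ∧
      (∀ g ∈ p, ∃ u ∉ p, u * g ∈ Ideal.span (Set.range f)) ∧
      ∀ a : Fin c → R, algebraMap R L (∑ i, a i * f i) ∈ maximalIdeal L ^ 2 → ∀ i, a i ∈ p := by
  classical
  let b := Module.finBasis (ResidueField L) (CotangentSpace L)
  have hrep : ∀ i, ∃ f ∈ p, ∃ hf : algebraMap R L f ∈ maximalIdeal L, ∃ t : ResidueField L, t ≠ 0 ∧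
      (maximalIdeal L).toCotangent ⟨algebraMap R L f, hf⟩ = t • b i := by
    intro i
    obtain ⟨⟨a, ha⟩, hai⟩ := (maximalIdeal L).toCotangent_surjective (b i)
    obtain ⟨⟨f, u⟩, hfu⟩ := IsLocalization.surj p.primeCompl a
    have hfm : algebraMap R L f ∈ maximalIdeal L := hfu ▸ Ideal.mul_mem_right _ _ ha
    refine ⟨f, (IsLocalization.AtPrime.to_map_mem_maximal_iff L p f).mp hfm, hfm, residue L (algebraMap R L u), ?_, ?_⟩
    · rw [residue_ne_zero_iff_isUnit]
      exact IsLocalization.map_units L u
    · have : (⟨algebraMap R L f, hfm⟩ : maximalIdeal L) = algebraMap R L u • ⟨a, ha⟩ :=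
        Subtype.ext (by
          show algebraMap R L f = algebraMap R L u * a
          rw [mul_comm]; exact hfu.symm)
      rw [this, map_smul, hai]
      rfl
  choose f hfp hfm t ht hft using hrep
  refine ⟨_, f, hfp, fun g hg => ?_, fun a ha i => ?_⟩
  · have hspanf : Submodule.span L (Set.range fun i => (⟨algebraMap R L (f i), hfm i⟩ : maximalIdeal L)) = ⊤ := by
      refine CotangentSpace.span_image_eq_top_iff.mp (eq_top_iff.mpr ?_)
      rw [← b.span_eq, Submodule.span_le]
      rintro _ ⟨i, rfl⟩
      have : b i = (t i)⁻¹ • (maximalIdeal L).toCotangent ⟨algebraMap R L (f i), hfm i⟩ := by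
        rw [hft, smul_smul, inv_mul_cancel₀ (ht i), one_smul]
      rw [this]
      exact Submodule.smul_mem _ _ (Submodule.subset_span ⟨_, ⟨i, rfl⟩, rfl⟩)
    have hgm : algebraMap R L g ∈ maximalIdeal L := (IsLocalization.AtPrime.to_map_mem_maximal_iff L p g).mpr hg
    have h1 : algebraMap R L g ∈ (Ideal.span (Set.range f)).map (algebraMap R L) := by
      have h2 : (⟨algebraMap R L g, hgm⟩ : maximalIdeal L) ∈
          Submodule.span L (Set.range fun i => (⟨algebraMap R L (f i), hfm i⟩ : maximalIdeal L)) :=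
        hspanf ▸ Submodule.mem_top
      have h3 := Submodule.mem_map_of_mem (f := (maximalIdeal L).subtype) h2
      rw [Submodule.map_span, ← Set.range_comp] at h3
      rw [Ideal.map_span, ← Set.range_comp]
      exact h3
    obtain ⟨m, hm, hmg⟩ := (IsLocalization.algebraMap_mem_map_algebraMap_iff p.primeCompl L _ g).mp h1
    exact ⟨m, hm, hmg⟩
  · have h1 : ∀ i, (residue L (algebraMap R L (a i)) * t i) • b i =
        (maximalIdeal L).toCotangent (algebraMap R L (a i) • ⟨algebraMap R L (f i), hfm i⟩) := fun i => by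
      rw [map_smul, hft, mul_smul]; rfl
    have h0 : ∑ i, (residue L (algebraMap R L (a i)) * t i) • b i = 0 := by
      simp only [h1, ← map_sum]
      refine ((maximalIdeal L).toCotangent_eq_zero _).mpr ?_
      simpa [map_sum, Algebra.smul_def] using ha
    have h2 := Fintype.linearIndependent_iff.mp b.linearIndependent _ h0 i
    exact (IsLocalization.AtPrime.to_map_mem_maximal_iff L p _).mp
      ((residue_eq_zero_iff _).mp ((mul_eq_zero.mp h2).resolve_right (ht i)))

/-- Full rank of a matrix modulo a prime. -/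
theorem exists_right_inverse_mod {R : Type} [CommRing R] (p : Ideal R) [p.IsPrime] {c : ℕ}
    (M : Fin c → Fin n → R) (h : ∀ a : Fin c → R, (∀ k, ∑ i, a i * M i k ∈ p) → ∀ i, a i ∈ p) :
    ∃ (N : Fin n → Fin c → R) (d : R), d ∉ p ∧
      ∀ i i', (∑ k, M i k * N k i') - (if i = i' then d else 0) ∈ p := by
  classical
  let K := FractionRing (R ⧸ p)
  let κ : R →+* K := (algebraMap (R ⧸ p) K).comp (Ideal.Quotient.mk p)
  have hκ : ∀ a, κ a = 0 ↔ a ∈ p := fun a => by
    rw [RingHom.comp_apply, IsFractionRing.to_map_eq_zero_iff, Ideal.Quotient.eq_zero_iff_mem]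
  let v : Fin c → Fin n → K := fun i k => κ (M i k)
  have hv : LinearIndependent K v := by
    rw [Fintype.linearIndependent_iff]
    intro g hg
    obtain ⟨e, he⟩ := IsLocalization.exist_integer_multiples (nonZeroDivisors (R ⧸ p)) Finset.univ g
    choose a' ha' using fun i => he i (Finset.mem_univ i)
    choose a ha using fun i => Ideal.Quotient.mk_surjective (a' i)
    have hκa : ∀ i, κ (a i) = algebraMap (R ⧸ p) K e * g i := fun i => by
      rw [RingHom.comp_apply, ha, ha' i, Algebra.smul_def]
    have hd : ∀ k, ∑ i, a i * M i k ∈ p := fun k => by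
      rw [← hκ, map_sum]
      have hk := congrFun hg k
      simp only [Finset.sum_apply, Pi.smul_apply, smul_eq_mul, Pi.zero_apply, v] at hk
      simp only [map_mul, hκa, mul_assoc, ← Finset.mul_sum, hk, mul_zero]
    intro i
    have h3 : κ (a i) = 0 := (hκ _).mpr (h a hd i)
    rw [hκa] at h3
    exact (mul_eq_zero.mp h3).resolve_left
      (fun h => nonZeroDivisors.coe_ne_zero e ((IsFractionRing.to_map_eq_zero_iff).mp h))
  obtain ⟨D, hD⟩ := (Fintype.linearCombination K v).exists_leftInverse_of_injective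
    (LinearMap.ker_eq_bot.mpr (linearIndependent_iff_injective_fintypeLinearCombination.mp hv))
  let N₀ : Fin n → Fin c → K := fun k i => D (Pi.single k 1) i
  have hN₀ : ∀ i i', ∑ k, v i k * N₀ k i' = if i = i' then 1 else 0 := by
    intro i i'
    have h1 := congrFun (LinearMap.congr_fun hD (Pi.single i 1)) i'
    rw [LinearMap.comp_apply, Fintype.linearCombination_apply_single, one_smul] at h1
    rw [show v i = ∑ k, v i k • Pi.single k (1 : K) from (pi_eq_sum_univ' (v i))] at h1
    simp only [map_sum, map_smul, Finset.sum_apply, Pi.smul_apply, smul_eq_mul, LinearMap.id_apply,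
      Pi.single_apply] at h1
    exact h1.trans (if_congr eq_comm rfl rfl)
  obtain ⟨e, he⟩ := IsLocalization.exist_integer_multiples (nonZeroDivisors (R ⧸ p))
    (Finset.univ ×ˢ Finset.univ) (fun x : Fin n × Fin c => N₀ x.1 x.2)
  choose N' hN' using fun k i => he (k, i) (Finset.mem_product.mpr ⟨Finset.mem_univ _, Finset.mem_univ _⟩)
  choose N hN using fun k i => Ideal.Quotient.mk_surjective (N' k i)
  obtain ⟨d, hd⟩ := Ideal.Quotient.mk_surjective (e : R ⧸ p)
  refine ⟨N, d, fun h => nonZeroDivisors.coe_ne_zero e (by rw [← hd]; exact Ideal.Quotient.eq_zero_iff_mem.mpr h),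
    fun i i' => ?_⟩
  have hκN : ∀ k i, κ (N k i) = algebraMap (R ⧸ p) K e * N₀ k i := fun k i => by
    rw [RingHom.comp_apply, hN, hN' k i, Algebra.smul_def]
  rw [← hκ, map_sub, map_sum]
  have h1 : ∀ k, κ (M i k * N k i') = algebraMap (R ⧸ p) K e * (v i k * N₀ k i') :=
    fun k => by rw [map_mul, hκN]; ring
  simp only [h1, ← Finset.mul_sum, hN₀]
  split_ifs with h
  · rw [mul_one, RingHom.comp_apply, hd, sub_self]
  · simp

/-- Generators of `p R_p` with Jacobian of full rank modulo `p`. -/
theorem exists_jacobian (p : Ideal (MvPolynomial (Fin n) ℂ)) [p.IsPrime] :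
    ∃ (c : ℕ) (f : Fin c → MvPolynomial (Fin n) ℂ), (∀ i, f i ∈ p) ∧
      (∀ g ∈ p, ∃ u ∉ p, u * g ∈ Ideal.span (Set.range f)) ∧
      ∃ (N : Fin n → Fin c → MvPolynomial (Fin n) ℂ) (d : MvPolynomial (Fin n) ℂ), d ∉ p ∧
        ∀ i i', (∑ k, MvPolynomial.pderiv k (f i) * N k i') - (if i = i' then d else 0) ∈ p := by
  obtain ⟨c, f, hfp, hgen, hf⟩ := exists_cotangent_lifts (L := Localization.AtPrime p) p
  refine ⟨c, f, hfp, hgen, exists_right_inverse_mod p (fun i k => MvPolynomial.pderiv k (f i)) fun a ha => ?_⟩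
  refine hf a (mem_sq_of_pderiv p _ (Ideal.sum_mem _ fun i _ => Ideal.mul_mem_left _ _ (hfp i)) fun k => ?_)
  rw [map_sum]
  have h1 : ∀ i, MvPolynomial.pderiv k (a i * f i) =
      MvPolynomial.pderiv k (a i) * f i + a i * MvPolynomial.pderiv k (f i) := fun i => MvPolynomial.pderiv_mul
  simp only [h1, Finset.sum_add_distrib]
  exact add_mem (Ideal.sum_mem _ fun i _ => Ideal.mul_mem_left _ _ (hfp i)) (ha k)

set_option maxHeartbeats 1600000 in
/-- The fibres of convergent series over polynomials are regular. -/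
theorem isRegularLocalRing_fibre (Q : Ideal (Conv (Fin n))) [Q.IsPrime] :
    IsRegularLocalRing (Localization.AtPrime Q ⧸
      ((Q.comap (polyC (n := n))).map (polyC (n := n))).map (algebraMap _ (Localization.AtPrime Q))) := by
  classical
  haveI := isRegularLocalRing_conv n
  haveI := Regular.Serre.isRegularLocalRing_localization Q
  set p := Q.comap (polyC (n := n)) with hp
  let L := Localization.AtPrime Q
  obtain ⟨c, f, hfp, hgen, N, d, hd, hND⟩ := exists_jacobian p
  have hfm : ∀ i, algebraMap _ L (polyC (f i)) ∈ maximalIdeal L := fun i =>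
    (IsLocalization.AtPrime.to_map_mem_maximal_iff L Q _).mpr (hfp i)
  let F : Fin c → maximalIdeal L := fun i => ⟨_, hfm i⟩
  have hindep : LinearIndependent (ResidueField L) (fun i => (maximalIdeal L).toCotangent (F i)) := by
    rw [Fintype.linearIndependent_iff]
    intro g hg i
    choose a ha using fun i => residue_surjective (g i)
    obtain ⟨e, he⟩ := IsLocalization.exist_integer_multiples Q.primeCompl Finset.univ a
    choose A hA using fun i => he i (Finset.mem_univ i)
    have hsum : algebraMap _ L (∑ i, A i * polyC (f i)) ∈ maximalIdeal L ^ 2 := by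
      have h1 : (∑ i, a i • F i : maximalIdeal L).1 ∈ maximalIdeal L ^ 2 := by
        refine ((maximalIdeal L).toCotangent_eq_zero _).mp ?_
        rw [map_sum]
        refine Eq.trans (Finset.sum_congr rfl fun i _ => ?_) hg
        rw [map_smul, ← ha i]
        rfl
      rw [map_sum]
      have h2 : ∀ i, algebraMap _ L (A i * polyC (f i)) = algebraMap _ L (e : Conv (Fin n)) * (a i * algebraMap _ L (polyC (f i))) := fun i => by
        rw [map_mul, hA i, Algebra.smul_def, mul_assoc]
      simp only [h2, ← Finset.mul_sum]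
      refine Ideal.mul_mem_left _ _ ?_
      simpa [F] using h1
    obtain ⟨m, hm, hmS⟩ := (IsLocalization.algebraMap_mem_map_algebraMap_iff Q.primeCompl L (Q ^ 2) _).mp
      (by rw [Ideal.map_pow, Localization.AtPrime.map_eq_maximalIdeal]; exact hsum)
    have hdQ : ∀ (b : Conv (Fin n)) (k : Fin n), b ∈ Q ^ 2 → dC k b ∈ Q := by
      intro b k hb
      rw [sq] at hb
      refine Submodule.mul_induction_on hb (fun x hx y hy => ?_) fun x y hx hy => ?_
      · rw [dC_mul]; exact add_mem (Ideal.mul_mem_right _ _ hx) (Ideal.mul_mem_right _ _ hy)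
      · rw [dC_add]; exact add_mem hx hy
    have hS : ∀ (s : Finset (Fin c)), (∑ i ∈ s, A i * polyC (f i)) ∈ Q := fun s =>
      Ideal.sum_mem _ fun i _ => Ideal.mul_mem_left _ _ (hfp i)
    have hk : ∀ k, ∑ i, A i * polyC (MvPolynomial.pderiv k (f i)) ∈ Q := fun k => by
      have hsumd : ∀ s : Finset (Fin c), dC k (∑ i ∈ s, A i * polyC (f i)) -
          ∑ i ∈ s, A i * polyC (MvPolynomial.pderiv k (f i)) ∈ Q := by
        intro s
        induction s using Finset.induction_on with
        | empty => simp [dC_zero]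
        | insert j s hj ih =>
          rw [Finset.sum_insert hj, Finset.sum_insert hj, dC_add, dC_mul, dC_polyC]
          have : A j * polyC (MvPolynomial.pderiv k (f j)) + polyC (f j) * dC k (A j) +
              dC k (∑ i ∈ s, A i * polyC (f i)) -
              (A j * polyC (MvPolynomial.pderiv k (f j)) + ∑ i ∈ s, A i * polyC (MvPolynomial.pderiv k (f i))) =
              polyC (f j) * dC k (A j) + (dC k (∑ i ∈ s, A i * polyC (f i)) -
                ∑ i ∈ s, A i * polyC (MvPolynomial.pderiv k (f i))) := by ring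
          rw [this]
          exact add_mem (Ideal.mul_mem_right _ _ (hfp j)) ih
      have h1 := hdQ _ k hmS
      rw [dC_mul] at h1
      have h2 : m * dC k (∑ i, A i * polyC (f i)) ∈ Q :=
        (Ideal.add_mem_iff_left _ (Ideal.mul_mem_right _ _ (hS Finset.univ))).mp h1
      have h3 := (Ideal.IsPrime.mem_or_mem ‹Q.IsPrime› h2).resolve_left hm
      exact (Submodule.sub_mem_iff_right _ h3).mp (hsumd Finset.univ)
    have hAi : A i ∈ Q := by
      have h1 : ∑ k, (∑ j, A j * polyC (MvPolynomial.pderiv k (f j))) * polyC (N k i) ∈ Q :=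
        Ideal.sum_mem _ fun k _ => Ideal.mul_mem_right _ _ (hk k)
      have h2 : ∑ k, (∑ j, A j * polyC (MvPolynomial.pderiv k (f j))) * polyC (N k i) - A i * polyC d =
          ∑ j, A j * polyC ((∑ k, MvPolynomial.pderiv k (f j) * N k i) - if j = i then d else 0) := by
        simp only [Finset.sum_mul, map_sub, map_sum, map_mul, mul_sub, Finset.sum_sub_distrib, Finset.mul_sum]
        rw [Finset.sum_comm]
        simp only [mul_assoc, apply_ite (polyC (n := n)), map_zero, mul_ite, mul_zero, Finset.sum_ite_eq',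
          Finset.mem_univ, if_true]
      have h3 : A i * polyC d ∈ Q := by
        refine (Submodule.sub_mem_iff_right Q h1).mp ?_
        rw [h2]
        exact Ideal.sum_mem _ fun j _ => Ideal.mul_mem_left _ _ (hND j i)
      exact (Ideal.IsPrime.mem_or_mem ‹Q.IsPrime› h3).resolve_right hd
    rw [← ha i, residue_eq_zero_iff]
    have h4 : algebraMap _ L (A i) ∈ maximalIdeal L := (IsLocalization.AtPrime.to_map_mem_maximal_iff L Q _).mpr hAi
    rw [hA i, Algebra.smul_def] at h4
    exact (Ideal.unit_mul_mem_iff_mem _ (IsLocalization.map_units L e)).mp h4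
  have hspan : Ideal.span (Set.range fun i => (F i : L)) =
      (p.map (polyC (n := n))).map (algebraMap _ L) := by
    refine le_antisymm (Ideal.span_le.mpr ?_) (Ideal.map_le_iff_le_comap.mpr (Ideal.map_le_iff_le_comap.mpr fun g hg => ?_))
    · rintro _ ⟨i, rfl⟩
      exact Ideal.mem_map_of_mem _ (Ideal.mem_map_of_mem _ (hfp i))
    · obtain ⟨u, hu, hug⟩ := hgen g hg
      rw [Ideal.mem_comap, Ideal.mem_comap]
      have h1 := Ideal.mem_map_of_mem ((algebraMap (Conv (Fin n)) L).comp (polyC (n := n)).toRingHom) hug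
      rw [Ideal.map_span, ← Set.range_comp, map_mul] at h1
      exact (Ideal.unit_mul_mem_iff_mem _ (IsLocalization.map_units L (⟨polyC u, hu⟩ : Q.primeCompl))).mp h1
  rw [← hspan]
  exact (Regular.Indep.quotient_of_indep F hindep).1

end Groth.Agent.Lib.AnLoc
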