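import Groth.Agent.Lib.AnLoc.Comparison
import Groth.Agent.Lib.AnLoc.RegFibre
import Groth.Agent.Lib.AnLoc.FlatAscent
import Groth.Agent.H21.SkDescent
import Mathlib.RingTheory.MvPolynomial.Ideal

/-!
# The map from the algebraic to the analytic local ring has regular fibres
-/

open AlgebraicGeometry CategoryTheory TopologicalSpace Opposite Topology IsLocalRing

set_option backward.isDefEq.respectTransparency.types false
set_option linter.style.haveILetI false
set_option linter.unusedSectionVars false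

noncomputable section

namespace Groth.Agent.Lib.AnLoc

open An Groth.Agent.Lib.AnPts

variable {X : Scheme.{0}} [X.Over SC] [LocallyOfFiniteType (X ↘ SC)] {x : Pts X} (c : Chart x)

namespace Chart

/-- Polynomials in the coordinates as germs of regular functions. -/
def epsilon : MvPolynomial (Fin c.n) ℂ →+* X.presheaf.stalk x.pt :=
  ((X.presheaf.germ c.U x.pt c.hx).hom.comp c.U.topIso.hom.hom).comp
    (MvPolynomial.eval₂Hom (strHom c.U.toScheme) fun i => c.U.topIso.inv (c.s i))

lemma theta_polyC (p : MvPolynomial (Fin c.n) ℂ) : c.theta (polyC p) = (phi x).hom (c.epsilon p) := by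
  apply toGerm_injective x
  rw [toGerm_theta, epsilon, RingHom.comp_apply, RingHom.comp_apply, toGerm_phi_germ]
  refine Filter.Germ.coe_eq.mpr ?_
  filter_upwards [c.eventually_small one_pos] with y hy
  obtain ⟨w, rfl⟩ := exists_map_ι_eq hy.1
  rw [secFun_apply _ hy.1, ev_map_ι, Iso.hom_inv_id_apply, evTop_eval₂, ← c.crd_map]
  show ev _ (polyC p).1 = _
  rw [coe_polyC]
  induction p using MvPolynomial.induction_on' with
  | monomial α a =>
    rw [MvPolynomial.coe_monomial, ev_monomial, MvPolynomial.eval_monomial, mono, Finsupp.prod_fintype]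
    exact fun i => pow_zero _
  | add p q hp hq =>
    have hconv : ∀ q : MvPolynomial (Fin c.n) ℂ, IsConv (q : MvPowerSeries (Fin c.n) ℂ) := fun q =>
      coe_polyC q ▸ (polyC q).2
    obtain ⟨r, hr, h1⟩ := hconv p
    have hz : ∀ (G : MvPolynomial (Fin c.n) ℂ) (ρ : Fin c.n → ℝ), Summ ρ (G : MvPowerSeries (Fin c.n) ℂ) :=
      fun G ρ => summable_of_ne_finset_zero (s := G.support) fun α hα => by
        rw [MvPolynomial.coeff_coe, MvPolynomial.notMem_support_iff.mp hα, norm_zero, zero_mul]
    rw [MvPolynomial.coe_add, map_add]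
    rw [ev_add (ρ := fun i => ‖c.crd (Pts.map c.U.ι w) i‖) (fun i => le_rfl) (hz p _) (hz q _), hp, hq]

lemma exists_epsilon_frac (a : X.presheaf.stalk x.pt) :
    ∃ q u : MvPolynomial (Fin c.n) ℂ, IsUnit (c.epsilon u) ∧ a * c.epsilon u = c.epsilon q := by
  obtain ⟨q, u, hu, h⟩ := exists_frac x c.hU c.hx a
  obtain ⟨Q, hQ⟩ := c.hs (c.U.topIso.inv q)
  obtain ⟨U', hU⟩ := c.hs (c.U.topIso.inv u)
  have hQ' : c.epsilon Q = X.presheaf.germ c.U x.pt c.hx q := by
    rw [epsilon, RingHom.comp_apply, hQ, RingHom.comp_apply, Iso.inv_hom_id_apply]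
  have hU' : c.epsilon U' = X.presheaf.germ c.U x.pt c.hx u := by
    rw [epsilon, RingHom.comp_apply, hU, RingHom.comp_apply, Iso.inv_hom_id_apply]
  exact ⟨Q, U', hU' ▸ (isUnit_germ_iff x c.U c.hx u).mpr hu, by rw [hQ', hU', h]⟩

lemma isUnit_polyC {u : MvPolynomial (Fin c.n) ℂ} (hu : IsUnit (c.epsilon u)) : IsUnit (polyC u) := by
  rw [isUnit_iff]
  have h : val x (c.theta (polyC u)) ≠ 0 := by
    rw [c.theta_polyC]
    exact ((hu.map (phi x).hom).map (val x)).ne_zero
  rwa [c.val_theta] at h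

lemma exists_poly_approx (N : ℕ) : ∀ G : Conv (Fin c.n), ∃ p : MvPolynomial (Fin c.n) ℂ,
    G - polyC p ∈ (Ideal.span (Set.range (XC (n := c.n)))) ^ N := by
  induction N with
  | zero => intro G; exact ⟨0, by simp⟩
  | succ N ih =>
    intro G
    obtain ⟨p, hp⟩ := ih G
    suffices h : ∀ z ∈ (Ideal.span (Set.range (XC (n := c.n)))) ^ N,
        ∃ q, z - polyC q ∈ (Ideal.span (Set.range (XC (n := c.n)))) ^ (N + 1) by
      obtain ⟨q, hq⟩ := h _ hp
      exact ⟨p + q, by rw [map_add, ← sub_sub]; exact hq⟩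
    intro z hz
    have hmap : Ideal.span (Set.range (XC (n := c.n))) =
        (Ideal.span (Set.range (MvPolynomial.X : Fin c.n → MvPolynomial (Fin c.n) ℂ))).map (polyC (n := c.n)) := by
      rw [Ideal.map_span, ← Set.range_comp]
      congr 2
      funext i
      simp [polyC]
    rw [hmap, ← Ideal.map_pow] at hz
    induction hz using Submodule.span_induction with
    | mem z hz => obtain ⟨q, -, rfl⟩ := hz; exact ⟨q, by simp⟩
    | zero => exact ⟨0, by simp⟩
    | add a b _ _ ha hb =>
      obtain ⟨p, hp⟩ := ha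
      obtain ⟨q, hq⟩ := hb
      exact ⟨p + q, by rw [map_add, add_sub_add_comm]; exact add_mem hp hq⟩
    | smul r z hz hz' =>
      obtain ⟨q, hq⟩ := hz'
      let a : ℂ := MvPowerSeries.constantCoeff r.1
      have hr : r - polyC (MvPolynomial.C a) ∈ Ideal.span (Set.range (XC (n := c.n))) := by
        refine mem_span_XC _ ?_
        show MvPowerSeries.constantCoeff (r.1 - (polyC (MvPolynomial.C a)).1) = 0
        rw [coe_polyC, map_sub, MvPolynomial.coe_C, MvPowerSeries.constantCoeff_C, sub_self]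
      have hz2 : z ∈ (Ideal.span (Set.range (XC (n := c.n)))) ^ N := by
        rw [hmap, ← Ideal.map_pow]; exact hz
      refine ⟨MvPolynomial.C a * q, ?_⟩
      have e : r • z - polyC (MvPolynomial.C a * q) =
          (r - polyC (MvPolynomial.C a)) * z + polyC (MvPolynomial.C a) * (z - polyC q) := by
        rw [map_mul, smul_eq_mul]; ring
      rw [e]
      refine add_mem ?_ (Ideal.mul_mem_left _ _ hq)
      rw [pow_succ']
      exact Ideal.mul_mem_mul hr hz2

lemma theta_span_le : (Ideal.span (Set.range (XC (n := c.n)))).map c.theta ≤ maximalIdeal (St x) := by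
  rw [Ideal.map_span, Ideal.span_le]
  rintro _ ⟨_, ⟨i, rfl⟩, rfl⟩
  rw [SetLike.mem_coe, ← ker_val_eq, RingHom.mem_ker, c.val_theta]
  exact MvPowerSeries.constantCoeff_X i

lemma maximalIdeal_stalk_le :
    maximalIdeal (X.presheaf.stalk x.pt) ≤ (Ideal.span (Set.range (MvPolynomial.X : Fin c.n → _))).map c.epsilon := by
  intro a ha
  obtain ⟨q, u, hu, h⟩ := c.exists_epsilon_frac a
  have hq : c.epsilon q ∈ maximalIdeal (X.presheaf.stalk x.pt) := h ▸ Ideal.mul_mem_right _ _ ha
  rw [mem_maximalIdeal_iff, ← c.theta_polyC, c.val_theta, coe_polyC] at hq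
  have hqX : q ∈ Ideal.span (Set.range (MvPolynomial.X : Fin c.n → MvPolynomial (Fin c.n) ℂ)) := by
    rw [← Set.image_univ, MvPolynomial.mem_ideal_span_X_image]
    intro m hm
    have hm0 : m ≠ 0 := fun h0 => MvPolynomial.mem_support_iff.mp hm (by
      rw [h0, ← MvPolynomial.coeff_coe, MvPowerSeries.coeff_zero_eq_constantCoeff_apply]; exact hq)
    obtain ⟨i, hi⟩ := Finsupp.ne_iff.mp hm0
    exact ⟨i, Set.mem_univ i, by simpa using hi⟩
  have : c.epsilon q ∈ (Ideal.span (Set.range (MvPolynomial.X : Fin c.n → _))).map c.epsilon :=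
    Ideal.mem_map_of_mem _ hqX
  rw [← h] at this
  exact (Ideal.mul_unit_mem_iff_mem _ hu).mp this

variable [IsReduced X]

theorem ker_theta : RingHom.ker c.theta = (RingHom.ker c.epsilon).map (polyC (n := c.n)) := by
  refine le_antisymm ?_ (Ideal.map_le_iff_le_comap.mpr fun p hp => ?_)
  swap
  · rw [Ideal.mem_comap, RingHom.mem_ker, c.theta_polyC, RingHom.mem_ker.mp hp, map_zero]
  intro G hG
  set J := (RingHom.ker c.epsilon).map (polyC (n := c.n))
  set M := Ideal.span (Set.range (XC (n := c.n)))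
  have key : ∀ N, G ∈ J ⊔ M ^ N := by
    intro N
    obtain ⟨p, hp⟩ := c.exists_poly_approx N G
    have h1 : (phi x).hom (c.epsilon p) ∈ maximalIdeal (St x) ^ N := by
      rw [← c.theta_polyC]
      have h2 := Ideal.mem_map_of_mem c.theta hp
      rw [map_sub, RingHom.mem_ker.mp hG, zero_sub, neg_mem_iff, Ideal.map_pow] at h2
      exact Ideal.pow_right_mono c.theta_span_le N h2
    have h2 : c.epsilon p ∈ ((Ideal.span (Set.range (MvPolynomial.X : Fin c.n → _))) ^ N).map c.epsilon := by
      rw [Ideal.map_pow]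
      exact Ideal.pow_right_mono c.maximalIdeal_stalk_le N (mem_pow_of_phi_mem x h1)
    have h3 : ∀ z ∈ ((Ideal.span (Set.range (MvPolynomial.X : Fin c.n → _))) ^ N).map c.epsilon,
        ∃ u q, IsUnit (c.epsilon u) ∧ q ∈ (Ideal.span (Set.range (MvPolynomial.X : Fin c.n → _))) ^ N ∧
          z * c.epsilon u = c.epsilon q := by
      intro z hz
      induction hz using Submodule.span_induction with
      | mem z hz => obtain ⟨q, hq, rfl⟩ := hz; exact ⟨1, q, by simp, hq, by simp⟩
      | zero => exact ⟨1, 0, by simp, zero_mem _, by simp⟩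
      | add a b _ _ ha hb =>
        obtain ⟨u, q, hu, hq, h⟩ := ha
        obtain ⟨u', q', hu', hq', h'⟩ := hb
        refine ⟨u * u', q * u' + q' * u, by rw [map_mul]; exact hu.mul hu',
          add_mem (Ideal.mul_mem_right _ _ hq) (Ideal.mul_mem_right _ _ hq'), ?_⟩
        rw [map_mul, map_add, map_mul, map_mul, ← h, ← h']; ring
      | smul r z _ hz =>
        obtain ⟨u, q, hu, hq, h⟩ := hz
        obtain ⟨a, b, hb, hab⟩ := c.exists_epsilon_frac r
        refine ⟨u * b, q * a, by rw [map_mul]; exact hu.mul hb, Ideal.mul_mem_right _ _ hq, ?_⟩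
        rw [map_mul, map_mul, smul_eq_mul, ← h, ← hab]; ring
    obtain ⟨u, q, hu, hq, h⟩ := h3 _ h2
    have h4 : polyC (p * u - q) ∈ J :=
      Ideal.mem_map_of_mem _ (by rw [RingHom.mem_ker, map_sub, map_mul, h, sub_self])
    have h5 : polyC q ∈ M ^ N := by
      have := Ideal.mem_map_of_mem (polyC (n := c.n)) hq
      rw [Ideal.map_pow] at this
      refine Ideal.pow_right_mono ?_ N this
      rw [Ideal.map_span, Ideal.span_le]
      rintro _ ⟨_, ⟨i, rfl⟩, rfl⟩
      exact Ideal.subset_span ⟨i, by simp [polyC]⟩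
    have h6 : polyC p * polyC u ∈ J ⊔ M ^ N := by
      have : polyC p * polyC u = polyC (p * u - q) + polyC q := by rw [map_sub, map_mul]; ring
      rw [this]
      exact add_mem (Submodule.mem_sup_left h4) (Submodule.mem_sup_right h5)
    have h7 := (Ideal.mul_unit_mem_iff_mem _ (c.isUnit_polyC hu)).mp h6
    simpa using add_mem h7 (show G - polyC p ∈ J ⊔ M ^ N from Submodule.mem_sup_right hp)
  by_cases hJ : J = ⊤
  · rw [hJ]; trivial
  haveI : Nontrivial (Conv (Fin c.n) ⧸ J) := Ideal.Quotient.nontrivial_iff.mpr hJ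
  haveI : IsLocalRing (Conv (Fin c.n) ⧸ J) := IsLocalRing.of_surjective' _ Ideal.Quotient.mk_surjective
  rw [← Ideal.Quotient.eq_zero_iff_mem]
  have hM : M.map (Ideal.Quotient.mk J) ≠ ⊤ := by
    intro h
    have h2 := congrArg (Ideal.comap (Ideal.Quotient.mk J)) h
    rw [Ideal.comap_map_of_surjective' _ Ideal.Quotient.mk_surjective, Ideal.mk_ker, Ideal.comap_top] at h2
    have hMm : M ≤ maximalIdeal (Conv (Fin c.n)) := by
      rw [Ideal.span_le]
      rintro _ ⟨i, rfl⟩
      rw [SetLike.mem_coe, IsLocalRing.mem_maximalIdeal, mem_nonunits_iff, isUnit_iff, not_not]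
      exact MvPowerSeries.constantCoeff_X i
    exact (maximalIdeal.isMaximal _).ne_top (top_le_iff.mp (h2 ▸ sup_le hMm (IsLocalRing.le_maximalIdeal hJ)))
  have h8 : Ideal.Quotient.mk J G ∈ ⨅ N, M.map (Ideal.Quotient.mk J) ^ N := Submodule.mem_iInf _ |>.mpr fun N => by
    rw [← Ideal.map_pow]
    obtain ⟨a, ha, b, hb, hab⟩ := Submodule.mem_sup.mp (key N)
    rw [← hab, map_add, Ideal.Quotient.eq_zero_iff_mem.mpr ha, zero_add]
    exact Ideal.mem_map_of_mem _ hb
  rwa [Ideal.iInf_pow_eq_bot_of_isLocalRing _ hM, Ideal.mem_bot] at h8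

end Chart

variable [IsReduced X] (x)

theorem regular_fibres :
    letI := (phi x).hom.toAlgebra
    ∀ (Q : Ideal (St x)) [Q.IsPrime], IsRegularLocalRing (EGA4.FibLocRing (X.presheaf.stalk x.pt) (St x) Q) := by
  letI := (phi x).hom.toAlgebra
  intro Q _
  obtain ⟨c⟩ := exists_chart x
  set Q' := Q.comap c.theta with hQ'
  set P := Q.comap (algebraMap (X.presheaf.stalk x.pt) (St x)) with hP
  have hp : Q'.comap (polyC (n := c.n)) = P.comap c.epsilon := by
    ext p
    simp only [hQ', hP, Ideal.mem_comap, c.theta_polyC, RingHom.algebraMap_toAlgebra]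
  let L' := Localization.AtPrime Q'
  let L := Localization.AtPrime Q
  let Λ : L' →+* L := Localization.localRingHom Q' Q c.theta rfl
  have hΛ : ∀ g, Λ (algebraMap _ L' g) = algebraMap _ L (c.theta g) := fun g => Localization.localRingHom_to_map _ _ _ rfl g
  set K := P.map (algebraMap (X.presheaf.stalk x.pt) L) with hK
  set pL := ((Q'.comap (polyC (n := c.n))).map (polyC (n := c.n))).map (algebraMap (Conv (Fin c.n)) L') with hpL
  let ρ : L' →+* L ⧸ K := (Ideal.Quotient.mk K).comp Λ
  have hρ : Function.Surjective ρ := by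
    intro b
    obtain ⟨b, rfl⟩ := Ideal.Quotient.mk_surjective b
    obtain ⟨s, t, rfl⟩ := IsLocalization.exists_mk'_eq Q.primeCompl b
    obtain ⟨g, hg⟩ := c.theta_surjective s
    obtain ⟨h, hh⟩ := c.theta_surjective t.1
    have hh' : h ∈ Q'.primeCompl := fun hm => t.2 (by have := Ideal.mem_comap.mp hm; rwa [hh] at this)
    refine ⟨IsLocalization.mk' L' g ⟨h, hh'⟩, congrArg (Ideal.Quotient.mk K) ?_⟩
    rw [IsLocalization.eq_mk'_iff_mul_eq, ← hg, ← hh, ← hΛ, ← hΛ, ← map_mul, IsLocalization.mk'_spec]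
  have hker : RingHom.ker ρ = pL := by
    refine le_antisymm ?_ ?_
    · intro z hz
      have hz' : Λ z ∈ K := Ideal.Quotient.eq_zero_iff_mem.mp hz
      have hK' : K ≤ pL.map Λ := by
        rw [hK, Ideal.map_le_iff_le_comap]
        intro a ha
        obtain ⟨q, u, hu, h⟩ := c.exists_epsilon_frac a
        have hq : q ∈ Q'.comap (polyC (n := c.n)) := by
          rw [hp, Ideal.mem_comap, ← h]; exact Ideal.mul_mem_right _ _ ha
        rw [Ideal.mem_comap]
        have h1 : algebraMap (X.presheaf.stalk x.pt) L a * Λ (algebraMap _ L' (polyC u)) = Λ (algebraMap _ L' (polyC q)) := by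
          rw [hΛ, hΛ, c.theta_polyC, c.theta_polyC, IsScalarTower.algebraMap_apply (X.presheaf.stalk x.pt) (St x) L,
            ← map_mul, RingHom.algebraMap_toAlgebra, ← map_mul, h]
        have h2 : Λ (algebraMap _ L' (polyC q)) ∈ pL.map Λ :=
          Ideal.mem_map_of_mem _ (Ideal.mem_map_of_mem _ (Ideal.mem_map_of_mem _ hq))
        rw [← h1] at h2
        exact (Ideal.mul_unit_mem_iff_mem _ (((c.isUnit_polyC hu).map (algebraMap _ L')).map Λ)).mp h2
      have hsurj : Function.Surjective Λ := by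
        intro b
        obtain ⟨s, t, rfl⟩ := IsLocalization.exists_mk'_eq Q.primeCompl b
        obtain ⟨g, hg⟩ := c.theta_surjective s
        obtain ⟨h, hh⟩ := c.theta_surjective t.1
        have hh' : h ∈ Q'.primeCompl := fun hm => t.2 (by have := Ideal.mem_comap.mp hm; rwa [hh] at this)
        refine ⟨IsLocalization.mk' L' g ⟨h, hh'⟩, ?_⟩
        rw [IsLocalization.eq_mk'_iff_mul_eq, ← hg, ← hh, ← hΛ, ← hΛ, ← map_mul, IsLocalization.mk'_spec]
      obtain ⟨y, hy, hyz⟩ := (Ideal.mem_map_iff_of_surjective Λ hsurj).mp (hK' hz')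
      suffices h : RingHom.ker Λ ≤ pL by
        have := add_mem hy (h (show z - y ∈ RingHom.ker Λ by rw [RingHom.mem_ker, map_sub, hyz, sub_self]))
        simpa using this
      intro w hw
      obtain ⟨g, s, rfl⟩ := IsLocalization.exists_mk'_eq Q'.primeCompl w
      have h1 : algebraMap _ L (c.theta g) = 0 := by
        rw [← hΛ, ← IsLocalization.mk'_spec L' g s, map_mul, RingHom.mem_ker.mp hw, zero_mul]
      obtain ⟨t, ht⟩ := (IsLocalization.map_eq_zero_iff Q.primeCompl L _).mp h1
      obtain ⟨t', ht'⟩ := c.theta_surjective t.1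
      have ht'' : t' ∈ Q'.primeCompl := fun hm => t.2 (by have := Ideal.mem_comap.mp hm; rwa [ht'] at this)
      have h2 : t' * g ∈ RingHom.ker c.theta := by rw [RingHom.mem_ker, map_mul, ht', ht]
      rw [c.ker_theta] at h2
      have h3 : t' * g ∈ (Q'.comap (polyC (n := c.n))).map (polyC (n := c.n)) :=
        Ideal.map_mono (by
          intro p hp'
          rw [hp, Ideal.mem_comap, RingHom.mem_ker.mp hp']
          exact zero_mem _) h2
      have h4 := Ideal.mem_map_of_mem (algebraMap _ L') h3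
      rw [map_mul] at h4
      rw [IsLocalization.mk'_eq_mul_mk'_one]
      exact Ideal.mul_mem_right _ _ ((Ideal.unit_mul_mem_iff_mem _ (IsLocalization.map_units L' ⟨t', ht''⟩)).mp h4)
    · rw [hpL, Ideal.map_le_iff_le_comap, Ideal.map_le_iff_le_comap]
      intro p hp'
      rw [Ideal.mem_comap, Ideal.mem_comap, RingHom.mem_ker]
      refine Ideal.Quotient.eq_zero_iff_mem.mpr ?_
      rw [hp, Ideal.mem_comap] at hp'
      rw [hΛ, c.theta_polyC]
      have h1 : (phi x).hom (c.epsilon p) = algebraMap (X.presheaf.stalk x.pt) (St x) (c.epsilon p) := rfl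
      rw [h1, ← IsScalarTower.algebraMap_apply]
      exact Ideal.mem_map_of_mem _ hp'
  haveI := isRegularLocalRing_fibre Q'
  exact IsRegularLocalRing.of_ringEquiv
    ((Ideal.quotEquivOfEq hker.symm).trans (RingHom.quotientKerEquivOfSurjective hρ))

end Groth.Agent.Lib.AnLoc
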