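import Groth.Prelude.Def_AnHol
import Groth.Agent.Lib.AnPts.Basic
import Mathlib.Topology.Germ
import Mathlib.Topology.Sheaves.Stalks
import Mathlib.AlgebraicGeometry.AffineScheme

/-!
# The analytic local ring as a ring of germs of functions
-/

open AlgebraicGeometry CategoryTheory Limits TopologicalSpace Opposite Topology Filter

set_option backward.isDefEq.respectTransparency.types false
set_option linter.style.haveILetI false

noncomputable section

namespace Groth.Agent.Lib.AnLoc

open An Groth.Agent.Lib.AnPts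

variable {X : Scheme.{0}} [X.Over SC] (x : Pts X)

/-- Germs of arbitrary functions at `x`. -/
abbrev Gm : Type := Filter.Germ (𝓝 x) ℂ

open Classical in
/-- Extension by zero. -/
def extFun (V : Opens (top X)) (f : V → ℂ) : Pts X → ℂ := fun y => if h : y ∈ V then f ⟨y, h⟩ else 0

lemma extFun_apply {V : Opens (top X)} (f : V → ℂ) {y : Pts X} (h : y ∈ V) :
    extFun V f y = f ⟨y, h⟩ := dif_pos h

/-- The germ at `x` of a function on a neighbourhood. -/
def extHom (V : Opens (top X)) (hx : x ∈ V) : (V → ℂ) →+* Gm x where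
  toFun f := (extFun V f : Gm x)
  map_zero' := Filter.Germ.coe_eq.mpr (Filter.Eventually.of_forall fun y => by simp [extFun])
  map_one' := Filter.Germ.coe_eq.mpr (by
    filter_upwards [V.2.mem_nhds hx] with y hy
    rw [extFun_apply _ hy]; rfl)
  map_add' f g := by
    rw [← Filter.Germ.coe_add, Filter.Germ.coe_eq]
    filter_upwards [V.2.mem_nhds hx] with y hy
    simp [extFun_apply _ hy]
  map_mul' f g := by
    rw [← Filter.Germ.coe_mul, Filter.Germ.coe_eq]
    filter_upwards [V.2.mem_nhds hx] with y hy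
    simp [extFun_apply _ hy]

lemma extHom_eq_iff {V V' : Opens (top X)} (hx : x ∈ V) (hx' : x ∈ V') (f : V → ℂ) (g : V' → ℂ) :
    extHom x V hx f = extHom x V' hx' g ↔ ∀ᶠ y in 𝓝 x, extFun V f y = extFun V' g y :=
  Filter.Germ.coe_eq

/-- The analytic local ring at `x`. -/
abbrev St : CommRingCat.{0} := (An.anSpace X).presheaf.stalk x

/-- The structural cocone. -/
def germCocone : Cocone ((OpenNhds.inclusion (X := top X) x).op ⋙ holPresheaf X) where
  pt := CommRingCat.of (Gm x)
  ι :=
    { app := fun V => CommRingCat.ofHom ((extHom x V.unop.1 V.unop.2).comp (holSub V.unop.1).val.toRingHom)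
      naturality := fun V V' i => by
        ext f
        refine (extHom_eq_iff x V'.unop.2 V.unop.2 _ _).mpr ?_
        filter_upwards [V'.unop.1.2.mem_nhds V'.unop.2] with y hy
        have hy' : y ∈ V.unop.1 := i.unop.le hy
        rw [extFun_apply _ hy, extFun_apply _ hy']
        rfl }

/-- The inclusion of the analytic local ring in the ring of germs of functions. -/
def toGerm : St x →+* Gm x := (colimit.desc _ (germCocone x)).hom

lemma toGerm_germ (V : Opens (top X)) (hx : x ∈ V) (f : holSub V) :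
    toGerm x ((An.anSpace X).presheaf.germ V x hx f) = extHom x V hx f.1 := by
  have h := colimit.ι_desc (germCocone x) (op ⟨V, hx⟩)
  exact DFunLike.congr_fun (congrArg CommRingCat.Hom.hom h) f

lemma toGerm_injective : Function.Injective (toGerm x) := by
  intro a b h
  obtain ⟨V, hV, f, rfl⟩ := TopCat.Presheaf.exists_germ_eq (An.anSpace X).presheaf a
  obtain ⟨V', hV', g, rfl⟩ := TopCat.Presheaf.exists_germ_eq (An.anSpace X).presheaf b
  rw [toGerm_germ x V hV f, toGerm_germ x V' hV' g, extHom_eq_iff] at h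
  obtain ⟨O, hO, hOo, hxO⟩ := eventually_nhds_iff.mp h
  refine TopCat.Presheaf.germ_ext (An.anSpace X).presheaf (V ⊓ V' ⊓ ⟨O, hOo⟩) ⟨⟨hV, hV'⟩, hxO⟩
    (homOfLE (inf_le_left.trans inf_le_left)) (homOfLE (inf_le_left.trans inf_le_right)) ?_
  apply Subtype.ext
  funext ⟨y, hy⟩
  have := hO y hy.2
  rw [extFun_apply _ hy.1.1, extFun_apply _ hy.1.2] at this
  exact this

/-- The value at `x`. -/
def val : St x →+* ℂ := (Filter.Germ.valueRingHom (x := x)).comp (toGerm x)

lemma val_germ (V : Opens (top X)) (hx : x ∈ V) (f : holSub V) :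
    val x ((An.anSpace X).presheaf.germ V x hx f) = f.1 ⟨x, hx⟩ := by
  show Filter.Germ.value (toGerm x _) = _
  rw [toGerm_germ]
  exact extFun_apply _ hx

/-- The map on stalks. -/
abbrev phi : X.presheaf.stalk x.pt ⟶ St x := PresheafedSpace.Hom.stalkMap (An.anToScheme X) x

open Classical in
/-- A section as a function on all points. -/
def secFun (V : X.Opens) (a : Γ(X, V)) : Pts X → ℂ := fun y => if h : y.pt ∈ V then y.ev V h a else 0

lemma secFun_apply {V : X.Opens} (a : Γ(X, V)) {y : Pts X} (h : y.pt ∈ V) :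
    secFun V a y = y.ev V h a := dif_pos h

lemma toGerm_phi_germ (V : X.Opens) (hx : x.pt ∈ V) (a : Γ(X, V)) :
    toGerm x ((phi x).hom (X.presheaf.germ V x.pt hx a)) = (secFun V a : Gm x) := by
  have h := PresheafedSpace.stalkMap_germ (An.anToScheme X) V x hx
  have h' : (phi x).hom (X.presheaf.germ V x.pt hx a) =
      (An.anSpace X).presheaf.germ ((Opens.map (An.anToScheme X).base).obj V) x hx (toHolApp V a) :=
    DFunLike.congr_fun (congrArg CommRingCat.Hom.hom h) a
  rw [h']
  refine (toGerm_germ x _ hx _).trans (Filter.Germ.coe_eq.mpr ?_)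
  filter_upwards [(Pts.isOpen_preimage_pt V).mem_nhds hx] with y hy
  rw [secFun_apply a hy, extFun_apply _ (show y ∈ (Opens.map (An.anToScheme X).base).obj V from hy)]
  rfl

lemma val_phi_germ (V : X.Opens) (hx : x.pt ∈ V) (a : Γ(X, V)) :
    val x ((phi x).hom (X.presheaf.germ V x.pt hx a)) = x.ev V hx a := by
  show Filter.Germ.value (toGerm x _) = _
  rw [toGerm_phi_germ]
  exact secFun_apply a hx

lemma isUnit_germ_iff (V : X.Opens) (hx : x.pt ∈ V) (a : Γ(X, V)) :
    IsUnit (X.presheaf.germ V x.pt hx a) ↔ x.ev V hx a ≠ 0 := by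
  rw [← Scheme.mem_basicOpen, pt_mem_basicOpen_iff]

lemma mem_maximalIdeal_iff (a : X.presheaf.stalk x.pt) :
    a ∈ IsLocalRing.maximalIdeal (X.presheaf.stalk x.pt) ↔ val x ((phi x).hom a) = 0 := by
  obtain ⟨V, hV, f, rfl⟩ := TopCat.Presheaf.exists_germ_eq X.presheaf a
  rw [IsLocalRing.mem_maximalIdeal, mem_nonunits_iff, val_phi_germ, isUnit_germ_iff, not_not]

/-- Every element of the algebraic local ring is a fraction of sections over an affine neighbourhood. -/
lemma exists_frac {U : X.Opens} (hU : IsAffineOpen U) (hx : x.pt ∈ U) (a : X.presheaf.stalk x.pt) :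
    ∃ q u : Γ(X, U), x.ev U hx u ≠ 0 ∧
      a * X.presheaf.germ U x.pt hx u = X.presheaf.germ U x.pt hx q := by
  letI := TopCat.Presheaf.algebra_section_stalk X.presheaf (⟨x.pt, hx⟩ : U)
  haveI := hU.isLocalization_stalk ⟨x.pt, hx⟩
  obtain ⟨⟨q, u⟩, h⟩ := IsLocalization.surj (hU.primeIdealOf ⟨x.pt, hx⟩).asIdeal.primeCompl a
  exact ⟨q, u.1, (isUnit_germ_iff x U hx u.1).mp (IsLocalization.map_units _ u), h⟩

end Groth.Agent.Lib.AnLoc
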