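import Groth.Agent.Lib.AnLoc.Maps
import Mathlib.Analysis.Calculus.InverseFunctionTheorem.ContDiff
import Mathlib.Analysis.Normed.Module.FiniteDimension

/-!
# The analytic Nakayama lemma: a local homomorphism of analytic local rings
whose image generates the maximal ideal is surjective
-/

open Topology Filter Metric

set_option backward.isDefEq.respectTransparency.types false
set_option linter.style.haveILetI false
set_option linter.unusedSectionVars false

noncomputable section

namespace Groth.Agent.Lib.AnLoc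

variable {n : ℕ}

/-- The derivative of a holomorphic function is continuous. -/
lemma continuousOn_fderiv {U : Set (Fin n → ℂ)} (hU : IsOpen U) {h : (Fin n → ℂ) → ℂ}
    (hd : DifferentiableOn ℂ h U) : ContinuousOn (fderiv ℂ h) U := by
  intro x hx
  refine ContinuousAt.continuousWithinAt ?_
  obtain ⟨ε, hε, hsub⟩ := Metric.nhds_basis_closedBall.mem_iff.mp (hU.mem_nhds hx)
  have hr : 0 < ε / 2 := half_pos hε
  have huc := (isCompact_closedBall x ε).uniformContinuousOn_of_continuous (hd.continuousOn.mono hsub)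
  rw [Metric.uniformContinuousOn_iff] at huc
  rw [Metric.continuousAt_iff]
  intro η hη
  obtain ⟨δ, hδ, hclose⟩ := huc (η / 2 * (ε / 2)) (by positivity)
  refine ⟨min δ (ε / 2), lt_min hδ hr, fun y hy => ?_⟩
  let g : (Fin n → ℂ) → ℂ := fun z => h (z + (y - x)) - h z
  have hy1 : ‖y - x‖ < δ := lt_of_lt_of_le (mem_ball_iff_norm.mp hy) (min_le_left _ _)
  have hy2 : ‖y - x‖ < ε / 2 := lt_of_lt_of_le (mem_ball_iff_norm.mp hy) (min_le_right _ _)
  have hmem : ∀ z ∈ closedBall x (ε / 2), z + (y - x) ∈ closedBall x ε ∧ z ∈ closedBall x ε := by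
    intro z hz
    rw [mem_closedBall_iff_norm] at hz
    refine ⟨mem_closedBall_iff_norm.mpr ?_, mem_closedBall_iff_norm.mpr (by linarith)⟩
    calc ‖z + (y - x) - x‖ = ‖(z - x) + (y - x)‖ := by congr 1; abel
      _ ≤ ‖z - x‖ + ‖y - x‖ := norm_add_le _ _
      _ ≤ ε := by linarith
  have hat : ∀ z ∈ closedBall x ε, DifferentiableAt ℂ h z := fun z hz =>
    hd.differentiableAt (hU.mem_nhds (hsub hz))
  have hg : ∀ z ∈ closedBall x (ε / 2), DifferentiableAt ℂ g z := fun z hz =>
    ((hat _ (hmem z hz).1).comp z (differentiableAt_id.add_const _)).sub (hat _ (hmem z hz).2)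
  have hb : ∀ z ∈ closedBall x (ε / 2), ‖g z‖ ≤ η / 2 * (ε / 2) := fun z hz => by
    have := hclose _ (hmem z hz).1 _ (hmem z hz).2 (by rw [dist_self_add_left]; exact hy1)
    rw [dist_eq_norm] at this
    exact this.le
  have key := norm_fderiv_le hr hg hb
  rw [mul_div_cancel_right₀ _ hr.ne'] at key
  have hsum : x + (y - x) = y := by abel
  have hder : fderiv ℂ g x = fderiv ℂ h y - fderiv ℂ h x := by
    have h1 : HasFDerivAt (fun z => h (z + (y - x))) (fderiv ℂ h y) x := by
      rw [hasFDerivAt_comp_add_right, hsum]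
      exact (hat y (by rw [mem_closedBall_iff_norm]; linarith)).hasFDerivAt
    exact (h1.sub (hat x (mem_closedBall_self hε.le)).hasFDerivAt).fderiv
  rw [hder] at key
  rw [dist_eq_norm]
  linarith

/-- A holomorphic map with derivative `1` at the fixed point `0` has a holomorphic left inverse. -/
theorem exists_left_inverse {U : Set (Fin n → ℂ)} (hU : IsOpen U) (h0U : (0 : Fin n → ℂ) ∈ U)
    {h : (Fin n → ℂ) → (Fin n → ℂ)} (hd : DifferentiableOn ℂ h U) (h0 : h 0 = 0)
    (hder : HasFDerivAt h (ContinuousLinearMap.id ℂ (Fin n → ℂ)) 0) :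
    ∃ (V : Set (Fin n → ℂ)) (K : (Fin n → ℂ) → (Fin n → ℂ)), IsOpen V ∧ 0 ∈ V ∧
      DifferentiableOn ℂ K V ∧ K 0 = 0 ∧ ∀ᶠ z in 𝓝 0, K (h z) = z := by
  have hC : ContDiffAt ℂ 1 h 0 := by
    refine contDiffAt_pi.mpr fun i => contDiffAt_one_iff.mpr ⟨fderiv ℂ fun z => h z i, U,
      hU.mem_nhds h0U, continuousOn_fderiv hU (differentiableOn_pi.mp hd i), fun z hz => ?_⟩
    exact ((differentiableOn_pi.mp hd i).differentiableAt (hU.mem_nhds hz)).hasFDerivAt
  have hder' : HasFDerivAt h ((ContinuousLinearEquiv.refl ℂ (Fin n → ℂ) : (Fin n → ℂ) →L[ℂ] (Fin n → ℂ))) 0 := hder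
  have hK := hC.to_localInverse hder' one_ne_zero
  rw [h0] at hK
  obtain ⟨V, hV, hVo, h0V⟩ := _root_.eventually_nhds_iff.mp (hK.eventually (by simp))
  refine ⟨V, hC.localInverse hder' one_ne_zero, hVo, h0V,
    fun z hz => ((hV z hz).differentiableAt one_ne_zero).differentiableWithinAt, ?_, ?_⟩
  · have := hC.localInverse_apply_image hder' one_ne_zero
    rwa [h0] at this
  · exact (hC.hasStrictFDerivAt' hder' one_ne_zero).eventually_left_inverse

lemma exists_differentiableAt_zero (F : Conv (Fin n)) :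
    ∃ r : ℝ, 0 < r ∧ DifferentiableOn ℂ (fun z => ev z F.1) (ball 0 r) := by
  obtain ⟨r, hr, hF⟩ := F.2
  exact ⟨r / 4, by positivity, differentiableOn_ev hr hF⟩

end Groth.Agent.Lib.AnLoc

namespace Groth.Agent.Lib.AnLoc

open AlgebraicGeometry CategoryTheory TopologicalSpace IsLocalRing An Groth.Agent.Lib.AnPts

variable {X Y : Scheme.{0}} [X.Over SC] [Y.Over SC] (f : X ⟶ Y) [f.IsOver SC] (x : Pts X)
  [LocallyOfFiniteType (X ↘ SC)] [LocallyOfFiniteType (Y ↘ SC)]

lemma Chart.maximalIdeal_eq_span {x : Pts X} (c : Chart x) :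
    maximalIdeal (St x) = Ideal.span (Set.range fun i => c.theta (XC i)) := by
  refine le_antisymm (fun b hb => ?_) (Ideal.span_le.mpr ?_)
  · obtain ⟨F, rfl⟩ := c.theta_surjective b
    rw [← ker_val_eq, RingHom.mem_ker, c.val_theta] at hb
    have h1 := Ideal.mem_map_of_mem c.theta (mem_span_XC F hb)
    rw [Ideal.map_span, ← Set.range_comp] at h1
    exact h1
  · rintro _ ⟨i, rfl⟩
    rw [SetLike.mem_coe, ← ker_val_eq, RingHom.mem_ker, c.val_theta]
    exact MvPowerSeries.constantCoeff_X i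

/-- Analytic Nakayama. -/
theorem psi_surjective (hm : (maximalIdeal (St (Pts.map f x))).map (psi f x) = maximalIdeal (St x)) :
    Function.Surjective (psi f x) := by
  classical
  obtain ⟨c⟩ := exists_chart x
  obtain ⟨d⟩ := exists_chart (Pts.map f x)
  let w : Pts X → (Fin d.n → ℂ) := fun y => d.crd (Pts.map f y)
  have hw : Tendsto w (𝓝 x) (𝓝 0) :=
    d.tendsto_crd.comp ((Pts.continuous_map f).continuousAt)
  have hwgerm : ∀ j, toGerm x (psi f x (d.theta (XC j))) = ((fun y => w y j : Pts X → ℂ) : Gm x) := fun j => by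
    rw [toGerm_psi f x _ _ (d.toGerm_theta (XC j))]
    exact Filter.Germ.coe_eq.mpr (Filter.Eventually.of_forall fun y => ev_X j)
  -- the images of the coordinates
  choose F hF using fun j => c.theta_surjective (psi f x (d.theta (XC j)))
  have hF0 : ∀ j, ev 0 (F j).1 = 0 := fun j => by
    rw [ev_at_zero, ← c.val_theta, hF]
    have : psi f x (d.theta (XC j)) ∈ maximalIdeal (St x) := hm ▸ Ideal.mem_map_of_mem _
      (d.maximalIdeal_eq_span ▸ Ideal.subset_span ⟨j, rfl⟩)
    rwa [← ker_val_eq] at this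
  have hFev : ∀ j, ∀ᶠ y in 𝓝 x, ev (c.crd y) (F j).1 = w y j := fun j => by
    have h := hwgerm j
    rw [← hF, c.toGerm_theta] at h
    exact Filter.Germ.coe_eq.mp h
  -- the coordinates in terms of the images
  have hA : ∀ i, ∃ A : Fin d.n → Conv (Fin c.n),
      ∀ᶠ y in 𝓝 x, ∑ j, ev (c.crd y) (A j).1 * w y j = c.crd y i := fun i => by
    have h1 : c.theta (XC i) ∈ Ideal.span (Set.range fun j => psi f x (d.theta (XC j))) := by
      have h2 : c.theta (XC i) ∈ maximalIdeal (St x) := c.maximalIdeal_eq_span ▸ Ideal.subset_span ⟨i, rfl⟩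
      rw [← hm, d.maximalIdeal_eq_span, Ideal.map_span, ← Set.range_comp] at h2
      exact h2
    obtain ⟨b, hb⟩ := Submodule.mem_span_range_iff_exists_fun _ |>.mp h1
    choose A hA using fun j => c.theta_surjective (b j)
    refine ⟨A, ?_⟩
    have h3 := congrArg (toGerm x) hb
    simp only [map_sum, smul_eq_mul, map_mul, ← hA, c.toGerm_theta, hwgerm] at h3
    let u : Fin d.n → Pts X → ℂ := fun j y => ev (c.crd y) (A j).1 * w y j
    have h4 : ((fun y => ∑ j, u j y : Pts X → ℂ) : Gm x) = ((fun y => c.crd y i : Pts X → ℂ) : Gm x) := by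
      rw [show (fun y => ∑ j, u j y) = ∑ j, u j from (Finset.sum_fn _ _).symm]
      refine (map_sum (Filter.Germ.coeRingHom (R := ℂ) (𝓝 x)) _ _).trans ?_
      refine h3.trans (Filter.Germ.coe_eq.mpr (Filter.Eventually.of_forall fun y => ev_X i))
    exact Filter.Germ.coe_eq.mp h4
  choose A hA using hA
  -- a coordinate change with derivative one
  choose rF hrF hdF using fun j => exists_differentiableAt_zero (F j)
  choose rA hrA hdA using fun i j => exists_differentiableAt_zero (A i j)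
  let U : Set (Fin c.n → ℂ) := (⋂ j, ball 0 (rF j)) ∩ ⋂ i, ⋂ j, ball 0 (rA i j)
  have hU : IsOpen U := (isOpen_iInter_of_finite fun j => isOpen_ball).inter
    (isOpen_iInter_of_finite fun i => isOpen_iInter_of_finite fun j => isOpen_ball)
  have h0U : (0 : Fin c.n → ℂ) ∈ U := ⟨Set.mem_iInter.mpr fun j => mem_ball_self (hrF j),
    Set.mem_iInter.mpr fun i => Set.mem_iInter.mpr fun j => mem_ball_self (hrA i j)⟩
  let a : Fin c.n → Fin d.n → ℂ := fun i j => ev 0 (A i j).1
  let h : (Fin c.n → ℂ) → (Fin c.n → ℂ) := fun z i =>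
    z i + ∑ j, (a i j - ev z (A i j).1) * ev z (F j).1
  have hFd : ∀ j, ∀ z ∈ U, DifferentiableAt ℂ (fun z => ev z (F j).1) z := fun j z hz =>
    (hdF j).differentiableAt (isOpen_ball.mem_nhds (Set.mem_iInter.mp hz.1 j))
  have hAd : ∀ i j, ∀ z ∈ U, DifferentiableAt ℂ (fun z => a i j - ev z (A i j).1) z := fun i j z hz =>
    ((hdA i j).differentiableAt (isOpen_ball.mem_nhds (Set.mem_iInter.mp (Set.mem_iInter.mp hz.2 i) j))).const_sub _
  have hd : DifferentiableOn ℂ h U := differentiableOn_pi.mpr fun i z hz =>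
    (DifferentiableAt.add (differentiableAt_apply i z)
      (DifferentiableAt.fun_sum fun j _ => (hAd i j z hz).fun_mul (hFd j z hz))).differentiableWithinAt
  have h00 : h 0 = 0 := funext fun i => by simp [h, hF0]
  have hder : HasFDerivAt h (ContinuousLinearMap.id ℂ (Fin c.n → ℂ)) 0 := by
    refine hasFDerivAt_pi'' fun i => ?_
    have h1 : ∀ j, HasFDerivAt (fun z => (a i j - ev z (A i j).1) * ev z (F j).1) (0 : (Fin c.n → ℂ) →L[ℂ] ℂ) 0 := fun j => by
      have := (hAd i j 0 h0U).hasFDerivAt.fun_mul (hFd j 0 h0U).hasFDerivAt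
      refine this.congr_fderiv ?_
      ext v
      simp [a, hF0]
    have := (ContinuousLinearMap.proj (R := ℂ) (φ := fun _ : Fin c.n => ℂ) i).hasFDerivAt (x := 0) |>.fun_add
      (HasFDerivAt.fun_sum (u := Finset.univ) fun j _ => h1 j)
    simpa [h] using this
  obtain ⟨V, K, hV, h0V, hKd, hK0, hKh⟩ := exists_left_inverse hU h0U hd h00 hder
  -- the linear map
  let L : (Fin d.n → ℂ) → (Fin c.n → ℂ) := fun v i => ∑ j, a i j * v j
  have hL : Differentiable ℂ L := differentiable_pi.mpr fun i =>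
    Differentiable.fun_sum fun j _ => (differentiable_apply j).const_mul _
  have hcrd : ∀ᶠ y in 𝓝 x, c.crd y = K (L (w y)) := by
    filter_upwards [Filter.eventually_all.mpr hA, Filter.eventually_all.mpr hFev, c.tendsto_crd.eventually hKh]
      with y h1 h2 h3
    refine h3.symm.trans (congrArg K (funext fun i => ?_))
    simp only [h, L, h2, sub_mul, Finset.sum_sub_distrib, h1 i, add_sub_cancel]
  intro b
  obtain ⟨B, rfl⟩ := c.theta_surjective b
  obtain ⟨rB, hrB, hdB⟩ := exists_differentiableAt_zero B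
  let W : Set (Fin d.n → ℂ) := L ⁻¹' (V ∩ K ⁻¹' ball 0 rB)
  have hL0 : L 0 = 0 := funext fun i => by simp [L]
  have hW : IsOpen W := (hKd.continuousOn.isOpen_inter_preimage hV isOpen_ball).preimage hL.continuous
  have h0W : (0 : Fin d.n → ℂ) ∈ W := by
    show L 0 ∈ V ∧ K (L 0) ∈ ball 0 rB
    rw [hL0, hK0]; exact ⟨h0V, mem_ball_self hrB⟩
  obtain ⟨G, hG, hGev⟩ := exists_series (hW.mem_nhds h0W) (G := fun v => ev (K (L v)) B.1)
    (hdB.comp (hKd.comp hL.differentiableOn fun v hv => hv.1) fun v hv => hv.2)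
  refine ⟨d.theta ⟨G, hG⟩, toGerm_injective x ?_⟩
  rw [toGerm_psi f x _ _ (d.toGerm_theta ⟨G, hG⟩), c.toGerm_theta]
  refine Filter.Germ.coe_eq.mpr ?_
  filter_upwards [hcrd, hw.eventually hGev] with y h1 h2
  rw [Function.comp_apply, h1]
  exact h2.symm

end Groth.Agent.Lib.AnLoc
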