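import Groth.Agent.Lib.AnLoc.Comparison
import Groth.Agent.H24.CompletionFlat
import Groth.Agent.H4.EndFlat
import Groth.Agent.Lib.AnPts.Maps
import Mathlib.RingTheory.Unramified.LocalRing
import Mathlib.RingTheory.Unramified.Locus
import Mathlib.AlgebraicGeometry.Morphisms.FormallyUnramified

/-!
# Stalks of morphisms: algebraic versus analytic
-/

open AlgebraicGeometry CategoryTheory TopologicalSpace Opposite Topology Filter IsLocalRing

set_option backward.isDefEq.respectTransparency.types false
set_option linter.style.haveILetI false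
set_option linter.unusedSectionVars false

noncomputable section

namespace Groth.Agent.Lib.AnLoc

open An Groth.Agent.Lib.AnPts

variable {X Y : Scheme.{0}} [X.Over SC] [Y.Over SC] (f : X ⟶ Y) [f.IsOver SC] (x : Pts X)

/-- The map on analytic stalks. -/
abbrev psi : St (Pts.map f x) →+* St x := (PresheafedSpace.Hom.stalkMap (An.anMap f) x).hom

/-- The map on algebraic stalks at the two ℂ-points. -/
abbrev stk : Y.presheaf.stalk (Pts.map f x).pt →+* X.presheaf.stalk x.pt := (f.stalkMap x.pt).hom

lemma toGerm_psi (b : St (Pts.map f x)) (u : Pts Y → ℂ) (hu : toGerm (Pts.map f x) b = (u : Gm (Pts.map f x))) :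
    toGerm x (psi f x b) = ((u ∘ Pts.map f : Pts X → ℂ) : Gm x) := by
  obtain ⟨V, hV, g, rfl⟩ := TopCat.Presheaf.exists_germ_eq (An.anSpace Y).presheaf b
  rw [toGerm_germ (Pts.map f x) V hV g] at hu
  have h : psi f x ((An.anSpace Y).presheaf.germ V (Pts.map f x) hV g) =
      (An.anSpace X).presheaf.germ ((Opens.map (topMap f)).obj V) x hV (anMapApp f V g) :=
    DFunLike.congr_fun (congrArg CommRingCat.Hom.hom
      (PresheafedSpace.stalkMap_germ (An.anMap f) V x hV)) g
  rw [h]
  refine (toGerm_germ x _ hV _).trans (Filter.Germ.coe_eq.mpr ?_)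
  have h1 := (Pts.continuous_map f).continuousAt.eventually (Filter.Germ.coe_eq.mp hu)
  filter_upwards [h1, ((Opens.map (topMap f)).obj V).2.mem_nhds hV] with y hy hyV
  rw [extFun_apply _ hyV]
  show _ = u (Pts.map f y)
  rw [← hy, extFun_apply _ (show Pts.map f y ∈ V from hyV)]
  rfl

/-- The square of stalks commutes. -/
lemma psi_phi (a : Y.presheaf.stalk (Pts.map f x).pt) :
    psi f x ((phi (Pts.map f x)).hom a) = (phi x).hom (stk f x a) := by
  obtain ⟨V, hV, s, rfl⟩ := TopCat.Presheaf.exists_germ_eq Y.presheaf a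
  have h : stk f x (Y.presheaf.germ V (Pts.map f x).pt hV s) =
      X.presheaf.germ (f ⁻¹ᵁ V) x.pt hV (f.app V s) :=
    Scheme.Hom.germ_stalkMap_apply f V x.pt hV s
  apply toGerm_injective x
  rw [h, toGerm_phi_germ, toGerm_psi f x _ _ (toGerm_phi_germ (Pts.map f x) V hV s)]
  refine Filter.Germ.coe_eq.mpr ?_
  filter_upwards [(Pts.isOpen_preimage_pt (f ⁻¹ᵁ V)).mem_nhds hV] with y hy
  have hy' : (Pts.map f y).pt ∈ V := by rw [Pts.pt_map]; exact hy
  rw [Function.comp_apply, secFun_apply _ hy', secFun_apply _ hy]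
  exact Pts.ev_map f y V hy' s

lemma psi_comp : (psi f x).comp (phi (Pts.map f x)).hom = (phi x).hom.comp (stk f x) :=
  RingHom.ext (psi_phi f x)

instance isLocalHom_stk : IsLocalHom (stk f x) :=
  inferInstanceAs (IsLocalHom (f.stalkMap x.pt).hom)

lemma stk_const (a : ℂ) : stk f x (const (Pts.map f x) a) = const x a := by
  have h : stk f x (Y.presheaf.germ ⊤ (Pts.map f x).pt (Opens.mem_top _) (strHom Y a)) =
      X.presheaf.germ (f ⁻¹ᵁ ⊤) x.pt (Opens.mem_top _) (f.app ⊤ (strHom Y a)) :=
    Scheme.Hom.germ_stalkMap_apply f ⊤ x.pt (Opens.mem_top _) _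
  exact h.trans (congrArg (X.presheaf.germ ⊤ x.pt (Opens.mem_top _))
    (DFunLike.congr_fun (strHom_comp f) a))

variable [LocallyOfFiniteType (X ↘ SC)] [LocallyOfFiniteType (Y ↘ SC)]

instance isLocalHom_psi : IsLocalHom (psi f x) :=
  ⟨fun b hb => by
    by_contra h
    have h1 : b ∈ maximalIdeal (St (Pts.map f x)) := h
    rw [maximalIdeal_eq] at h1
    have h2 := Ideal.mem_map_of_mem (psi f x) h1
    rw [Ideal.map_map, psi_comp, ← Ideal.map_map] at h2
    have h3 : psi f x b ∈ maximalIdeal (St x) := by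
      rw [maximalIdeal_eq]
      exact Ideal.map_mono (IsLocalRing.map_maximalIdeal_le _) h2
    exact h3 hb⟩

/-- Flatness may be compared on analytic local rings. -/
theorem flat_psi_iff [IsReduced X] [IsReduced Y] : (psi f x).Flat ↔ (stk f x).Flat := by
  haveI := isNoetherianRing_stalk x
  haveI := isNoetherianRing_stalk (Pts.map f x)
  constructor
  · intro h
    have hc : ((phi x).hom.comp (stk f x)).Flat := psi_comp f x ▸ (flat_phi (Pts.map f x)).comp h
    letI : Algebra (Y.presheaf.stalk (Pts.map f x).pt) (X.presheaf.stalk x.pt) := (stk f x).toAlgebra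
    letI : Algebra (X.presheaf.stalk x.pt) (St x) := (phi x).hom.toAlgebra
    letI : Algebra (Y.presheaf.stalk (Pts.map f x).pt) (St x) := ((phi x).hom.comp (stk f x)).toAlgebra
    haveI : IsScalarTower (Y.presheaf.stalk (Pts.map f x).pt) (X.presheaf.stalk x.pt) (St x) :=
      IsScalarTower.of_algebraMap_eq fun _ => rfl
    haveI : Module.Flat (Y.presheaf.stalk (Pts.map f x).pt) (St x) := hc
    haveI : Module.Flat (X.presheaf.stalk x.pt) (St x) := flat_phi x
    haveI : IsLocalHom (algebraMap (X.presheaf.stalk x.pt) (St x)) := isLocalHom_phi x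
    haveI : Module.FaithfullyFlat (X.presheaf.stalk x.pt) (St x) := Module.FaithfullyFlat.of_flat_of_isLocalHom
    exact H24.CompletionFlat.flat_of_faithfullyFlat _ (X.presheaf.stalk x.pt) (St x)
  · intro h
    have hc : ((psi f x).comp (phi (Pts.map f x)).hom).Flat := (psi_comp f x).symm ▸ h.comp (flat_phi x)
    letI : Algebra (Y.presheaf.stalk (Pts.map f x).pt) (St (Pts.map f x)) := (phi (Pts.map f x)).hom.toAlgebra
    letI : Algebra (St (Pts.map f x)) (St x) := (psi f x).toAlgebra
    letI : Algebra (Y.presheaf.stalk (Pts.map f x).pt) (St x) :=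
      ((psi f x).comp (phi (Pts.map f x)).hom).toAlgebra
    haveI : IsScalarTower (Y.presheaf.stalk (Pts.map f x).pt) (St (Pts.map f x)) (St x) :=
      IsScalarTower.of_algebraMap_eq fun _ => rfl
    haveI : Module.Flat (Y.presheaf.stalk (Pts.map f x).pt) (St x) := hc
    refine H24.CompletionFlat.flat_of_truncations _ (St (Pts.map f x)) (St x)
      (maximalIdeal (Y.presheaf.stalk (Pts.map f x).pt)) ?_ fun n => ?_
    · rw [show (algebraMap (Y.presheaf.stalk (Pts.map f x).pt) (St (Pts.map f x))) = (phi (Pts.map f x)).hom from rfl,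
        ← maximalIdeal_eq]
      exact (IsLocalRing.map_maximalIdeal_le (psi f x)).trans (IsLocalRing.maximalIdeal_le_jacobson _)
    · intro y
      obtain ⟨y, rfl⟩ := Ideal.Quotient.mk_surjective y
      obtain ⟨a, ha⟩ := exists_approx_pow (Pts.map f x) n y
      refine ⟨a, Ideal.Quotient.eq.mpr ?_⟩
      show (phi (Pts.map f x)).hom a - y ∈ _
      rw [show (algebraMap (Y.presheaf.stalk (Pts.map f x).pt) (St (Pts.map f x))) = (phi (Pts.map f x)).hom from rfl,
        ← maximalIdeal_eq]
      exact ha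

theorem map_maximalIdeal_psi_iff [IsReduced X] :
    (maximalIdeal (St (Pts.map f x))).map (psi f x) = maximalIdeal (St x) ↔
      (maximalIdeal (Y.presheaf.stalk (Pts.map f x).pt)).map (stk f x) = maximalIdeal (X.presheaf.stalk x.pt) := by
  rw [maximalIdeal_eq, maximalIdeal_eq, Ideal.map_map, psi_comp, ← Ideal.map_map]
  refine ⟨fun h => ?_, fun h => by rw [h]⟩
  haveI := isNoetherianRing_stalk x
  letI : Algebra (X.presheaf.stalk x.pt) (St x) := (phi x).hom.toAlgebra
  haveI : Module.Flat (X.presheaf.stalk x.pt) (St x) := flat_phi x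
  haveI : IsLocalHom (algebraMap (X.presheaf.stalk x.pt) (St x)) := isLocalHom_phi x
  haveI : Module.FaithfullyFlat (X.presheaf.stalk x.pt) (St x) := Module.FaithfullyFlat.of_flat_of_isLocalHom
  have h2 := congrArg (Ideal.comap (algebraMap (X.presheaf.stalk x.pt) (St x))) h
  erw [Ideal.comap_map_eq_self_of_faithfullyFlat, Ideal.comap_map_eq_self_of_faithfullyFlat] at h2
  exact h2

theorem formallyUnramified_stk_iff :
    (stk f x).FormallyUnramified ↔
      (maximalIdeal (Y.presheaf.stalk (Pts.map f x).pt)).map (stk f x) = maximalIdeal (X.presheaf.stalk x.pt) := by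
  haveI : LocallyOfFiniteType f := by
    haveI : LocallyOfFiniteType (f ≫ Y ↘ SC) := by rw [comp_over f]; infer_instance
    exact locallyOfFiniteType_of_comp f (Y ↘ SC)
  letI : Algebra (Y.presheaf.stalk (Pts.map f x).pt) (X.presheaf.stalk x.pt) := (stk f x).toAlgebra
  haveI : IsLocalHom (algebraMap (Y.presheaf.stalk (Pts.map f x).pt) (X.presheaf.stalk x.pt)) := isLocalHom_stk f x
  haveI : Algebra.EssFiniteType (Y.presheaf.stalk (Pts.map f x).pt) (X.presheaf.stalk x.pt) := by
    rw [← RingHom.essFiniteType_algebraMap, RingHom.algebraMap_toAlgebra]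
    exact LocallyOfFiniteType.stalkMap f x.pt
  haveI : Algebra.IsSeparable (ResidueField (Y.presheaf.stalk (Pts.map f x).pt))
      (ResidueField (X.presheaf.stalk x.pt)) := by
    refine ⟨fun r => ?_⟩
    obtain ⟨r, rfl⟩ := IsLocalRing.residue_surjective r
    have h : residue _ r = algebraMap (ResidueField (Y.presheaf.stalk (Pts.map f x).pt)) _
        (residue _ (const (Pts.map f x) (val x ((phi x).hom r)))) := by
      show _ = residue _ (stk f x (const (Pts.map f x) (val x ((phi x).hom r))))
      rw [stk_const]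
      refine Ideal.Quotient.eq.mpr ?_
      rw [mem_maximalIdeal_iff, map_sub, map_sub, val_phi_const, sub_self]
    rw [h]
    exact isSeparable_algebraMap _
  refine Iff.trans ?_ ((Algebra.FormallyUnramified.iff_map_maximalIdeal_eq
    (R := Y.presheaf.stalk (Pts.map f x).pt) (S := X.presheaf.stalk x.pt)).trans
      ⟨fun h => h.2, fun h => ⟨inferInstance, h⟩⟩)
  exact Iff.rfl

omit [LocallyOfFiniteType (X ↘ SC)] [LocallyOfFiniteType (Y ↘ SC)] in
theorem formallyUnramified_of_closedPoints {X Y : Scheme.{0}} (f : X ⟶ Y) [JacobsonSpace X] [LocallyOfFiniteType f]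
    (h : ∀ x : X, IsClosed ({x} : Set X) → (f.stalkMap x).hom.FormallyUnramified) : FormallyUnramified f := by
  refine ⟨fun {U} hU {V} hV e => ?_⟩
  have hft := f.finiteType_appLE hU hV e
  algebraize [(f.appLE U V e).hom]
  show Algebra.FormallyUnramified Γ(Y, U) Γ(X, V)
  rw [← Algebra.unramifiedLocus_eq_univ_iff, Set.eq_univ_iff_forall]
  intro p
  obtain ⟨P, hP, hpP⟩ := p.asIdeal.exists_le_maximal p.2.ne_top
  refine Algebra.isOpen_unramifiedLocus.stableUnderGeneralization
    ((PrimeSpectrum.le_iff_specializes p ⟨P, hP.isPrime⟩).mp hpP) ?_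
  let y : ↥(Spec Γ(X, V)) := ⟨P, hP.isPrime⟩
  have hxV : hV.fromSpec y ∈ V := hV.fromSpec_preimage_self.ge (TopologicalSpace.Opens.mem_top y)
  have hx : IsClosed ({hV.fromSpec y} : Set X) := by
    apply isClosed_singleton_of_isLocallyClosed_singleton
    have h' := ((PrimeSpectrum.isClosed_singleton_iff_isMaximal y).2 hP).isLocallyClosed.image
      hV.fromSpec.isOpenEmbedding.isInducing hV.fromSpec.isOpenEmbedding.isOpen_range.isLocallyClosed
    rwa [Set.image_singleton] at h'
  have hfx : f (hV.fromSpec y) ∈ U := e hxV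
  have hu : ((f.stalkMap (hV.fromSpec y)).hom.comp (Y.presheaf.germ U _ hfx).hom).FormallyUnramified := by
    refine RingHom.FormallyUnramified.stableUnderComposition _ _ ?_ (h _ hx)
    letI := TopCat.Presheaf.algebra_section_stalk Y.presheaf (⟨_, hfx⟩ : U)
    haveI := hU.isLocalization_stalk ⟨_, hfx⟩
    exact Algebra.FormallyUnramified.of_isLocalization (hU.primeIdealOf ⟨_, hfx⟩).asIdeal.primeCompl
  have hcomp : (f.stalkMap (hV.fromSpec y)).hom.comp (Y.presheaf.germ U _ hfx).hom =
      (X.presheaf.germ V _ hxV).hom.comp (f.appLE U V e).hom := by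
    rw [← CommRingCat.hom_comp, ← CommRingCat.hom_comp, Scheme.Hom.germ_stalkMap]
    congr 1
    rw [Scheme.Hom.appLE, Category.assoc, TopCat.Presheaf.germ_res]
  rw [hcomp] at hu
  letI := TopCat.Presheaf.algebra_section_stalk X.presheaf (⟨_, hxV⟩ : V)
  haveI : IsLocalization.AtPrime (X.presheaf.stalk (hV.fromSpec y)) P := hV.isLocalization_stalk' y hxV
  letI : Algebra Γ(Y, U) (X.presheaf.stalk (hV.fromSpec y)) :=
    ((X.presheaf.germ V _ hxV).hom.comp (f.appLE U V e).hom).toAlgebra
  haveI : IsScalarTower Γ(Y, U) Γ(X, V) (X.presheaf.stalk (hV.fromSpec y)) :=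
    IsScalarTower.of_algebraMap_eq fun _ => rfl
  haveI : Algebra.FormallyUnramified Γ(Y, U) (X.presheaf.stalk (hV.fromSpec y)) := hu
  show Algebra.FormallyUnramified Γ(Y, U) (Localization.AtPrime P)
  exact Algebra.FormallyUnramified.of_equiv
    ((IsLocalization.algEquiv P.primeCompl (X.presheaf.stalk (hV.fromSpec y)) (Localization.AtPrime P)).restrictScalars Γ(Y, U))

end Groth.Agent.Lib.AnLoc
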