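import Groth.Agent.Lib.AnLoc.Weierstrass
import Mathlib.RingTheory.MvPowerSeries.Substitution
import Mathlib.RingTheory.PowerSeries.Basic
import Mathlib.Algebra.MvPolynomial.Funext

/-!
# Linear changes of variables making a series regular in the distinguished variable
-/

set_option linter.unusedSectionVars false

noncomputable section

open scoped BigOperators

namespace Groth.Agent.Lib.AnLoc

open MvPowerSeries (coeff)

variable {n : ℕ}

/-- The linear forms of the shear with vector `v`. -/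
def shearVec (v : Fin (n + 1) → ℂ) : Fin (n + 1) → MvPowerSeries (Fin (n + 1)) ℂ := fun i =>
  (if i = 0 then 0 else MvPowerSeries.X i) + MvPowerSeries.C (v i) * MvPowerSeries.X 0

lemma hasSubst_shearVec (v : Fin (n + 1) → ℂ) : MvPowerSeries.HasSubst (shearVec v) :=
  MvPowerSeries.hasSubst_of_constantCoeff_zero fun i => by
    simp only [shearVec, map_add, map_mul, MvPowerSeries.constantCoeff_X, mul_zero, add_zero]
    split <;> simp

/-- The change of variables. -/
def shear (v : Fin (n + 1) → ℂ) : MvPowerSeries (Fin (n + 1)) ℂ →ₐ[ℂ] MvPowerSeries (Fin (n + 1)) ℂ :=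
  MvPowerSeries.substAlgHom (hasSubst_shearVec v)

lemma shear_apply (v : Fin (n + 1) → ℂ) (F : MvPowerSeries (Fin (n + 1)) ℂ) :
    shear v F = MvPowerSeries.subst (shearVec v) F :=
  MvPowerSeries.substAlgHom_apply _ _

/-- The inverse vector. -/
def shearInv (v : Fin (n + 1) → ℂ) : Fin (n + 1) → ℂ := fun i =>
  if i = 0 then (v 0)⁻¹ else -(v i * (v 0)⁻¹)

lemma shearInv_shearInv {v : Fin (n + 1) → ℂ} (hv : v 0 ≠ 0) : shearInv (shearInv v) = v := by
  ext i
  by_cases hi : i = 0
  · subst hi; simp [shearInv]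
  · simp [shearInv, hi, hv]

lemma shear_shearInv_left {v : Fin (n + 1) → ℂ} (hv : v 0 ≠ 0) (F : MvPowerSeries (Fin (n + 1)) ℂ) :
    shear (shearInv v) (shear v F) = F := by
  rw [shear_apply v, shear_apply,
    MvPowerSeries.subst_comp_subst_apply (hasSubst_shearVec v) (hasSubst_shearVec _)]
  have hX : ∀ i, MvPowerSeries.subst (shearVec (shearInv v)) (shearVec v i) = MvPowerSeries.X i := by
    intro i
    rw [← shear_apply]
    have hXi : ∀ j, shear (shearInv v) (MvPowerSeries.X j) = shearVec (shearInv v) j := fun j => by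
      rw [shear_apply, MvPowerSeries.subst_X (hasSubst_shearVec _)]
    have hC : ∀ c : ℂ, shear (shearInv v) (MvPowerSeries.C c) = MvPowerSeries.C c := fun c =>
      (shear (shearInv v)).commutes c
    by_cases hi : i = 0
    · subst hi
      conv_lhs => rw [shearVec]
      simp only [if_true, zero_add, map_mul, hC, hXi]
      simp only [shearVec, shearInv, if_true, zero_add]
      rw [← mul_assoc, ← map_mul, mul_inv_cancel₀ hv, map_one, one_mul]
    · conv_lhs => rw [shearVec]
      simp only [if_neg hi, map_add, map_mul, hC, hXi]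
      simp only [shearVec, shearInv, if_true, if_neg hi, zero_add]
      rw [← mul_assoc, ← map_mul, map_neg, neg_mul, neg_add_cancel_right]
  rw [funext hX, MvPowerSeries.subst_self]
  rfl

/-- The change of variables as an automorphism. -/
def shearEquiv {v : Fin (n + 1) → ℂ} (hv : v 0 ≠ 0) :
    MvPowerSeries (Fin (n + 1)) ℂ ≃ₐ[ℂ] MvPowerSeries (Fin (n + 1)) ℂ :=
  AlgEquiv.ofAlgHom (shear v) (shear (shearInv v))
    (AlgHom.ext fun F => by
      simpa [shearInv_shearInv hv] using shear_shearInv_left (v := shearInv v) (by simp [shearInv, hv]) F)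
    (AlgHom.ext fun F => shear_shearInv_left hv F)

lemma prod_summ {σ ι : Type} [Fintype σ] {ρ : σ → ℝ} (hρ : ∀ i, 0 ≤ ρ i) (L : ι → MvPowerSeries σ ℂ)
    (hL : ∀ i, Summ ρ (L i)) (e : ι → ℕ) (s : Finset ι) :
    Summ ρ (∏ i ∈ s, L i ^ e i) ∧ nrm ρ (∏ i ∈ s, L i ^ e i) ≤ ∏ i ∈ s, nrm ρ (L i) ^ e i := by
  induction s using Finset.cons_induction with
  | empty =>
    simp only [Finset.prod_empty]
    refine ⟨Summ.one, le_of_eq ?_⟩
    rw [show (1 : MvPowerSeries σ ℂ) = MvPowerSeries.monomial 0 1 from rfl, nrm_monomial, norm_one,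
      one_mul, wt_zero]
  | cons i s hi ih =>
    rw [Finset.prod_cons, Finset.prod_cons]
    refine ⟨((hL i).pow hρ _).mul hρ ih.1, (nrm_mul_le hρ ((hL i).pow hρ _) ih.1).trans ?_⟩
    exact mul_le_mul (nrm_pow_le hρ (hL i) _) ih.2 (nrm_nonneg hρ _) (pow_nonneg (nrm_nonneg hρ _) _)

theorem isConv_shear {F : MvPowerSeries (Fin (n + 1)) ℂ} (hF : IsConv F) (v : Fin (n + 1) → ℂ) :
    IsConv (shear v F) := by
  classical
  obtain ⟨r, hr, hFr⟩ := hF
  let M := 1 + ∑ i, ‖v i‖
  have hM : 0 < M := add_pos_of_pos_of_nonneg one_pos (Finset.sum_nonneg fun i _ => norm_nonneg _)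
  let s := r / M
  have hs : 0 < s := div_pos hr hM
  let ρ : Fin (n + 1) → ℝ := fun _ => s
  have hρ : ∀ i, 0 ≤ ρ i := fun _ => hs.le
  have hL : ∀ i, Summ ρ (shearVec v i) ∧ nrm ρ (shearVec v i) ≤ r := by
    intro i
    have h1 : Summ ρ (if i = 0 then 0 else MvPowerSeries.X i : MvPowerSeries (Fin (n + 1)) ℂ) := by
      split
      · exact Summ.zero
      · exact Summ.X i
    have h2 : MvPowerSeries.C (v i) * MvPowerSeries.X 0 =
        MvPowerSeries.monomial (Finsupp.single (0 : Fin (n + 1)) 1) (v i) := by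
      rw [MvPowerSeries.X_def, show (MvPowerSeries.C (v i) : MvPowerSeries (Fin (n + 1)) ℂ) =
        MvPowerSeries.monomial 0 (v i) from rfl, MvPowerSeries.monomial_mul_monomial, zero_add, mul_one]
    have hw : ∀ j, wt ρ (Finsupp.single (j : Fin (n + 1)) 1) = s := fun j => by
      rw [wt, Finset.prod_eq_single j (fun l _ hl => by rw [Finsupp.single_eq_of_ne hl, pow_zero]) (by simp),
        Finsupp.single_eq_same, pow_one]
    refine ⟨h1.add hρ (h2 ▸ Summ.monomial _ _), (nrm_add_le hρ h1 (h2 ▸ Summ.monomial _ _)).trans ?_⟩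
    have h3 : nrm ρ (if i = 0 then 0 else MvPowerSeries.X i : MvPowerSeries (Fin (n + 1)) ℂ) ≤ s := by
      split
      · simp [nrm, hs.le]
      · rw [MvPowerSeries.X_def, nrm_monomial, norm_one, one_mul, hw]
    have h4 : nrm ρ (MvPowerSeries.C (v i) * MvPowerSeries.X 0) ≤ (∑ i, ‖v i‖) * s := by
      rw [h2, nrm_monomial, hw]
      exact mul_le_mul_of_nonneg_right
        (Finset.single_le_sum (fun j _ => norm_nonneg (v j)) (Finset.mem_univ i)) hs.le
    calc _ ≤ s + (∑ i, ‖v i‖) * s := add_le_add h3 h4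
      _ = M * s := by ring
      _ = r := mul_div_cancel₀ r hM.ne'
  let P : (Fin (n + 1) →₀ ℕ) → MvPowerSeries (Fin (n + 1)) ℂ := fun α =>
    α.prod fun i e => shearVec v i ^ e
  have hP : ∀ α, Summ ρ (P α) ∧ nrm ρ (P α) ≤ wt (fun _ => r) α := by
    intro α
    have hPα : P α = ∏ i, shearVec v i ^ α i := Finsupp.prod_fintype _ _ fun i => pow_zero _
    rw [hPα]
    refine ⟨(prod_summ hρ _ (fun i => (hL i).1) α _).1,
      (prod_summ hρ _ (fun i => (hL i).1) α _).2.trans ?_⟩
    exact Finset.prod_le_prod (fun i _ => pow_nonneg (nrm_nonneg hρ _) _)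
      fun i _ => pow_le_pow_left₀ (nrm_nonneg hρ _) (hL i).2 _
  let H : (Fin (n + 1) →₀ ℕ) → MvPowerSeries (Fin (n + 1)) ℂ := fun α =>
    MvPowerSeries.C (coeff α F) * P α
  have hH : ∀ α, nrm ρ (H α) ≤ ‖coeff α F‖ * wt (fun _ => r) α := by
    intro α
    refine (nrm_mul_le hρ (Summ.C _) (hP α).1).trans ?_
    refine mul_le_mul (le_of_eq ?_) (hP α).2 (nrm_nonneg hρ _) (norm_nonneg _)
    rw [show (MvPowerSeries.C (coeff α F) : MvPowerSeries (Fin (n + 1)) ℂ) =
      MvPowerSeries.monomial 0 (coeff α F) from rfl, nrm_monomial, wt_zero, mul_one]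
  refine ⟨s, hs, Summ.of_family hρ H _ hFr (fun α => (Summ.C _).mul hρ (hP α).1) hH _ fun β => ?_⟩
  rw [shear_apply, MvPowerSeries.coeff_subst (hasSubst_shearVec v)]
  have hfs := MvPowerSeries.coeff_subst_finite (hasSubst_shearVec v) F β
  rw [← tsum_eq_finsum (L := SummationFilter.unconditional _) hfs]
  have hsum : Summable fun α => ‖coeff β (H α)‖ := by
    refine (hFr.mul_right (wt ρ β)⁻¹).of_nonneg_of_le (fun α => norm_nonneg _) fun α => ?_
    rw [← div_eq_mul_inv, le_div_iff₀ (wt_pos (fun _ => hs) β)]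
    exact (coeff_le_nrm hρ ((Summ.C _).mul hρ (hP α).1) β).trans (hH α)
  have he : ∀ α, coeff α F • coeff β (P α) = coeff β (H α) := fun α => by
    simp only [H, MvPowerSeries.coeff_C_mul, smul_eq_mul]
  simp only [P] at he
  simp only [he]
  exact norm_tsum_le_tsum_norm hsum

/-- The coefficients on the axis of `w = X 0`. -/
def diag : MvPowerSeries (Fin (n + 1)) ℂ →+* PowerSeries ℂ where
  toFun F := PowerSeries.mk fun k => coeff (Finsupp.single 0 k) F
  map_one' := by
    classical
    ext k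
    simp [PowerSeries.coeff_one, MvPowerSeries.coeff_one, Finsupp.single_eq_zero]
  map_mul' F G := by
    classical
    ext k
    rw [PowerSeries.coeff_mk, MvPowerSeries.coeff_mul, PowerSeries.coeff_mul, Finsupp.antidiagonal_single,
      Finset.sum_map]
    exact Finset.sum_congr rfl fun p _ => by simp
  map_zero' := by ext k; simp
  map_add' F G := by ext k; simp

lemma diag_shearVec (v : Fin (n + 1) → ℂ) (i : Fin (n + 1)) :
    diag (shearVec v i) = PowerSeries.C (v i) * PowerSeries.X := by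
  classical
  ext k
  simp only [diag, RingHom.coe_mk, MonoidHom.coe_mk, OneHom.coe_mk, PowerSeries.coeff_mk, shearVec,
    map_add, MvPowerSeries.coeff_C_mul, PowerSeries.coeff_C_mul, MvPowerSeries.coeff_X, PowerSeries.coeff_X]
  have h1 : coeff (Finsupp.single (0 : Fin (n + 1)) k)
      (if i = 0 then 0 else MvPowerSeries.X i : MvPowerSeries (Fin (n + 1)) ℂ) = 0 := by
    by_cases hi : i = 0
    · simp [hi]
    · rw [if_neg hi, MvPowerSeries.coeff_X, if_neg]
      intro h
      have h2 := DFunLike.congr_fun h i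
      rw [Finsupp.single_eq_same, Finsupp.single_eq_of_ne hi] at h2
      exact zero_ne_one h2
  rw [h1, zero_add]
  by_cases hk : k = 1
  · simp [hk]
  · rw [if_neg hk, if_neg]
    exact fun h => hk (Finsupp.single_injective _ h)

theorem coeff_axis_shear (F : MvPowerSeries (Fin (n + 1)) ℂ) (v : Fin (n + 1) → ℂ) (k : ℕ) :
    coeff (Finsupp.single 0 k) (shear v F) =
      ∑ α ∈ Finset.univ.finsuppAntidiag k, coeff α F * ∏ i, v i ^ α i := by
  classical
  rw [shear_apply, MvPowerSeries.coeff_subst (hasSubst_shearVec v)]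
  have h1 : ∀ α : Fin (n + 1) →₀ ℕ,
      coeff (Finsupp.single 0 k) (α.prod fun i e => shearVec v i ^ e) =
        if ∑ i, α i = k then ∏ i, v i ^ α i else 0 := by
    intro α
    rw [Finsupp.prod_fintype _ _ fun i => pow_zero _]
    have h2 : PowerSeries.coeff k (diag (∏ i, shearVec v i ^ α i)) =
        coeff (Finsupp.single 0 k) (∏ i, shearVec v i ^ α i) := by
      simp only [diag, RingHom.coe_mk, MonoidHom.coe_mk, OneHom.coe_mk, PowerSeries.coeff_mk]
    rw [← h2, map_prod]
    simp only [map_pow, diag_shearVec, mul_pow, Finset.prod_mul_distrib, Finset.prod_pow_eq_pow_sum]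
    rw [Finset.prod_congr rfl (fun x _ => (map_pow PowerSeries.C (v x) (α x)).symm), ← map_prod]
    rw [PowerSeries.coeff_C_mul, PowerSeries.coeff_X_pow]
    by_cases hk : ∑ i, α i = k
    · rw [if_pos hk, if_pos hk.symm, mul_one]
    · rw [if_neg hk, if_neg (Ne.symm hk), mul_zero]
  rw [finsum_eq_sum_of_support_subset _ (s := Finset.univ.finsuppAntidiag k)]
  · refine Finset.sum_congr rfl fun α hα => ?_
    rw [h1, if_pos (Finset.mem_finsuppAntidiag.mp hα).1, smul_eq_mul]
  · intro α hα
    rw [Function.mem_support, h1] at hα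
    simp only [Finset.mem_coe, Finset.mem_finsuppAntidiag]
    exact ⟨by by_contra hne; simp [hne] at hα, Finset.subset_univ _⟩

/-- A nonzero series becomes regular after a shear. -/
theorem exists_shear_reg {F : MvPowerSeries (Fin (n + 1)) ℂ} (hF : F ≠ 0) :
    ∃ (v : Fin (n + 1) → ℂ) (d : ℕ), v 0 ≠ 0 ∧
      (∀ j < d, coeff (Finsupp.single 0 j) (shear v F) = 0) ∧
      coeff (Finsupp.single 0 d) (shear v F) ≠ 0 := by
  classical
  obtain ⟨α₀, hα₀⟩ : ∃ α, coeff α F ≠ 0 := by
    by_contra! h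
    exact hF (MvPowerSeries.ext fun α => by simp [h α])
  have hex : ∃ d, ∃ α : Fin (n + 1) →₀ ℕ, ∑ i, α i = d ∧ coeff α F ≠ 0 := ⟨_, α₀, rfl, hα₀⟩
  let d := Nat.find hex
  obtain ⟨α₁, hα₁, hne⟩ := Nat.find_spec hex
  let P : MvPolynomial (Fin (n + 1)) ℂ :=
    ∑ α ∈ Finset.univ.finsuppAntidiag d, MvPolynomial.monomial α (coeff α F)
  have hP : P ≠ 0 := by
    intro h0
    have := congrArg (MvPolynomial.coeff α₁) h0
    simp only [P, MvPolynomial.coeff_sum, MvPolynomial.coeff_monomial, MvPolynomial.coeff_zero,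
      Finset.sum_ite_eq', Finset.mem_finsuppAntidiag] at this
    rw [if_pos ⟨hα₁, Finset.subset_univ _⟩] at this
    exact hne this
  obtain ⟨v, hv⟩ : ∃ v, MvPolynomial.eval v (P * MvPolynomial.X 0) ≠ 0 := by
    by_contra! h
    exact mul_ne_zero hP (MvPolynomial.X_ne_zero 0) (MvPolynomial.funext fun x => by rw [h x, map_zero])
  rw [map_mul, MvPolynomial.eval_X, mul_ne_zero_iff] at hv
  refine ⟨v, d, hv.2, fun j hj => ?_, ?_⟩
  · rw [coeff_axis_shear]
    refine Finset.sum_eq_zero fun α hα => ?_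
    have := Nat.find_min hex hj
    push Not at this
    rw [this α (Finset.mem_finsuppAntidiag.mp hα).1, zero_mul]
  · rw [coeff_axis_shear]
    have h3 : MvPolynomial.eval v P = ∑ α ∈ Finset.univ.finsuppAntidiag d, coeff α F * ∏ i, v i ^ α i := by
      simp only [P, map_sum, MvPolynomial.eval_monomial]
      exact Finset.sum_congr rfl fun α _ => by rw [Finsupp.prod_fintype _ _ fun i => pow_zero _]
    rw [← h3]
    exact hv.1

end Groth.Agent.Lib.AnLoc
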