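import Groth.Agent.Lib.AnLoc.Conv
import Mathlib.RingTheory.MvPowerSeries.Inverse
import Mathlib.RingTheory.MvPowerSeries.Rename
import Mathlib.Analysis.SpecificLimits.Normed

/-!
# The Weierstrass division theorem for convergent power series
-/

set_option linter.unusedSectionVars false

noncomputable section

open scoped BigOperators

namespace Groth.Agent.Lib.AnLoc

open MvPowerSeries (coeff)

variable {σ : Type} [Fintype σ] {n : ℕ}

/-- `(F - (F mod w^d)) / w^d` for the variable `w = X i₀`. -/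
def shiftDiv (i₀ : σ) (d : ℕ) (F : MvPowerSeries σ ℂ) : MvPowerSeries σ ℂ :=
  fun α => coeff (α + Finsupp.single i₀ d) F

/-- `F mod w^d`. -/
def truncW (i₀ : σ) (d : ℕ) (F : MvPowerSeries σ ℂ) : MvPowerSeries σ ℂ :=
  fun α => if α i₀ < d then coeff α F else 0

variable (i₀ : σ) (d : ℕ)

lemma coeff_shiftDiv (F : MvPowerSeries σ ℂ) (α : σ →₀ ℕ) :
    coeff α (shiftDiv i₀ d F) = coeff (α + Finsupp.single i₀ d) F := rfl

lemma coeff_truncW (F : MvPowerSeries σ ℂ) (α : σ →₀ ℕ) :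
    coeff α (truncW i₀ d F) = if α i₀ < d then coeff α F else 0 := rfl

lemma truncW_add_shiftDiv (F : MvPowerSeries σ ℂ) :
    truncW i₀ d F + MvPowerSeries.X i₀ ^ d * shiftDiv i₀ d F = F := by
  classical
  ext α
  rw [map_add, MvPowerSeries.X_pow_eq, MvPowerSeries.coeff_monomial_mul, coeff_truncW]
  simp only [Finsupp.single_le_iff, one_mul, coeff_shiftDiv]
  by_cases h : α i₀ < d
  · rw [if_pos h, if_neg (not_le.mpr h), add_zero]
  · rw [if_neg h, if_pos (not_lt.mp h), zero_add,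
      tsub_add_cancel_of_le (Finsupp.single_le_iff.mpr (not_lt.mp h))]

lemma shiftDiv_add (F G : MvPowerSeries σ ℂ) :
    shiftDiv i₀ d (F + G) = shiftDiv i₀ d F + shiftDiv i₀ d G := rfl

lemma shiftDiv_sub (F G : MvPowerSeries σ ℂ) :
    shiftDiv i₀ d (F - G) = shiftDiv i₀ d F - shiftDiv i₀ d G := rfl

lemma shiftDiv_X_pow_mul (F : MvPowerSeries σ ℂ) :
    shiftDiv i₀ d (MvPowerSeries.X i₀ ^ d * F) = F := by
  classical
  ext α
  rw [coeff_shiftDiv, MvPowerSeries.X_pow_eq, add_comm, MvPowerSeries.coeff_add_monomial_mul, one_mul]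

variable {i₀ d} {ρ : σ → ℝ} {F : MvPowerSeries σ ℂ}

lemma wt_add_single (α : σ →₀ ℕ) :
    wt ρ (α + Finsupp.single i₀ d) = wt ρ α * ρ i₀ ^ d := by
  classical
  rw [wt_add]
  congr 1
  rw [wt, Finset.prod_eq_single i₀ (fun j _ hj => by rw [Finsupp.single_eq_of_ne hj, pow_zero]) (by simp),
    Finsupp.single_eq_same]

lemma Summ.truncW (hρ : ∀ i, 0 ≤ ρ i) (hF : Summ ρ F) : Summ ρ (truncW i₀ d F) := by
  refine hF.of_nonneg_of_le (fun α => mul_nonneg (norm_nonneg _) (wt_nonneg hρ α)) fun α => ?_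
  refine mul_le_mul_of_nonneg_right ?_ (wt_nonneg hρ α)
  rw [coeff_truncW]
  split <;> simp

lemma nrm_truncW_le (hρ : ∀ i, 0 ≤ ρ i) (hF : Summ ρ F) : nrm ρ (truncW i₀ d F) ≤ nrm ρ F := by
  refine (hF.truncW hρ).tsum_le_tsum (fun α => ?_) hF
  refine mul_le_mul_of_nonneg_right ?_ (wt_nonneg hρ α)
  rw [coeff_truncW]
  split <;> simp

lemma Summ.shiftDiv (hρ : ∀ i, 0 < ρ i) (hF : Summ ρ F) : Summ ρ (shiftDiv i₀ d F) := by
  have h := (Summable.comp_injective hF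
    (i := fun α : σ →₀ ℕ => α + Finsupp.single i₀ d) (add_left_injective _)).mul_right (ρ i₀ ^ d)⁻¹
  refine h.congr fun α => ?_
  simp only [Function.comp_apply, coeff_shiftDiv, wt_add_single]
  have := (pow_pos (hρ i₀) d).ne'
  field_simp

lemma nrm_shiftDiv_le (hρ : ∀ i, 0 < ρ i) (hF : Summ ρ F) :
    nrm ρ (shiftDiv i₀ d F) * ρ i₀ ^ d ≤ nrm ρ F := by
  rw [nrm, ← tsum_mul_right]
  calc ∑' α, ‖coeff α (shiftDiv i₀ d F)‖ * wt ρ α * ρ i₀ ^ d
      = ∑' α, (fun β => ‖coeff β F‖ * wt ρ β) (α + Finsupp.single i₀ d) :=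
        tsum_congr fun α => by simp only [coeff_shiftDiv, wt_add_single]; ring
    _ ≤ nrm ρ F := tsum_comp_le_tsum_of_inj hF
        (fun β => mul_nonneg (norm_nonneg _) (wt_nonneg (fun i => (hρ i).le) β)) (add_left_injective _)

/-- A weighted bound for a family of series gives a summable sum. -/
lemma Summ.of_family {ι : Type*} (hρ : ∀ i, 0 ≤ ρ i) (H : ι → MvPowerSeries σ ℂ) (b : ι → ℝ)
    (hb : Summable b) (hH : ∀ k, Summ ρ (H k)) (hle : ∀ k, nrm ρ (H k) ≤ b k)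
    (h : MvPowerSeries σ ℂ) (hh : ∀ α, ‖coeff α h‖ ≤ ∑' k, ‖coeff α (H k)‖) : Summ ρ h := by
  have h1 : Summable fun x : ι × (σ →₀ ℕ) => ‖coeff x.2 (H x.1)‖ * wt ρ x.2 := by
    rw [summable_prod_of_nonneg (fun x => mul_nonneg (norm_nonneg _) (wt_nonneg hρ _))]
    exact ⟨hH, hb.of_nonneg_of_le (fun k => nrm_nonneg hρ (H k)) hle⟩
  have h2 := h1.prod_symm.prod
  refine h2.of_nonneg_of_le (fun α => mul_nonneg (norm_nonneg _) (wt_nonneg hρ α)) fun α => ?_
  refine (mul_le_mul_of_nonneg_right (hh α) (wt_nonneg hρ α)).trans (le_of_eq ?_)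
  rw [← tsum_mul_right]
  rfl

/-- The fixed point of `h ↦ G + (h a) div w^d`, for small `a`. -/
theorem exists_fixed (hρ : ∀ i, 0 < ρ i) {a G : MvPowerSeries σ ℂ} (ha : Summ ρ a) (hG : Summ ρ G)
    (hlt : nrm ρ a < ρ i₀ ^ d) :
    ∃ h, Summ ρ h ∧ h = G + shiftDiv i₀ d (h * a) := by
  classical
  have hρ0 : ∀ i, 0 ≤ ρ i := fun i => (hρ i).le
  let K : MvPowerSeries σ ℂ → MvPowerSeries σ ℂ := fun x => shiftDiv i₀ d (x * a)
  let κ := nrm ρ a / ρ i₀ ^ d
  have hκ0 : 0 ≤ κ := div_nonneg (nrm_nonneg hρ0 a) (pow_nonneg (hρ0 i₀) d)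
  have hκ1 : κ < 1 := (div_lt_one (pow_pos (hρ i₀) d)).mpr hlt
  let H : ℕ → MvPowerSeries σ ℂ := fun k => K^[k] G
  have hH : ∀ k, Summ ρ (H k) ∧ nrm ρ (H k) ≤ κ ^ k * nrm ρ G := by
    intro k
    induction k with
    | zero => exact ⟨hG, by simp [H]⟩
    | succ k ih =>
      simp only [H, Function.iterate_succ_apply']
      refine ⟨(ih.1.mul hρ0 ha).shiftDiv hρ, ?_⟩
      calc nrm ρ (K (H k)) ≤ nrm ρ (H k * a) / ρ i₀ ^ d :=
            (le_div_iff₀ (pow_pos (hρ i₀) d)).mpr (nrm_shiftDiv_le hρ (ih.1.mul hρ0 ha))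
        _ ≤ nrm ρ (H k) * nrm ρ a / ρ i₀ ^ d :=
            div_le_div_of_nonneg_right (nrm_mul_le hρ0 ih.1 ha) (pow_nonneg (hρ0 i₀) d)
        _ = nrm ρ (H k) * κ := mul_div_assoc _ _ _
        _ ≤ κ ^ k * nrm ρ G * κ := mul_le_mul_of_nonneg_right ih.2 hκ0
        _ = κ ^ (k + 1) * nrm ρ G := by ring
  have hb : Summable fun k => κ ^ k * nrm ρ G :=
    (summable_geometric_of_lt_one hκ0 hκ1).mul_right _
  have hsn : ∀ α, Summable fun k => ‖coeff α (H k)‖ := fun α =>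
    (hb.mul_right (wt ρ α)⁻¹).of_nonneg_of_le (fun k => norm_nonneg _) fun k => by
      rw [← div_eq_mul_inv, le_div_iff₀ (wt_pos hρ α)]
      exact (coeff_le_nrm hρ0 (hH k).1 α).trans (hH k).2
  let h : MvPowerSeries σ ℂ := fun α => ∑' k, coeff α (H k)
  have hh : Summ ρ h := Summ.of_family hρ0 H _ hb (fun k => (hH k).1) (fun k => (hH k).2) h
    fun α => norm_tsum_le_tsum_norm (hsn α)
  refine ⟨h, hh, MvPowerSeries.ext fun α => ?_⟩
  rw [map_add, coeff_shiftDiv, MvPowerSeries.coeff_mul]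
  have h1 : ∀ p : (σ →₀ ℕ) × (σ →₀ ℕ), Summable fun k => coeff p.1 (H k) * coeff p.2 a :=
    fun p => ((hsn p.1).of_norm).mul_right _
  have h2 : ∑ p ∈ Finset.HasAntidiagonal.antidiagonal (α + Finsupp.single i₀ d),
      coeff p.1 h * coeff p.2 a = ∑' k, coeff α (H (k + 1)) := by
    calc _ = ∑ p ∈ Finset.HasAntidiagonal.antidiagonal (α + Finsupp.single i₀ d),
          ∑' k, coeff p.1 (H k) * coeff p.2 a :=
          Finset.sum_congr rfl fun p _ => by rw [tsum_mul_right]; rfl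
      _ = ∑' k, ∑ p ∈ Finset.HasAntidiagonal.antidiagonal (α + Finsupp.single i₀ d),
          coeff p.1 (H k) * coeff p.2 a := (Summable.tsum_finsetSum fun p _ => h1 p).symm
      _ = _ := tsum_congr fun k => by
          rw [show H (k + 1) = K (H k) from Function.iterate_succ_apply' K k G, coeff_shiftDiv,
            MvPowerSeries.coeff_mul]
  rw [h2]
  exact (hsn α).of_norm.tsum_eq_zero_add

lemma nrm_scale_le (S : Set σ) {ρ' : σ → ℝ} {t : ℝ} (ht1 : t ≤ 1) (ht0 : 0 ≤ t) (hρ : ∀ i, 0 ≤ ρ i)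
    (hS : ∀ i ∈ S, ρ' i ≤ t * ρ i) (h0 : ∀ i, 0 ≤ ρ' i) (hle : ∀ i, ρ' i ≤ ρ i)
    (hF : Summ ρ F) (hsupp : ∀ α, coeff α F ≠ 0 → ∃ i ∈ S, α i ≠ 0) :
    nrm ρ' F ≤ t * nrm ρ F := by
  classical
  rw [nrm, nrm, ← tsum_mul_left]
  refine (hF.mono_radius h0 hle).tsum_le_tsum (fun α => ?_) (Summable.mul_left t hF)
  by_cases hα : coeff α F = 0
  · simp [hα]
  obtain ⟨i, hi, hαi⟩ := hsupp α hα
  rw [mul_left_comm]
  refine mul_le_mul_of_nonneg_left ?_ (norm_nonneg _)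
  rw [wt, wt, ← Finset.mul_prod_erase Finset.univ _ (Finset.mem_univ i),
    ← Finset.mul_prod_erase Finset.univ (fun j => ρ j ^ α j) (Finset.mem_univ i), ← mul_assoc]
  refine mul_le_mul ?_ (Finset.prod_le_prod (fun j _ => pow_nonneg (h0 j) _)
    fun j _ => pow_le_pow_left₀ (h0 j) (hle j) _) (Finset.prod_nonneg fun j _ => pow_nonneg (h0 j) _)
    (mul_nonneg ht0 (pow_nonneg (hρ i) _))
  calc ρ' i ^ α i ≤ (t * ρ i) ^ α i := pow_le_pow_left₀ (h0 i) (hS i hi) _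
    _ = t ^ α i * ρ i ^ α i := mul_pow _ _ _
    _ ≤ t * ρ i ^ α i := mul_le_mul_of_nonneg_right (pow_le_of_le_one ht0 ht1 hαi) (pow_nonneg (hρ i) _)

theorem IsConv.inv (hF : IsConv F) (h0 : MvPowerSeries.constantCoeff F ≠ 0) : IsConv F⁻¹ := by
  classical
  rcases isEmpty_or_nonempty σ with hσ | ⟨⟨i₁⟩⟩
  · refine ⟨1, one_pos, summable_of_ne_finset_zero (s := {0}) fun β hβ => ?_⟩
    exact absurd (Subsingleton.elim β 0) (by simpa using hβ)
  obtain ⟨r, hr, hFr⟩ := hF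
  let v : MvPowerSeries σ ℂ := 1 - MvPowerSeries.C (MvPowerSeries.constantCoeff F)⁻¹ * F
  have hv : Summ (fun _ => r) v := Summ.one.sub (fun _ => hr.le) ((Summ.C _).mul (fun _ => hr.le) hFr)
  have hv0 : MvPowerSeries.constantCoeff v = 0 := by simp [v, h0]
  let t : ℝ := min 1 (1 / (2 * (nrm (fun _ : σ => r) v + 1)))
  have hN := nrm_nonneg (fun _ => hr.le) v
  have ht : 0 < t := lt_min one_pos (by positivity)
  have ht1 : t ≤ 1 := min_le_left _ _
  have htr : t * r ≤ r := mul_le_of_le_one_left hr.le ht1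
  have hsmall : nrm (fun _ : σ => t * r) v < (t * r) ^ 0 := by
    rw [pow_zero]
    refine lt_of_le_of_lt (nrm_scale_le Set.univ ht1 ht.le (fun _ => hr.le) (fun _ _ => le_rfl)
      (fun _ => by positivity) (fun _ => htr) hv fun α hα => ?_) ?_
    · obtain ⟨i, hi⟩ := Finsupp.ne_iff.mp (show α ≠ 0 from fun h => hα (by
        rw [h, MvPowerSeries.coeff_zero_eq_constantCoeff]; exact hv0))
      exact ⟨i, trivial, hi⟩
    · refine lt_of_le_of_lt (mul_le_mul_of_nonneg_right (min_le_right _ _) hN) ?_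
      rw [div_mul_eq_mul_div, one_mul, div_lt_one (by positivity)]
      linarith
  obtain ⟨h, hh, he⟩ := exists_fixed (i₀ := i₁) (d := 0) (fun _ => mul_pos ht hr)
    (hv.mono_radius (fun _ => (mul_pos ht hr).le) fun _ => htr) Summ.one hsmall
  have he' : h = 1 + h * v := by
    conv_lhs => rw [he]
    congr 1
    exact MvPowerSeries.ext fun α => by simp [coeff_shiftDiv]
  have hinv : F⁻¹ = MvPowerSeries.C (MvPowerSeries.constantCoeff F)⁻¹ * h := by
    rw [MvPowerSeries.inv_eq_iff_mul_eq_one h0]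
    have h1 : h * (1 - v) = 1 := by rw [mul_sub, mul_one, sub_eq_iff_eq_add]; exact he'
    rw [← h1]
    simp only [v]
    ring
  exact hinv ▸ ⟨t * r, mul_pos ht hr, (Summ.C _).mul (fun _ => (mul_pos ht hr).le) hh⟩

/-- `F` is regular of order `d` in the variable `w = X i₀`. -/
def IsReg (i₀ : σ) (d : ℕ) (F : MvPowerSeries σ ℂ) : Prop :=
  (∀ j < d, coeff (Finsupp.single i₀ j) F = 0) ∧ coeff (Finsupp.single i₀ d) F ≠ 0

/-- **Weierstrass division**. -/
theorem exists_div {f g : MvPowerSeries σ ℂ} (hf : IsConv f) (hg : IsConv g) (hreg : IsReg i₀ d f) :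
    ∃ q, IsConv q ∧ shiftDiv i₀ d (g - q * f) = 0 := by
  classical
  let c := truncW i₀ d f
  let u := shiftDiv i₀ d f
  have hu0 : MvPowerSeries.constantCoeff u ≠ 0 := by
    rw [← MvPowerSeries.coeff_zero_eq_constantCoeff_apply, coeff_shiftDiv, zero_add]
    exact hreg.2
  obtain ⟨rf, hrf, hfs⟩ := hf
  have hu : IsConv u := ⟨rf, hrf, hfs.shiftDiv fun _ => hrf⟩
  obtain ⟨r₁, hr₁, hus, hgs⟩ := (hu.inv hu0).common hg
  let r := min r₁ rf
  have hr : 0 < r := lt_min hr₁ hrf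
  have hfs' := hfs.mono_radius (ρ := fun _ => r) (fun _ => hr.le) fun _ => min_le_right _ _
  have hus' := hus.mono_radius (ρ := fun _ => r) (fun _ => hr.le) fun _ => min_le_left _ _
  have hgs' := hgs.mono_radius (ρ := fun _ => r) (fun _ => hr.le) fun _ => min_le_left _ _
  let N := nrm (fun _ : σ => r) c * nrm (fun _ : σ => r) u⁻¹ + 1
  have hN0 : 0 < N := add_pos_of_nonneg_of_pos
    (mul_nonneg (nrm_nonneg (fun _ => hr.le) _) (nrm_nonneg (fun _ => hr.le) _)) one_pos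
  let t : ℝ := min 1 (r ^ d / N)
  have ht : 0 < t := lt_min one_pos (div_pos (pow_pos hr d) hN0)
  have ht1 : t ≤ 1 := min_le_left _ _
  let ρ : σ → ℝ := fun i => if i = i₀ then r else t * r
  have hρ : ∀ i, 0 < ρ i := fun i => by simp only [ρ]; split <;> positivity
  have hρ0 : ∀ i, 0 ≤ ρ i := fun i => (hρ i).le
  have hρr : ∀ i, ρ i ≤ r := fun i => by
    simp only [ρ]; split
    · exact le_rfl
    · exact mul_le_of_le_one_left hr.le ht1
  have hcs : Summ (fun _ => r) c := hfs'.truncW fun _ => hr.le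
  have hcsmall : nrm ρ c ≤ t * nrm (fun _ : σ => r) c := by
    refine nrm_scale_le {i | i ≠ i₀} ht1 ht.le (fun _ => hr.le) (fun i hi => ?_) hρ0 hρr hcs fun α hα => ?_
    · simp [ρ, show i ≠ i₀ from hi]
    · rw [coeff_truncW] at hα
      by_contra! hc
      have hαe : α = Finsupp.single i₀ (α i₀) := by
        ext i
        by_cases hi : i = i₀
        · subst hi; simp
        · rw [Finsupp.single_eq_of_ne hi]; exact hc i hi
      by_cases hlt : α i₀ < d
      · rw [if_pos hlt, hαe] at hα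
        exact hα (hreg.1 _ hlt)
      · rw [if_neg hlt] at hα; exact hα rfl
  let a : MvPowerSeries σ ℂ := -(u⁻¹ * c)
  have hucs : Summ ρ (u⁻¹ * c) := (hus'.mono_radius hρ0 hρr).mul hρ0 (hcs.mono_radius hρ0 hρr)
  have hlt : nrm ρ a < ρ i₀ ^ d := by
    rw [nrm_neg]
    calc nrm ρ (u⁻¹ * c) ≤ nrm ρ u⁻¹ * nrm ρ c :=
          nrm_mul_le hρ0 (hus'.mono_radius hρ0 hρr) (hcs.mono_radius hρ0 hρr)
      _ ≤ nrm (fun _ : σ => r) u⁻¹ * (t * nrm (fun _ : σ => r) c) :=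
          mul_le_mul (nrm_mono_radius hρ0 hρr hus') hcsmall (nrm_nonneg hρ0 _) (nrm_nonneg (fun _ => hr.le) _)
      _ = t * (N - 1) := by ring
      _ < t * N := mul_lt_mul_of_pos_left (sub_one_lt N) ht
      _ ≤ ρ i₀ ^ d := by
          rw [show ρ i₀ = r by simp [ρ]]
          exact (le_div_iff₀ hN0).mp (min_le_right _ _)
  obtain ⟨h, hh, he⟩ := exists_fixed (i₀ := i₀) (d := d) hρ hucs.neg
    ((hgs'.mono_radius hρ0 hρr).shiftDiv (i₀ := i₀) (d := d) hρ) hlt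
  refine ⟨h * u⁻¹, (hh.mul hρ0 (hus'.mono_radius hρ0 hρr)).isConv hρ, ?_⟩
  have hfdec := truncW_add_shiftDiv i₀ d f
  have h1 : g - h * u⁻¹ * f = g + h * a - MvPowerSeries.X i₀ ^ d * h := by
    have huu : u⁻¹ * u = 1 := MvPowerSeries.inv_mul_cancel _ hu0
    conv_lhs => rw [← hfdec]
    linear_combination (-(h * MvPowerSeries.X i₀ ^ d)) * huu
  rw [h1, shiftDiv_sub, shiftDiv_add, shiftDiv_X_pow_mul, sub_eq_zero]
  exact he.symm

end Groth.Agent.Lib.AnLoc
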